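import Cfsg.Agent.Lib.Invol.Transfer2
import Cfsg.Agent.S2775
import Cfsg.Agent.Lib.Grp.Cores

/-!
# Transfer of an element carrying its centraliser along; strongly closed four-groups
-/

set_option autoImplicit false
set_option linter.unusedSectionVars false
set_option linter.style.haveILetI false

namespace Cfsg.Agent.Transfer.NoEight

open Subgroup

universe u

variable {G : Type u} [Group G] [Finite G]

/-- Let `M` have index 2 in the Sylow 2-subgroup `T` of a group without subgroups of index 2 and `y ∈ T \ M`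
be such that the conjugates in `T` of the proper even powers of `y` lie in `M`. Then some conjugation carries `y`
into `M` and its centraliser in `T` into `T`. -/
theorem exists_extremal (hG : ∀ H : Subgroup G, H.index ≠ 2) (T : Sylow 2 G) (M : Subgroup G)
    (hMT : M ≤ (T : Subgroup G)) (hM : M.relIndex (T : Subgroup G) = 2) {y : G} (hy : y ∈ (T : Subgroup G))
    (hpow : ∀ (g : G) (j : ℕ), g * y ^ (2 ^ (j + 1)) * g⁻¹ ∈ (T : Subgroup G) →
      g * y ^ (2 ^ (j + 1)) * g⁻¹ ∈ M) :
    ∃ g : G, g * y * g⁻¹ ∈ M ∧ ∀ r ∈ (T : Subgroup G), r * y = y * r → g * r * g⁻¹ ∈ (T : Subgroup G) := by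
  classical
  haveI : Fact (Nat.Prime 2) := ⟨Nat.prime_two⟩
  set S := (T : Subgroup G) with hS
  set M' := M.subgroupOf S with hM'
  have hidx : M'.index = 2 := hM
  haveI hMn : M'.Normal := Subgroup.normal_of_index_eq_two hidx
  let ψ : S →* S ⧸ M' := QuotientGroup.mk' M'
  have hψ : ∀ a : S, ψ a = 1 ↔ (a : G) ∈ M := fun a => by
    rw [QuotientGroup.mk'_apply, QuotientGroup.eq_one_iff]; rfl
  have hQ2 : Nat.card (S ⧸ M') = 2 := hidx
  haveI := isCyclic_of_prime_card hQ2
  letI : CommGroup (S ⧸ M') := IsCyclic.commGroup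
  let V : G →* S ⧸ M' := MonoidHom.transfer ψ
  have htriv : V y = 1 := by
    by_contra hne
    have hr : V.range = ⊤ := by
      rcases (Nat.dvd_prime Nat.prime_two).mp (hQ2 ▸ Subgroup.card_subgroup_dvd_card V.range) with h | h
      · exfalso
        rw [Subgroup.card_eq_one] at h
        exact hne (Subgroup.mem_bot.mp (h ▸ ⟨y, rfl⟩))
      · exact Subgroup.eq_top_of_card_eq _ (h.trans hQ2.symm)
    refine hG V.ker ?_
    rw [Subgroup.index_ker, hr, Subgroup.card_top, hQ2]
  obtain ⟨k, hk⟩ := (IsPGroup.iff_orderOf.1 T.isPGroup') ⟨y, hy⟩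
  rw [← Subgroup.orderOf_coe] at hk
  change orderOf y = 2 ^ k at hk
  let _ := Fintype.ofFinite (Quotient (MulAction.orbitRel (Subgroup.zpowers y) (G ⧸ S)))
  let _ := Fintype.ofFinite (G ⧸ S)
  let per : G ⧸ S → ℕ := fun q => Function.minimalPeriod (y • ·) q
  let P : G ⧸ S → Prop := fun q => q.out⁻¹ * y * q.out ∈ M
  have hlen : ∀ q : G ⧸ S, per q ∣ 2 ^ k := by
    intro q
    refine Function.IsPeriodicPt.minimalPeriod_dvd ?_
    show (y • ·)^[2 ^ k] q = q
    rw [smul_iterate, ← hk, pow_orderOf_eq_one]; exact one_smul G q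
  have hval : ∀ (q : G ⧸ S) (hm : q.out⁻¹ * y ^ per q * q.out ∈ S),
      (ψ ⟨_, hm⟩ ≠ 1 ↔ per q = 1 ∧ ¬ P q) := by
    intro q hm
    rw [Ne, hψ]
    constructor
    · intro h
      by_cases h1 : per q = 1
      · refine ⟨h1, fun hP => h ?_⟩
        show q.out⁻¹ * y ^ per q * q.out ∈ M
        rw [h1, pow_one]; exact hP
      · exfalso
        obtain ⟨j, -, hj⟩ := (Nat.dvd_prime_pow Nat.prime_two).mp (hlen q)
        obtain ⟨i, rfl⟩ : ∃ i, j = i + 1 := ⟨j - 1, by
          rcases j with _ | i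
          · exact absurd hj h1
          · rfl⟩
        refine h ?_
        show q.out⁻¹ * y ^ per q * q.out ∈ M
        rw [hj] at hm ⊢
        have := hpow q.out⁻¹ i (by rw [inv_inv]; exact hm)
        rwa [inv_inv] at this
    · rintro ⟨h1, hP⟩ h
      refine hP ?_
      have : q.out⁻¹ * y ^ per q * q.out ∈ M := h
      rwa [h1, pow_one] at this
  have hsq : ∀ a : S ⧸ M', a ≠ 1 → ∀ b : S ⧸ M', b ≠ 1 → a = b := by
    intro a ha b hb
    obtain ⟨u, v, huv, hu⟩ := Nat.card_eq_two_iff.mp hQ2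
    have hmem : ∀ c : S ⧸ M', c = u ∨ c = v := fun c => by
      have := hu.ge (Set.mem_univ c)
      simpa using this
    rcases hmem a with rfl | rfl <;> rcases hmem b with rfl | rfl <;> rcases hmem 1 with h | h <;>
      first | rfl | exact absurd h.symm ha | exact absurd h.symm hb
  obtain ⟨a, ha⟩ : ∃ a : S ⧸ M', a ≠ 1 := by
    haveI : Nontrivial (S ⧸ M') := Finite.one_lt_card_iff_nontrivial.mp (by rw [hQ2]; norm_num)
    exact exists_ne 1
  have ha2 : orderOf a = 2 := by
    refine orderOf_eq_prime ?_ ha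
    rw [← hQ2]; exact pow_card_eq_one'
  have hprod : V y = a ^ (Finset.univ.filter fun q : Quotient (MulAction.orbitRel (Subgroup.zpowers y) (G ⧸ S)) =>
      per q.out = 1 ∧ ¬ P q.out).card := by
    show MonoidHom.transfer ψ y = _
    rw [MonoidHom.transfer_eq_prod_quotient_orbitRel_zpowers_quot, ← Finset.prod_const, Finset.prod_filter]
    refine Finset.prod_congr rfl fun q _ => ?_
    split_ifs with h
    · exact hsq _ ((hval _ _).mpr h) _ ha
    · exact not_not.1 (mt (hval _ _).mp h)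
  rw [htriv] at hprod
  have heven := orderOf_dvd_iff_pow_eq_one.mpr hprod.symm
  rw [ha2] at heven
  -- fixed cosets
  have hper : ∀ q : G ⧸ S, per q = 1 ↔ y • q = q := fun q => by
    show Function.minimalPeriod (y • ·) q = 1 ↔ _
    rw [Function.minimalPeriod_eq_one_iff_isFixedPt]
    exact Iff.rfl
  have hfixz : ∀ q : G ⧸ S, y • q = q → ∀ r ∈ Subgroup.zpowers y, r • q = q := fun q hq r hr => by
    have h : Subgroup.zpowers y ≤ MulAction.stabilizer G q := Subgroup.zpowers_le.2 hq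
    exact h hr
  have hcount : (Finset.univ.filter fun q : Quotient (MulAction.orbitRel (Subgroup.zpowers y) (G ⧸ S)) =>
      per q.out = 1 ∧ ¬ P q.out).card = Nat.card {q : G ⧸ S // y • q = q ∧ ¬ P q} := by
    rw [Nat.card_eq_fintype_card, Fintype.card_subtype]
    refine Finset.card_bij (fun q _ => q.out) (fun q hq => ?_) (fun q _ q' _ e => ?_) fun b hb => ?_
    · simp only [Finset.mem_filter, Finset.mem_univ, true_and] at hq ⊢
      exact ⟨(hper _).1 hq.1, hq.2⟩
    · exact Quotient.out_injective e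
    · simp only [Finset.mem_filter, Finset.mem_univ, true_and] at hb
      have hout : (Quotient.mk (MulAction.orbitRel (Subgroup.zpowers y) (G ⧸ S)) b).out = b := by
        have h := @Quotient.mk_out _ (MulAction.orbitRel (Subgroup.zpowers y) (G ⧸ S)) b
        obtain ⟨⟨r, hr⟩, hrb⟩ := h
        rw [← hrb]
        exact hfixz b hb.1 r hr
      refine ⟨Quotient.mk _ b, ?_, hout⟩
      simp only [Finset.mem_filter, Finset.mem_univ, true_and, hout]
      exact ⟨(hper _).2 hb.1, hb.2⟩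
  rw [hcount] at heven
  have hodd : Odd (Nat.card {q : G ⧸ S // y • q = q}) := by
    have hR : IsPGroup 2 (Subgroup.zpowers y) := T.isPGroup'.to_le (Subgroup.zpowers_le.2 hy)
    have h := Invol.card_invariant_modEq hR (fun _ : G ⧸ S => True) (fun _ _ _ _ => trivial)
    rw [Nat.card_congr (Equiv.subtypeUnivEquiv (fun _ => trivial)), ← Subgroup.index_eq_card] at h
    have e : Nat.card {q : G ⧸ S // True ∧ ∀ r ∈ Subgroup.zpowers y, r • q = q} =
        Nat.card {q : G ⧸ S // y • q = q} :=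
      Nat.card_congr (Equiv.subtypeEquivRight fun q =>
        ⟨fun h => h.2 y (Subgroup.mem_zpowers y), fun h => ⟨trivial, hfixz q h⟩⟩)
    rw [e] at h
    have hi : S.index % 2 = 1 := by
      have := T.not_dvd_index
      rw [← hS] at this
      omega
    rw [Nat.odd_iff]
    simp only [Nat.ModEq] at h
    omega
  have hsplit : Nat.card {q : G ⧸ S // y • q = q ∧ P q} + Nat.card {q : G ⧸ S // y • q = q ∧ ¬ P q}
      = Nat.card {q : G ⧸ S // y • q = q} := by
    simp only [Nat.card_eq_fintype_card, Fintype.card_subtype]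
    rw [← Finset.card_union_of_disjoint]
    · congr 1
      ext q
      simp only [Finset.mem_union, Finset.mem_filter, Finset.mem_univ, true_and]
      tauto
    · rw [Finset.disjoint_filter]
      tauto
  have hoddP : Odd (Nat.card {q : G ⧸ S // y • q = q ∧ P q}) := by
    rw [Nat.odd_iff] at hodd ⊢
    omega
  -- the centraliser acts on them
  set C := S ⊓ Subgroup.centralizer ({y} : Set G) with hC
  have hinv : ∀ r ∈ C, ∀ q : G ⧸ S, (y • q = q ∧ P q) → (y • (r • q) = r • q ∧ P (r • q)) := by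
    intro r hr q hq
    have hry : r * y = y * r := Subgroup.mem_centralizer_singleton_iff.1 hr.2
    refine ⟨by rw [smul_smul, ← hry, ← smul_smul, hq.1], ?_⟩
    obtain ⟨t, ht⟩ : ∃ t ∈ S, (r • q).out = r * q.out * t := by
      have h1 : (QuotientGroup.mk (r • q).out : G ⧸ S) = QuotientGroup.mk (r * q.out) := by
        rw [QuotientGroup.out_eq', ← smul_eq_mul, ← MulAction.Quotient.smul_mk, QuotientGroup.out_eq']
      exact ⟨_, QuotientGroup.eq.1 h1.symm, (mul_inv_cancel_left _ _).symm⟩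
    show (r • q).out⁻¹ * y * (r • q).out ∈ M
    obtain ⟨htS, ht⟩ := ht
    have hmS : q.out⁻¹ * y * q.out ∈ S := hMT hq.2
    have h2 := hMn.conj_mem ⟨_, hmS⟩ (show (⟨_, hmS⟩ : S) ∈ M' from hq.2) (⟨t, htS⟩ : S)⁻¹
    have e : (r • q).out⁻¹ * y * (r • q).out = t⁻¹ * (q.out⁻¹ * y * q.out) * t := by
      have h3 : r⁻¹ * y * r = y := by rw [mul_assoc, ← hry, inv_mul_cancel_left]
      calc (r • q).out⁻¹ * y * (r • q).out = t⁻¹ * (q.out⁻¹ * (r⁻¹ * y * r) * q.out) * t := by rw [ht]; group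
        _ = _ := by rw [h3]
    rw [e]
    simpa [hM', Subgroup.mem_subgroupOf] using h2
  have hmod := Invol.card_invariant_modEq (T.isPGroup'.to_le (inf_le_left : C ≤ S))
    (fun q : G ⧸ S => y • q = q ∧ P q) hinv
  have hne : Nat.card {q : G ⧸ S // (y • q = q ∧ P q) ∧ ∀ r ∈ C, r • q = q} ≠ 0 := fun e => by
    rw [e] at hmod
    rw [Nat.odd_iff, show Nat.card {q : G ⧸ S // y • q = q ∧ P q} % 2 = 0 from hmod] at hoddP
    omega
  obtain ⟨⟨q, ⟨-, hqP⟩, hqC⟩⟩ := (Nat.card_ne_zero.1 hne).1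
  refine ⟨q.out⁻¹, by rw [inv_inv]; exact hqP, fun r hr hry => ?_⟩
  rw [inv_inv, mul_assoc, ← QuotientGroup.eq, ← smul_eq_mul, ← MulAction.Quotient.smul_mk,
    QuotientGroup.out_eq']
  exact (hqC r ⟨hr, Subgroup.mem_centralizer_singleton_iff.2 hry⟩).symm

/-- In a nonabelian simple group a strongly closed abelian subgroup bounds all elementary 2-subgroups. -/
theorem card_le_of_stronglyClosed [IsSimpleGroup G] (hG : ¬ IsMulCommutative G) (T : Sylow 2 G)
    (A : Subgroup G) (hA : IsMulCommutative ↥A) (hA1 : A ≠ ⊥)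
    (hsc : Cfsg.IsStronglyClosed A (T : Subgroup G)) {E : Subgroup G} (hE : Cfsg.IsElementaryAbelian 2 E) :
    Nat.card E ≤ Nat.card A := by
  haveI : Fact (Nat.Prime 2) := ⟨Nat.prime_two⟩
  set K := Subgroup.normalClosure (A : Set G) with hK
  have hKtop : K = ⊤ := (IsSimpleGroup.eq_bot_or_eq_top_of_normal K inferInstance).resolve_left fun e =>
    hA1 (le_bot_iff.1 (e ▸ Subgroup.le_normalClosure))
  let e : ↥K ≃* G := (MulEquiv.subgroupCongr hKtop).trans Subgroup.topEquiv
  haveI : IsSimpleGroup ↥K := e.isSimpleGroup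
  have hnc : ¬ IsMulCommutative ↥K := fun h => hG ⟨⟨fun a b => by
    obtain ⟨a, rfl⟩ := e.surjective a
    obtain ⟨b, rfl⟩ := e.surjective b
    rw [← map_mul, ← map_mul, h.is_comm.comm]⟩⟩
  have hcard2 : 2 ∣ Nat.card G := by
    obtain ⟨k, hk⟩ := IsPGroup.iff_card.1 (T.isPGroup'.to_le hsc.1)
    have hk0 : k ≠ 0 := fun h0 => hA1 (Subgroup.card_eq_one.1 (by rw [hk, h0, pow_zero]))
    exact (dvd_pow_self 2 hk0).trans (hk ▸ Subgroup.card_subgroup_dvd_card A)
  have hO : Cfsg.pPrimeCore 2 ↥K = ⊥ := by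
    haveI : (Cfsg.pPrimeCore 2 ↥K).Normal := Grp.pPrimeCore_isNormal
    refine (IsSimpleGroup.eq_bot_or_eq_top_of_normal _ inferInstance).resolve_right fun h => ?_
    have h1 := Grp.pPrimeCore_coprime (p := 2) (G := ↥K)
    rw [h, Subgroup.card_top, Nat.card_congr e.toEquiv] at h1
    exact Nat.Prime.not_coprime_iff_dvd.2 ⟨2, Nat.prime_two, hcard2, dvd_rfl⟩ h1
  obtain ⟨-, hc, ⟨T', -, hAT'⟩, -⟩ := S2775.result T A hA hsc K hK ↥K (MonoidHom.id _)
    Function.surjective_id (by rw [hO, MonoidHom.ker_id])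
  have hO2 : Cfsg.pCore 2 ↥K = ⊥ := by
    haveI : (Cfsg.pCore 2 ↥K).Normal := Grp.pCore_isNormal
    refine (IsSimpleGroup.eq_bot_or_eq_top_of_normal _ inferInstance).resolve_right fun h => hnc ?_
    rw [h] at hc
    exact ⟨⟨fun a b => ((Subgroup.mem_center_iff.1 (hc (Subgroup.mem_top a))) b).symm⟩⟩
  rw [hO2, bot_sup_eq, Subgroup.map_id] at hAT'
  set E' := E.map e.symm.toMonoidHom with hE'
  have hE'c : Nat.card E' = Nat.card E := Subgroup.card_map_of_injective e.symm.injective
  have hEp : IsPGroup 2 E' := IsPGroup.map (fun x => ⟨1, Subtype.ext (by simpa using hE.2 _ x.2)⟩) _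
  obtain ⟨S', hS'⟩ := hEp.exists_le_sylow
  obtain ⟨g, hg⟩ := MulAction.exists_smul_eq ↥K S' T'
  have hle : E'.map (MulAut.conj g).toMonoidHom ≤ Cfsg.omegaOne 2 (T' : Subgroup ↥K) := by
    rintro _ ⟨x, hx, rfl⟩
    refine Subgroup.subset_closure ⟨?_, ?_⟩
    · rw [← hg]
      exact ⟨x, hS' hx, rfl⟩
    · obtain ⟨y, hy, rfl⟩ := hx
      rw [← map_pow, ← map_pow, hE.2 y hy, map_one, map_one]
  rw [← hAT'] at hle
  have h1 := Subgroup.card_le_of_le hle
  rw [Subgroup.card_map_of_injective (MulAut.conj g).injective, hE'c] at h1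
  refine h1.trans (le_of_eq ?_)
  exact Nat.card_congr (Subgroup.subgroupOfEquivOfLe (Subgroup.le_normalClosure)).toEquiv

end Cfsg.Agent.Transfer.NoEight
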