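import Cfsg.Prelude
import Cfsg.Agent.Lib.Transfer.NoEight.Xfer
import Cfsg.Agent.Lib.Local.CoreConsumers.FourSetting
import Cfsg.Agent.Lib.Fus.ZStarCenter
import Cfsg.Agent.Lib.Invol.Sylow
import Cfsg.Agent.S0501
import Cfsg.Agent.Lib.Transfer.RankTwo

/-!
# A simple group whose Sylow 2-subgroup has rank at least 3 and no normal elementary subgroup of order 8

The hypotheses and first consequences: central involutions, the centraliser `T₀` of the normal four-group,
sectional rank at most four.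
-/

set_option autoImplicit false
set_option linter.unusedSectionVars false
set_option linter.style.haveILetI false

namespace Cfsg.Agent.Transfer.NoEight

open Subgroup CoreConsumers.Disc
open scoped commutatorElement

universe u

/-- A subgroup is elementary when it consists of commuting elements of square one. -/
theorem elemAb_of {G : Type u} [Group G] {E : Subgroup G} (hc : ∀ a ∈ E, ∀ b ∈ E, a * b = b * a)
    (h2 : ∀ a ∈ E, a * a = 1) : Cfsg.IsElementaryAbelian 2 E :=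
  ⟨⟨⟨fun a b => Subtype.ext (hc a a.2 b b.2)⟩⟩, fun a ha => by rw [pow_two]; exact h2 a ha⟩

theorem elemAb_sq {G : Type u} [Group G] {E : Subgroup G} (hE : Cfsg.IsElementaryAbelian 2 E) {a : G}
    (ha : a ∈ E) : a * a = 1 := by
  rw [← pow_two]; exact hE.2 a ha

theorem elemAb_comm {G : Type u} [Group G] {E : Subgroup G} (hE : Cfsg.IsElementaryAbelian 2 E) {a b : G}
    (ha : a ∈ E) (hb : b ∈ E) : a * b = b * a := Grp.elemAb_comm hE a ha b hb

/-- Commuting elements of square one generate an elementary subgroup. -/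
theorem elemAb_closure {G : Type u} [Group G] (s : Set G) (hc : ∀ a ∈ s, ∀ b ∈ s, a * b = b * a)
    (h2 : ∀ a ∈ s, a * a = 1) : Cfsg.IsElementaryAbelian 2 (closure s) := by
  haveI hcm : IsMulCommutative (closure s) := Subgroup.isMulCommutative_closure hc
  refine ⟨hcm, fun a ha => ?_⟩
  induction ha using closure_induction with
  | mem x hx => rw [pow_two]; exact h2 x hx
  | one => exact one_pow _
  | mul x y hx hy ihx ihy =>
    have : Commute x y := congrArg Subtype.val (hcm.is_comm.comm ⟨x, hx⟩ ⟨y, hy⟩)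
    rw [this.mul_pow, ihx, ihy, one_mul]
  | inv x _ ih => rw [inv_pow, ih, inv_one]

/-- The standing hypotheses. -/
structure Hyp (G : Type u) [Group G] where
  T : Sylow 2 G
  U : Subgroup G
  z : G
  u : G
  four : FourIn T U z
  uU : u ∈ U
  u1 : u ≠ 1
  uz : u ≠ z
  simple : IsSimpleGroup G
  nonab : ¬ IsMulCommutative G
  noEight : ∀ E : Subgroup G, E ≤ (T : Subgroup G) → Cfsg.IsElementaryAbelian 2 E → Nat.card ↥E = 8 →
    ¬ (E.subgroupOf (T : Subgroup G)).Normal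
  rank3 : ∃ F : Subgroup G, F ≤ (T : Subgroup G) ∧ Cfsg.IsElementaryAbelian 2 F ∧ 8 ≤ Nat.card F
  cons : ∀ t ∈ (T : Subgroup G), orderOf t = 2 →
    (centralizer ({t} : Set G) ⊓ (T : Subgroup G)).relIndex (T : Subgroup G) ≤ 2 →
      Cfsg.IsPConstrained 2 ↥(centralizer ({t} : Set G))

namespace Hyp

variable {G : Type u} [Group G] [Finite G] (c : Hyp G)

/-- The Sylow 2-subgroup as a subgroup. -/
abbrev S : Subgroup G := (c.T : Subgroup G)

theorem S_isPGroup : IsPGroup 2 c.S := c.T.isPGroup'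

theorem UleS : c.U ≤ c.S := c.four.le

theorem zU : c.z ∈ c.U := c.four.mem

theorem zS : c.z ∈ c.S := c.UleS c.zU

theorem uS : c.u ∈ c.S := c.UleS c.uU

theorem z2 : c.z * c.z = 1 := c.four.mul_self c.zU

theorem u2 : c.u * c.u = 1 := c.four.mul_self c.uU

theorem z1 : c.z ≠ 1 := c.four.ne_one

theorem zi : c.z⁻¹ = c.z := inv_eq_of_mul_eq_one_right c.z2

theorem ui : c.u⁻¹ = c.u := inv_eq_of_mul_eq_one_right c.u2

theorem zc {g : G} (hg : g ∈ c.S) : g * c.z = c.z * g := (c.four.central g hg).eq.symm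

theorem zu : c.z * c.u = c.u * c.z := (c.zc c.uS).symm

theorem zu1 : c.z * c.u ≠ 1 := fun h => c.uz (by
  rw [eq_inv_of_mul_eq_one_right h, c.zi])

theorem zu_ne_u : c.z * c.u ≠ c.u := fun h => c.z1 (mul_eq_right.1 h)

theorem zu_ne_z : c.z * c.u ≠ c.z := fun h => c.u1 (mul_eq_left.1 h)

theorem Ucases {a : G} (ha : a ∈ c.U) : a = 1 ∨ a = c.z ∨ a = c.u ∨ a = c.z * c.u :=
  c.four.cases c.uU c.u1 c.uz ha

theorem conj_u {x : G} (hx : x ∈ c.S) : x * c.u * x⁻¹ = c.u ∨ x * c.u * x⁻¹ = c.z * c.u :=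
  c.four.conj_cases c.uU c.u1 c.uz hx

theorem Unormal {x a : G} (hx : x ∈ c.S) (ha : a ∈ c.U) : x * a * x⁻¹ ∈ c.U := c.four.normal x hx a ha

theorem card_U : Nat.card c.U = 4 := c.four.card

theorem eight_normal {E : Subgroup G} (hES : E ≤ c.S) (hE : Cfsg.IsElementaryAbelian 2 E)
    (hn : ∀ x ∈ c.S, ∀ e ∈ E, x * e * x⁻¹ ∈ E) : Nat.card E ≤ 4 := by
  haveI : Fact (Nat.Prime 2) := ⟨Nat.prime_two⟩
  by_contra hlt
  push Not at hlt
  have hcard : Nat.card (E.subgroupOf c.S) = Nat.card E :=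
    Nat.card_congr (subgroupOfEquivOfLe hES).toEquiv
  haveI hEn : (E.subgroupOf c.S).Normal := ⟨fun a ha g => hn g g.2 a ha⟩
  have h8 : 2 ^ 3 ≤ Nat.card (E.subgroupOf c.S) := by
    obtain ⟨k, hk⟩ := IsPGroup.iff_card.1 (c.S_isPGroup.to_le hES)
    rw [hcard]
    rw [hk] at hlt ⊢
    refine Nat.pow_le_pow_right two_pos ?_
    by_contra h
    have := Nat.pow_le_pow_right two_pos (show k ≤ 2 by omega)
    omega
  obtain ⟨L, hLn, hLE, hLc⟩ := RankTwo.exists_normal_card c.S_isPGroup (E.subgroupOf c.S) 3 h8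
  refine c.noEight (L.map (Subgroup.subtype c.S)) (map_subtype_le L) ?_ ?_ ?_
  · refine Grp.elemAb_mono hE ?_
    rintro _ ⟨a, ha, rfl⟩
    exact hLE ha
  · rw [card_map_of_injective c.S.subtype_injective, hLc]
    norm_num
  · rw [subgroupOf, comap_map_eq_self_of_injective c.S.subtype_injective]
    exact hLn

/-- An elementary normal subgroup containing `U` is `U`. -/
theorem le_U {E : Subgroup G} (hES : E ≤ c.S) (hE : Cfsg.IsElementaryAbelian 2 E)
    (hn : ∀ x ∈ c.S, ∀ e ∈ E, x * e * x⁻¹ ∈ E) (hU : c.U ≤ E) : E = c.U :=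
  (eq_of_le_of_card_ge hU (by rw [c.card_U]; exact c.eight_normal hES hE hn)).symm

/-- The central involutions of `T` lie in `U`. -/
theorem central_mem_U {a : G} (ha : a ∈ c.S) (ha2 : a * a = 1) (hc : ∀ g ∈ c.S, g * a = a * g) : a ∈ c.U := by
  have hE := elemAb_closure (insert a (c.U : Set G))
    (fun x hx y hy => by
      rcases hx with rfl | hx <;> rcases hy with rfl | hy
      · rfl
      · exact (hc y (c.UleS hy)).symm
      · exact hc x (c.UleS hx)
      · exact elemAb_comm c.four.elem hx hy)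
    (fun x hx => by
      rcases hx with rfl | hx
      · exact ha2
      · exact c.four.mul_self hx)
  have h := c.le_U ((closure_le _).2 (Set.insert_subset ha c.UleS)) hE (fun g hg e he => by
    induction he using closure_induction with
    | mem x hx =>
      rcases hx with rfl | hx
      · rw [hc g hg, mul_inv_cancel_right]
        exact subset_closure (Set.mem_insert x _)
      · exact subset_closure (Set.mem_insert_of_mem a (c.Unormal hg hx))
    | one => simp
    | mul x y _ _ ihx ihy => rw [← conj_mul]; exact mul_mem ihx ihy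
    | inv x _ ih => rw [← conj_inv]; exact inv_mem ih)
    fun x hx => subset_closure (Set.mem_insert_of_mem a hx)
  rw [← h]
  exact subset_closure (Set.mem_insert a _)

/-- The centraliser of `U` in `T`. -/
def T0 : Subgroup G := c.S ⊓ centralizer ({c.u} : Set G)

theorem mem_T0 {g : G} : g ∈ c.T0 ↔ g ∈ c.S ∧ g * c.u = c.u * g := by
  simp only [T0, Subgroup.mem_inf, mem_centralizer_singleton_iff]

theorem T0_le : c.T0 ≤ c.S := inf_le_left

theorem T0_comm {g a : G} (hg : g ∈ c.T0) (ha : a ∈ c.U) : g * a = a * g :=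
  (c.four.commute_all c.uU c.u1 c.uz (c.T0_le hg) (c.mem_T0.1 hg).2 ha).eq

theorem UleT0 : c.U ≤ c.T0 := fun a ha => c.mem_T0.2 ⟨c.UleS ha, elemAb_comm c.four.elem ha c.uU⟩

theorem out {g : G} (hg : g ∈ c.S) (h : g ∉ c.T0) : g * c.u * g⁻¹ = c.z * c.u :=
  (c.conj_u hg).resolve_left fun e => h (c.mem_T0.2 ⟨hg, mul_inv_eq_iff_eq_mul.1 e⟩)

theorem out_mul {a b : G} (ha : a ∈ c.S) (hb : b ∈ c.S) (ha' : a ∉ c.T0) (hb' : b ∉ c.T0) :
    a * b ∈ c.T0 := by
  refine c.mem_T0.2 ⟨mul_mem ha hb, mul_inv_eq_iff_eq_mul.1 ?_⟩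
  rw [show a * b * c.u * (a * b)⁻¹ = a * (b * c.u * b⁻¹) * a⁻¹ by group, c.out hb hb',
    ← conj_mul, c.zc ha, mul_inv_cancel_right, c.out ha ha', ← mul_assoc, c.z2, one_mul]

theorem sq_mem {a : G} (ha : a ∈ c.S) : a * a ∈ c.T0 := by
  by_cases h : a ∈ c.T0
  · exact mul_mem h h
  · exact c.out_mul ha ha h h

theorem T0_normal {g a : G} (hg : g ∈ c.S) (ha : a ∈ c.T0) : g * a * g⁻¹ ∈ c.T0 := by
  by_contra h
  by_cases hgT : g ∈ c.T0
  · exact h (mul_mem (mul_mem hgT ha) (inv_mem hgT))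
  · have hga : g * a ∉ c.T0 := fun e => hgT (by simpa [mul_assoc] using mul_mem e (inv_mem ha))
    exact h (c.out_mul (mul_mem hg (c.T0_le ha)) (inv_mem hg) hga fun e => hgT (inv_mem_iff.1 e))

theorem T0_relIndex {x : G} (hx : x ∈ c.S) (hx' : x ∉ c.T0) : c.T0.relIndex c.S = 2 := by
  refine index_eq_two_iff.2 ⟨⟨x, hx⟩, fun b => ?_⟩
  simp only [mem_subgroupOf, coe_mul]
  by_cases hb : (b : G) ∈ c.T0
  · refine Or.inr ⟨hb, fun e => hx' ?_⟩
    simpa [mul_assoc] using mul_mem (inv_mem hb) e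
  · exact Or.inl ⟨c.out_mul b.2 hx hb hx', hb⟩

/-- When `U` is not central, `z` is the only central involution of `T`. -/
theorem central_eq_z {a : G} (ha : a ∈ c.S) (ha2 : a * a = 1) (ha1 : a ≠ 1)
    (hc : ∀ g ∈ c.S, g * a = a * g) (hT : ¬ c.S ≤ c.T0) : a = c.z := by
  obtain ⟨x, hx, hx'⟩ := SetLike.not_le_iff_exists.1 hT
  rcases c.Ucases (c.central_mem_U ha ha2 hc) with rfl | rfl | rfl | rfl
  · exact absurd rfl ha1
  · rfl
  · exact absurd (c.mem_T0.2 ⟨hx, hc x hx⟩) hx'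
  · refine absurd (c.mem_T0.2 ⟨hx, ?_⟩) hx'
    have h := hc x hx
    rw [← mul_assoc, c.zc hx, mul_assoc, mul_assoc c.z c.u] at h
    exact mul_left_cancel h

theorem no_index_two (c : Hyp G) : ∀ H : Subgroup G, H.index ≠ 2 := fun H h => by
  haveI := c.simple
  haveI := Subgroup.normal_of_index_eq_two h
  rcases IsSimpleGroup.eq_bot_or_eq_top_of_normal H inferInstance with e | e
  · refine c.nonab ?_
    have hG : Nat.card G = 2 := by rw [← Subgroup.index_bot (G := G), ← e, h]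
    haveI : Fact (Nat.Prime 2) := ⟨Nat.prime_two⟩
    haveI := isCyclic_of_prime_card hG
    exact ⟨⟨fun a b => (IsCyclic.commGroup (α := G)).mul_comm a b⟩⟩
  · rw [e, Subgroup.index_top] at h
    omega

/-- No involution of `T` is isolated. -/
theorem exists_conj_ne {a : G} (ha : a ∈ c.S) (ha2 : a * a = 1) (ha1 : a ≠ 1) :
    ∃ g : G, g * a * g⁻¹ ∈ c.S ∧ g * a * g⁻¹ ≠ a := by
  haveI := c.simple
  haveI : Fact (Nat.Prime 2) := ⟨Nat.prime_two⟩
  by_contra h
  push Not at h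
  have hI : Fus.IsoElt c.T a := ⟨ha, h⟩
  have hO : Cfsg.pPrimeCore 2 G = ⊥ := by
    haveI : (Cfsg.pPrimeCore 2 G).Normal := Grp.pPrimeCore_isNormal
    refine (IsSimpleGroup.eq_bot_or_eq_top_of_normal _ inferInstance).resolve_right fun e => ?_
    have h1 := Grp.pPrimeCore_coprime (p := 2) (G := G)
    rw [e, card_top] at h1
    have h2 : orderOf a = 2 := orderOf_eq_prime (by rw [pow_two]; exact ha2) ha1
    exact Nat.Prime.not_coprime_iff_dvd.2 ⟨2, Nat.prime_two, h2 ▸ orderOf_dvd_natCard _, dvd_rfl⟩ h1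
  have hc : a ∈ center G := mem_center_iff.2 fun g => by
    have h1 := Fus.IsoElt.commutator_mem _ G rfl c.T _ hI g
    rw [hO, mem_bot, mul_inv_eq_one, mul_inv_eq_iff_eq_mul] at h1
    exact h1.symm
  rcases IsSimpleGroup.eq_bot_or_eq_top_of_normal (center G) inferInstance with e | e
  · rw [e, mem_bot] at hc; exact ha1 hc
  · exact c.nonab ⟨⟨fun x y => (mem_center_iff.1 (e ▸ mem_top y) x)⟩⟩

/-- `U` is not strongly closed. -/
theorem exists_fused_out : ∃ a ∈ c.U, ∃ g : G, g * a * g⁻¹ ∈ c.S ∧ g * a * g⁻¹ ∉ c.U := by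
  haveI := c.simple
  by_contra h
  push Not at h
  obtain ⟨F, -, hF, h8⟩ := c.rank3
  have := card_le_of_stronglyClosed c.nonab c.T c.U c.four.elem.1
    (fun e => by have := c.card_U; rw [e, Subgroup.card_bot] at this; omega)
    ⟨c.UleS, fun a ha g hg => h a ha g hg⟩ hF
  rw [c.card_U] at this
  omega

theorem sectional : Cfsg.SectionalPRankLE 2 4 c.S := by
  refine S0501.result c.S_isPGroup fun A hAn hA h2 => ?_
  rw [← card_map_of_injective c.S.subtype_injective (K := A)]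
  refine c.eight_normal (map_subtype_le A) ?_ ?_
  · refine elemAb_of ?_ ?_
    · rintro _ ⟨a, ha, rfl⟩ _ ⟨b, hb, rfl⟩
      exact congrArg c.S.subtype (congrArg Subtype.val (hA.is_comm.comm ⟨a, ha⟩ ⟨b, hb⟩))
    · rintro _ ⟨a, ha, rfl⟩
      rw [← map_mul, ← pow_two, h2 a ha, map_one]
  · rintro x hx _ ⟨a, ha, rfl⟩
    exact ⟨⟨x, hx⟩ * a * (⟨x, hx⟩ : c.S)⁻¹, hAn.conj_mem a ha _, rfl⟩

/-- Extremal transfer in `T`. -/
theorem extremal {M : Subgroup G} (hMT : M ≤ c.S) (hM : M.relIndex c.S = 2) {y : G} (hy : y ∈ c.S)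
    (hpow : ∀ (g : G) (j : ℕ), g * y ^ (2 ^ (j + 1)) * g⁻¹ ∈ c.S → g * y ^ (2 ^ (j + 1)) * g⁻¹ ∈ M) :
    ∃ g : G, g * y * g⁻¹ ∈ M ∧ ∀ r ∈ c.S, r * y = y * r → g * r * g⁻¹ ∈ c.S :=
  exists_extremal c.no_index_two c.T M hMT hM hy hpow

/-- A conjugate of `z` can be moved to `z` carrying its centraliser in `T` into `T`. -/
theorem to_z {p : G} (hp : p ∈ c.S) (hpz : ∃ g : G, g * c.z * g⁻¹ = p) :
    ∃ g : G, g * p * g⁻¹ = c.z ∧ ∀ r ∈ c.S, r * p = p * r → g * r * g⁻¹ ∈ c.S := by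
  haveI : Fact (Nat.Prime 2) := ⟨Nat.prime_two⟩
  obtain ⟨g₀, hg₀⟩ := hpz
  set X := centralizer ({c.z} : Set G) with hX
  have hSX : c.S ≤ X := fun s hs => mem_centralizer_singleton_iff.2 (c.zc hs)
  let f : G →* G := (MulAut.conj g₀⁻¹).toMonoidHom
  set D := c.S ⊓ centralizer ({p} : Set G) with hD
  have hfX : D.map f ≤ X := by
    rintro _ ⟨r, hr, rfl⟩
    refine mem_centralizer_singleton_iff.2 ?_
    have h1 : r * p = p * r := mem_centralizer_singleton_iff.1 hr.2
    have h2 := congrArg f h1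
    have e : f p = c.z := by
      rw [← hg₀]; simp [f, mul_assoc]
    rwa [map_mul, map_mul, e] at h2
  have hDp : IsPGroup 2 ((D.map f).subgroupOf X) :=
    ((c.S_isPGroup.to_le inf_le_left).map f).of_equiv (subgroupOfEquivOfLe hfX).symm
  obtain ⟨k, hk⟩ := Invol.exists_conj_subset_sylow hDp (c.T.subtype hSX)
  refine ⟨(k : G) * g₀⁻¹, ?_, fun r hr hrp => ?_⟩
  · rw [← hg₀, show (k : G) * g₀⁻¹ * (g₀ * c.z * g₀⁻¹) * ((k : G) * g₀⁻¹)⁻¹ = (k : G) * c.z * (k : G)⁻¹ by group,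
      mem_centralizer_singleton_iff.1 k.2, mul_inv_cancel_right]
  · have hmem : f r ∈ D.map f := mem_map_of_mem f ⟨hr, mem_centralizer_singleton_iff.2 hrp⟩
    have h := hk ⟨f r, hfX hmem⟩ (mem_subgroupOf.2 hmem)
    have h' : (k : G) * f r * (k : G)⁻¹ ∈ c.S := h
    simpa [f, mul_assoc] using h'

end Hyp

end Cfsg.Agent.Transfer.NoEight
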