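import Cfsg.Agent.Lib.Transfer.NoEight.CaseBFours

/-!
# Case B is impossible

With `z` fused to the other involutions of `U`, the subgroup `T₀` has no involution outside `U`, against the rank.
Otherwise a conjugate `p ≠ z` of `z` in `S` carries `U` to elements of `S` meeting the radical outside `C_R(c₄)`,
which yields a square root of `z` centralising a conjugate of `z`.
-/

set_option autoImplicit false
set_option linter.unusedSectionVars false

namespace Cfsg.Agent.Transfer.NoEight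

open Subgroup CoreConsumers.Disc

universe u

variable {G : Type u} [Group G] [Finite G]

namespace Hyp

variable {c : Hyp G}

namespace Shape

variable (S : c.Shape)

include S in
theorem false_of_fused (hF : c.Fused) : False := by
  obtain ⟨h, hT, -, hz⟩ := hF.exists_norm
  obtain ⟨za, hza⟩ : ∃ za, za = h * c.z * h⁻¹ := ⟨_, rfl⟩
  rw [← hza] at hz
  have hazc : za ∉ zpowers S.w := by
    intro hm
    have h2 : za * za = 1 := by rw [hza, conj_mul, c.z2, mul_one, mul_inv_cancel]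
    rcases S.cyc_invol hm h2 with e | e <;> rcases hz with q | q <;> rw [q] at e
    exacts [c.u1 e, c.zu1 e, c.uz e, c.zu_ne_z e]
  have hcT : ∀ {t}, t ∈ c.T0 → h * t * h⁻¹ ∈ c.T0 := fun {t} ht => (mem_normalizer_iff.1 hT t).1 ht
  have hwT : S.w ∈ c.T0 := c.mem_T0.2 ⟨c.R_le S.wR, S.wu⟩
  rcases Nat.lt_or_ge S.k 3 with hk | hk
  swap
  · -- fourth powers of `T₀` lie in `⟨w⟩`
    have h4 : h * S.w ^ 4 * h⁻¹ ∈ zpowers S.w := by
      have h1 := S.sq _ (S.sq_R (c.T0_le (hcT hwT)))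
      rw [conj_mul, conj_mul] at h1
      convert h1 using 3
      simp [pow_succ, mul_assoc]
    refine hazc ?_
    have hz4 : c.z = (S.w ^ 4) ^ 2 ^ (S.k - 3) := by
      rw [← S.c4_sq, S.c4_eq, ← pow_add, ← pow_mul]
      congr 1
      rw [← two_mul, show S.k - 2 = S.k - 3 + 1 by omega, pow_succ]
      ring
    rw [hza, hz4, ← conj_pow]
    exact pow_mem h4 _
  have hk2 : S.k = 2 := le_antisymm (by omega) S.k2
  have hw4 : S.c4 = S.w := by rw [S.c4_eq, hk2, Nat.sub_self, pow_zero, pow_one]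
  have h4T : S.c4 ∈ c.T0 := hw4 ▸ hwT
  obtain ⟨d, hd⟩ : ∃ d, d = h * S.c4 * h⁻¹ := ⟨_, rfl⟩
  have hdT : d ∈ c.T0 := hd ▸ hcT h4T
  have hdu : d * c.u = c.u * d := (c.mem_T0.1 hdT).2
  have hd2 : d * d = za := by rw [hd, conj_mul, S.c4_sq, hza]
  have hdR : d ∉ c.R := by
    intro hR
    rcases S.cent_u hR (S.small hk2 d hR) hdu with e | e
    · exact hazc (hd2 ▸ mul_mem e e)
    · refine hazc ?_
      have h1 := mul_mem e e
      rwa [(show Commute d c.u from hdu).mul_mul_mul_comm c.u d, c.u2, one_mul, hd2] at h1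
  have hd4 : d * S.c4 = S.c4 * d := by
    have h1 : c.Cls S.c4 (d * S.c4 * d⁻¹) := S.N_c4 (c.S_le_NR (c.T0_le hdT))
    have hx : h⁻¹ * S.c4 * h ∈ c.T0 := (mem_normalizer_iff''.1 hT S.c4).1 h4T
    have h2 : S.c4 * d * S.c4⁻¹ = d ∨ S.c4 * d * S.c4⁻¹ = d * za := by
      have e := S.N_c4 (c.S_le_NR (c.T0_le hx))
      have key : S.c4 * d * S.c4⁻¹ = h * ((h⁻¹ * S.c4 * h) * S.c4 * (h⁻¹ * S.c4 * h)⁻¹) * h⁻¹ := by
        rw [hd]; group
      rw [key]
      rcases e with q | q <;> rw [q]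
      · exact Or.inl hd.symm
      · right; rw [hd, hza, conj_mul]
    rcases h1 with q | q
    · exact mul_inv_eq_iff_eq_mul.1 q
    have q' : d * S.c4 = S.c4 * c.z * d := mul_inv_eq_iff_eq_mul.1 q
    rcases h2 with r | r
    · exact (mul_inv_eq_iff_eq_mul.1 r).symm
    have r' : S.c4 * d = d * za * S.c4 := mul_inv_eq_iff_eq_mul.1 r
    exfalso
    have hzd : c.z * d = d * c.z := (c.zc (c.T0_le hdT)).symm
    have h3 : za * S.c4 = S.c4 * za := by
      have hzS : za ∈ c.T0 := hd2 ▸ mul_mem hdT hdT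
      have h5 : za ∈ c.U := by
        rcases hz with e | e <;> rw [e]
        exacts [c.uU, mul_mem c.zU c.uU]
      exact (c.T0_comm h4T h5).symm
    have h5 : d * S.c4 = d * S.c4 * (za * c.z) := by
      calc d * S.c4 = S.c4 * c.z * d := q'
        _ = S.c4 * d * c.z := by rw [mul_assoc, hzd, ← mul_assoc]
        _ = d * za * S.c4 * c.z := by rw [r']
        _ = d * S.c4 * (za * c.z) := by rw [mul_assoc d, h3]; group
    have h6 : za * c.z = 1 := left_eq_mul.1 h5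
    have h7 : za = c.z := (eq_inv_of_mul_eq_one_left h6).trans c.zi
    exact hazc (h7 ▸ S.zw)
  have hinv : ∀ f ∈ c.T0, f * f = 1 → f ∈ c.U := by
    intro f hf hf2
    have hfu : f * c.u = c.u * f := (c.mem_T0.1 hf).2
    by_cases hR : f ∈ c.R
    · rcases S.cent_u hR (S.small hk2 f hR) hfu with e | e
      · rcases S.cyc_invol e hf2 with q | q <;> rw [q]
        exacts [one_mem _, c.zU]
      · have h1 : c.u * f * (c.u * f) = 1 := by
          rw [(show Commute f c.u from hfu).mul_mul_mul_comm c.u f, c.u2, hf2, one_mul]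
        have hmem : c.u * f ∈ c.U := by
          rcases S.cyc_invol e h1 with q | q <;> rw [q]
          exacts [one_mem _, c.zU]
        have := mul_mem c.uU hmem
        rwa [← mul_assoc, c.u2, one_mul] at this
    · exfalso
      have hrR := S.mul_R (c.T0_le hdT) (c.T0_le hf) hdR hR
      obtain ⟨r, hr⟩ : ∃ r, r = d * f := ⟨_, rfl⟩
      rw [← hr] at hrR
      have hru : r * c.u = c.u * r := hr ▸ ((show Commute d c.u from hdu).mul_left hfu).eq
      have hcomm : ∀ {v}, v ∈ zpowers S.w → Commute d v := fun {v} hv => by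
        obtain ⟨i, rfl⟩ := mem_zpowers_iff.1 hv
        exact (show Commute d S.w from hw4 ▸ hd4).zpow_right i
      have hdr : Commute d r := by
        rcases S.cent_u hrR (S.small hk2 r hrR) hru with e | e
        · exact hcomm e
        · have h1 := (show Commute d c.u from hdu).mul_right (hcomm e)
          rwa [← mul_assoc, c.u2, one_mul] at h1
      have hdf : Commute d f := by
        have h1 := (Commute.refl d).inv_right.mul_right hdr
        rwa [hr, inv_mul_cancel_left] at h1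
      refine hazc ?_
      have h1 := S.sq r hrR
      rwa [hr, hdf.symm.mul_mul_mul_comm d f, hd2, hf2, mul_one] at h1
  obtain ⟨F, hFS, hFe, hF8⟩ := c.rank3
  have hFT : F ≤ c.T0 → False := fun hle => by
    have hFU : F ≤ c.U := fun f hf => hinv f (hle hf) (elemAb_sq hFe hf)
    have := Subgroup.card_le_of_le hFU
    rw [c.card_U] at this
    omega
  by_cases hu : c.u ∈ F
  · exact hFT fun f hf => c.mem_T0.2 ⟨hFS hf, elemAb_comm hFe hf hu⟩
  by_cases hzu : c.z * c.u ∈ F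
  · refine hFT fun f hf => c.mem_T0.2 ⟨hFS hf, ?_⟩
    have h1 : Commute f (c.z * (c.z * c.u)) :=
      (show Commute f c.z from c.zc (hFS hf)).mul_right (elemAb_comm hFe hf hzu)
    rwa [← mul_assoc, c.z2, one_mul] at h1
  have hsmall : ∀ f ∈ F, f ∈ c.T0 → f = 1 ∨ f = c.z := fun f hf hfT => by
    rcases c.Ucases (hinv f hfT (elemAb_sq hFe hf)) with e | e | e | e
    exacts [Or.inl e, Or.inr e, absurd (e ▸ hf) hu, absurd (e ▸ hf) hzu]
  obtain ⟨f₀, hf₀, hf₀T⟩ : ∃ f₀ ∈ F, f₀ ∉ c.T0 := by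
    by_contra hh
    push Not at hh
    exact hFT hh
  have hf₀2 := elemAb_sq hFe hf₀
  have hsub : (F : Set G) ⊆ {1, c.z, f₀, f₀ * c.z} := fun f hf => by
    by_cases hfT : f ∈ c.T0
    · rcases hsmall f hf hfT with e | e
      exacts [Or.inl e, Or.inr (Or.inl e)]
    · rcases hsmall _ (mul_mem hf₀ hf) (c.out_mul (hFS hf₀) (hFS hf) hf₀T hfT) with e | e
      · exact Or.inr (Or.inr (Or.inl ((eq_inv_of_mul_eq_one_right e).trans (inv_eq_of_mul_eq_one_right hf₀2))))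
      · exact Or.inr (Or.inr (Or.inr (by rw [Set.mem_singleton_iff, ← e, ← mul_assoc, hf₀2, one_mul])))
  have h4 : ({1, c.z, f₀, f₀ * c.z} : Set G).ncard ≤ 4 :=
    (Set.ncard_insert_le _ _).trans (Nat.add_le_add_right ((Set.ncard_insert_le _ _).trans
      (Nat.add_le_add_right ((Set.ncard_insert_le _ _).trans (by rw [Set.ncard_singleton])) _)) _)
  have := (Set.ncard_le_ncard hsub (Set.toFinite _)).trans h4
  rw [← Nat.card_coe_set_eq] at this
  have h8 : 8 ≤ Nat.card (F : Set G) := hF8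
  omega

include S in
theorem no_conj_inv (hA : ¬ c.CaseA) (hF : ¬ c.Fused) {i g : G} (hi : S.Inv i) (hg : g * c.z * g⁻¹ = i) :
    False := by
  obtain ⟨k, -, a, ha, hk⟩ := S.conj_U hA hi
  refine hF ⟨k⁻¹ * g, ?_⟩
  have : k⁻¹ * g * c.z * (k⁻¹ * g)⁻¹ = a := by
    rw [show k⁻¹ * g * c.z * (k⁻¹ * g)⁻¹ = k⁻¹ * (g * c.z * g⁻¹) * k by group, hg, ← hk]; group
  rw [this]
  exact ha

/-- A conjugate of `z` centralises no square root of `z` in `S`. -/
theorem noroot (hA : ¬ c.CaseA) (hF : ¬ c.Fused) {p : G} (hp : p ∈ c.S) (hpc : ∃ g : G, g * c.z * g⁻¹ = p)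
    (hpz : p ≠ c.z) {y : G} (hy : y ∈ c.S) (hyp : y * p = p * y) (hy2 : y * y = c.z) (S : c.Shape) : False := by
  obtain ⟨g, hg, hgS⟩ := c.to_z hp hpc
  have hy' : g * y * g⁻¹ ∈ c.S := hgS y hy hyp
  have hzz : g * y * g⁻¹ * (g * y * g⁻¹) = g * c.z * g⁻¹ := by rw [conj_mul, hy2]
  refine S.no_conj_inv hA hF (i := g * c.z * g⁻¹) ⟨hzz ▸ S.sq_R hy', ?_, hzz ▸ S.sq_c4 hy', ?_, ?_⟩ rfl
  · rw [conj_mul, c.z2, mul_one, mul_inv_cancel]
  · exact fun e => c.z1 (conj_eq_one_iff.1 e)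
  · exact fun e => hpz (conj_inj (hg.trans e.symm))

include S in
theorem false_of_not_fused (hA : ¬ c.CaseA) (hF : ¬ c.Fused) : False := by
  obtain ⟨g₀, hpS, hpz⟩ := c.exists_conj_ne c.zS c.z2 c.z1
  obtain ⟨p, hpdef⟩ : ∃ p, p = g₀ * c.z * g₀⁻¹ := ⟨_, rfl⟩
  rw [← hpdef] at hpS hpz
  have hpc : ∃ g : G, g * c.z * g⁻¹ = p := ⟨g₀, hpdef.symm⟩
  have hp2 : p * p = 1 := by rw [hpdef, conj_mul, c.z2, mul_one, mul_inv_cancel]
  have hp4 : p * S.c4 * p⁻¹ = S.c4 * c.z := by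
    refine (S.N_c4 (c.S_le_NR hpS)).resolve_left fun e => ?_
    exact noroot hA hF hpS hpc hpz S.c4S (mul_inv_eq_iff_eq_mul.1 e).symm S.c4_sq S
  have hpT : p ∈ c.T0 := by
    by_contra hno
    have hq2 : c.u * S.c4 * (c.u * S.c4) = c.z := by
      rw [(show Commute S.c4 c.u from S.c4u).mul_mul_mul_comm c.u S.c4, c.u2, S.c4_sq, one_mul]
    refine noroot hA hF hpS hpc hpz (mul_mem c.uS S.c4S) (mul_inv_eq_iff_eq_mul.1 ?_).symm hq2 S
    rw [← conj_mul, c.out hpS hno, hp4, ← c.zcR S.c4R |>.symm, mul_assoc, ← mul_assoc c.u,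
      show c.u * c.z = c.z * c.u from c.uz_comm, mul_assoc c.z c.u, ← mul_assoc c.z, c.z2, one_mul]
  obtain ⟨g, hg, hgS⟩ := c.to_z hpS hpc
  have hUS : ∀ {a}, a ∈ c.U → g * a * g⁻¹ ∈ c.S := fun {a} ha => hgS a (c.UleS ha) (c.T0_comm hpT ha).symm
  have hUne : ∀ {a}, a ∈ c.U → a ≠ 1 → g * a * g⁻¹ ∈ c.R → g * a * g⁻¹ * S.c4 = S.c4 * (g * a * g⁻¹) → False := by
    intro a ha ha1 hR h4
    have hiz : g * a * g⁻¹ ≠ c.z := fun e => by
      have hap : a = p := conj_inj (e.trans hg.symm)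
      subst hap
      rcases c.Ucases ha with q | q | q | q
      · exact ha1 q
      · exact hpz q
      · exact hF ⟨g₀, Or.inl (hpdef.symm.trans q)⟩
      · exact hF ⟨g₀, Or.inr (hpdef.symm.trans q)⟩
    have hi : S.Inv (g * a * g⁻¹) :=
      ⟨hR, by rw [conj_mul, c.four.mul_self ha, mul_one, mul_inv_cancel], h4,
        fun e => ha1 (conj_eq_one_iff.1 e), hiz⟩
    by_cases haz : a = c.z
    · exact S.no_conj_inv hA hF hi (by rw [haz])
    obtain ⟨k, hk, a', ha', hka⟩ := S.conj_U hA hi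
    have ha'U : a' ∈ c.U := by
      rcases ha' with e | e <;> rw [e]
      exacts [c.uU, mul_mem c.zU c.uU]
    have ha'1 : a' ≠ 1 := by
      rcases ha' with e | e <;> rw [e]
      exacts [c.u1, c.zu1]
    have ha'z : a' ≠ c.z := by
      rcases ha' with e | e <;> rw [e]
      exacts [c.uz, c.zu_ne_z]
    have hha : g⁻¹ * k * a' * (g⁻¹ * k)⁻¹ = a := by
      rw [show g⁻¹ * k * a' * (g⁻¹ * k)⁻¹ = g⁻¹ * (k * a' * k⁻¹) * g by group, hka]; group
    have hhz : g⁻¹ * k * c.z * (g⁻¹ * k)⁻¹ = p := by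
      rw [show g⁻¹ * k * c.z * (g⁻¹ * k)⁻¹ = g⁻¹ * (k * c.z * k⁻¹) * g by group,
        mem_centralizer_singleton_iff.1 hk, mul_inv_cancel_right, ← hg]
      group
    refine hpz (hhz.symm.trans (value_unique hF ha ha1 haz ha'U ha'1 ha'z hha
      (P := c.S ⊓ centralizer ({a} : Set G)) (c.S_isPGroup.to_le inf_le_left) inf_le_right
      ⟨c.zS, mem_centralizer_singleton_iff.2 (c.zc (c.UleS ha)).symm⟩ ?_))
    rw [hhz]
    exact ⟨hpS, mem_centralizer_singleton_iff.2 (c.T0_comm hpT ha)⟩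
  -- some nonidentity element of `U` goes into the radical
  obtain ⟨a, ha, ha1, haR⟩ : ∃ a ∈ c.U, a ≠ 1 ∧ g * a * g⁻¹ ∈ c.R := by
    by_cases h1 : g * c.z * g⁻¹ ∈ c.R
    · exact ⟨c.z, c.zU, c.z1, h1⟩
    by_cases h2 : g * c.u * g⁻¹ ∈ c.R
    · exact ⟨c.u, c.uU, c.u1, h2⟩
    exact ⟨c.z * c.u, mul_mem c.zU c.uU, c.zu1, by
      rw [← conj_mul]; exact S.mul_R (hUS c.zU) (hUS c.uU) h1 h2⟩
  obtain ⟨q, hqR, hq2, hqe⟩ := S.q_fix haR (hUne ha ha1 haR)
  have hz'S : g * c.z * g⁻¹ ∈ c.S := hUS c.zU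
  have hz'z : g * c.z * g⁻¹ ≠ c.z := fun e => hpz (conj_inj (hg.trans e.symm))
  refine noroot hA hF hz'S ⟨g, rfl⟩ hz'z (c.R_le hqR) ?_ hq2 S
  by_cases haz : a = c.z
  · subst haz
    exact hqe.symm
  let P : Subgroup G := (c.S ⊓ centralizer ({g * a * g⁻¹} : Set G)).map (MulAut.conj g⁻¹).toMonoidHom
  have hPC : P ≤ centralizer ({a} : Set G) := by
    rintro x ⟨y, hy, rfl⟩
    have h1 : y * (g * a * g⁻¹) = g * a * g⁻¹ * y := mem_centralizer_singleton_iff.1 hy.2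
    refine mem_centralizer_singleton_iff.2 ?_
    show g⁻¹ * y * g⁻¹⁻¹ * a = a * (g⁻¹ * y * g⁻¹⁻¹)
    calc g⁻¹ * y * g⁻¹⁻¹ * a = g⁻¹ * (y * (g * a * g⁻¹)) * g := by group
      _ = g⁻¹ * (g * a * g⁻¹ * y) * g := by rw [h1]
      _ = a * (g⁻¹ * y * g⁻¹⁻¹) := by group
  have hzP : c.z ∈ P := ⟨g * c.z * g⁻¹, ⟨hz'S, mem_centralizer_singleton_iff.2
    (conj_comm (c.T0_comm (c.UleT0 c.zU) ha))⟩, by simp [mul_assoc]⟩
  have hxP : g⁻¹ * q * g ∈ P := ⟨q, ⟨c.R_le hqR, mem_centralizer_singleton_iff.2 hqe.symm⟩, by simp⟩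
  have hx := isolated hF ha ha1 haz
    ((c.S_isPGroup.to_le inf_le_left).map _) hPC hzP hxP
  calc q * (g * c.z * g⁻¹) = g * (g⁻¹ * q * g * c.z) * g⁻¹ := by group
    _ = g * (c.z * (g⁻¹ * q * g)) * g⁻¹ := by rw [hx]
    _ = g * c.z * g⁻¹ * q := by group

end Shape

/-- Case B does not occur. -/
theorem caseB_false (hconn : c.Conn) (hA : ¬ c.CaseA) : False := by
  obtain ⟨S⟩ := c.exists_shape_or_false hconn hA
  by_cases hF : c.Fused
  · exact S.false_of_fused hF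
  · exact S.false_of_not_fused hA hF

end Hyp

end Cfsg.Agent.Transfer.NoEight
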