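import Cfsg.Agent.Lib.Transfer.NoEight.CaseBShape

/-!
# Case B: the three four-groups of the radical

The involutions of `C_R(c₄)` outside `⟨z⟩` fall into three classes modulo `z`, permuted by `N_{C(z)}(R)`.  The
kernel meets `S` in `R`, the elements of `S \ R` interchange the two classes not containing `u`, and every such
involution is conjugate in `C(z)` to an element of `U`.
-/

set_option autoImplicit false
set_option linter.unusedSectionVars false

namespace Cfsg.Agent.Transfer.NoEight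

open Subgroup CoreConsumers.Disc

universe u

variable {G : Type u} [Group G] [Finite G]

/-- An element of odd order moving `x` by a fixed 2-element fixes `x`. -/
theorem odd_fix {g x t : G} (hg : Odd (orderOf g)) (hgt : g * t = t * g) (h : g * x * g⁻¹ = x * t) {j : ℕ}
    (ht : t ^ 2 ^ j = 1) : t = 1 := by
  have hn : ∀ n : ℕ, g ^ n * x * (g ^ n)⁻¹ = x * t ^ n := by
    intro n
    induction n with
    | zero => simp
    | succ n ih =>
      rw [pow_succ' g, mul_inv_rev, show g * g ^ n * x * ((g ^ n)⁻¹ * g⁻¹) = g * (g ^ n * x * (g ^ n)⁻¹) * g⁻¹ by group,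
        ih, ← conj_mul, h, ((show Commute g t from hgt).pow_right n).eq, mul_inv_cancel_right, mul_assoc, ← pow_succ']
  have h1 := hn (orderOf g)
  rw [pow_orderOf_eq_one, one_mul, inv_one, mul_one] at h1
  have h2 : t ^ orderOf g = 1 := left_eq_mul.1 h1
  rw [← orderOf_eq_one_iff]
  exact Nat.eq_one_of_dvd_coprimes ((Nat.coprime_two_right.2 hg).pow_right j)
    (orderOf_dvd_of_pow_eq_one h2) (orderOf_dvd_of_pow_eq_one ht)

namespace Hyp

variable (c : Hyp G)

theorem zR : c.z ∈ c.R := c.U_le_R c.zU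

theorem uR : c.u ∈ c.R := c.U_le_R c.uU

theorem zcR {r : G} (hr : r ∈ c.R) : r * c.z = c.z * r := c.zc (c.R_le hr)

theorem zcN {n : G} (hn : n ∈ c.NR) : n * c.z = c.z * n := mem_centralizer_singleton_iff.1 hn.1

theorem NR_conj {n r : G} (hn : n ∈ c.NR) (hr : r ∈ c.R) : n * r * n⁻¹ ∈ c.R :=
  (mem_normalizer_iff.1 hn.2 r).1 hr

theorem NR_conj_z {n : G} (hn : n ∈ c.NR) : n * c.z * n⁻¹ = c.z := by
  rw [c.zcN hn, mul_inv_cancel_right]

/-- `j` is `i` modulo `z`. -/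
def Cls (i j : G) : Prop := j = i ∨ j = i * c.z

variable {c}

theorem Cls.rfl' {i : G} : c.Cls i i := Or.inl rfl

theorem Cls.symm {i j : G} (h : c.Cls i j) : c.Cls j i := by
  rcases h with rfl | rfl
  · exact Or.inl rfl
  · right; rw [mul_assoc, c.z2, mul_one]

theorem Cls.trans {i j l : G} (h : c.Cls i j) (h' : c.Cls j l) : c.Cls i l := by
  rcases h with rfl | rfl <;> rcases h' with rfl | rfl
  · exact Or.inl rfl
  · exact Or.inr rfl
  · exact Or.inr rfl
  · left; rw [mul_assoc, c.z2, mul_one]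

theorem Cls.conj {i j n : G} (h : c.Cls i j) (hn : n ∈ c.NR) : c.Cls (n * i * n⁻¹) (n * j * n⁻¹) := by
  rcases h with rfl | rfl
  · exact Or.inl rfl
  · right; rw [← conj_mul, c.NR_conj_z hn]

theorem Cls.comm {i i' j : G} (h : c.Cls i i') (hj : j ∈ c.R) (hc : i * j = j * i) : i' * j = j * i' := by
  rcases h with rfl | rfl
  · exact hc
  · exact ((show Commute i j from hc).mul_left (show Commute c.z j from (c.zcR hj).symm)).eq

namespace Shape

variable (S : c.Shape)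

theorem c4R : S.c4 ∈ c.R := by rw [S.c4_eq]; exact pow_mem S.wR _

theorem c4S : S.c4 ∈ c.S := c.R_le S.c4R

theorem c4w : S.c4 ∈ zpowers S.w := by rw [S.c4_eq]; exact pow_mem (mem_zpowers _) _

theorem zw : c.z ∈ zpowers S.w := by rw [← S.c4_sq]; exact mul_mem S.c4w S.c4w

theorem cyc_comm {v v' : G} (hv : v ∈ zpowers S.w) (hv' : v' ∈ zpowers S.w) : v * v' = v' * v := by
  obtain ⟨i, rfl⟩ := mem_zpowers_iff.1 hv
  obtain ⟨j, rfl⟩ := mem_zpowers_iff.1 hv'
  exact (((Commute.refl S.w).zpow_left i).zpow_right j).eq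

theorem cyc_a {v : G} (hv : v ∈ zpowers S.w) : v * S.a = S.a * v := by
  obtain ⟨i, rfl⟩ := mem_zpowers_iff.1 hv
  exact ((show Commute S.w S.a from S.wa).zpow_left i).eq

theorem cyc_b {v : G} (hv : v ∈ zpowers S.w) : v * S.b = S.b * v := by
  obtain ⟨i, rfl⟩ := mem_zpowers_iff.1 hv
  exact ((show Commute S.w S.b from S.wb).zpow_left i).eq

theorem cyc_invol {v : G} (hv : v ∈ zpowers S.w) (hv2 : v * v = 1) : v = 1 ∨ v = c.z := by
  have hk : 0 < 2 := two_pos
  have h := Grp.Symplectic.mem_line hk S.w_ord hv 1 (by rw [pow_one, pow_two]; exact hv2)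
  have hz : S.w ^ 2 ^ (S.k - 1) = c.z := by
    have := S.k2
    rw [← S.c4_sq, S.c4_eq, ← pow_add, ← two_mul, ← pow_succ', show S.k - 2 + 1 = S.k - 1 by omega]
  rw [hz] at h
  obtain ⟨i, rfl⟩ := mem_zpowers_iff.1 h
  rcases Int.even_or_odd i with ⟨l, rfl⟩ | ⟨l, rfl⟩
  · left; rw [← two_mul, zpow_mul, zpow_two, c.z2, one_zpow]
  · right; rw [zpow_add, zpow_mul, zpow_two, c.z2, one_zpow, one_mul, zpow_one]

theorem sq_z_cyc {v : G} (hv : v ∈ zpowers S.w) (hv2 : v * v = c.z) : v = S.c4 ∨ v = S.c4 * c.z := by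
  have h1 : v * S.c4 * (v * S.c4) = 1 := by
    rw [(show Commute S.c4 v from S.cyc_comm S.c4w hv).mul_mul_mul_comm v S.c4, hv2, S.c4_sq, c.z2]
  have hi : S.c4⁻¹ = S.c4 * c.z :=
    inv_eq_of_mul_eq_one_right (by rw [← mul_assoc, S.c4_sq, c.z2])
  rcases S.cyc_invol (mul_mem hv S.c4w) h1 with h | h
  · right; rw [eq_inv_of_mul_eq_one_left h, hi]
  · left
    rw [eq_mul_inv_of_mul_eq h, hi, S.cyc_comm S.c4w S.zw, ← mul_assoc, c.z2, one_mul]

theorem c4a : S.c4 * S.a = S.a * S.c4 := S.cyc_a S.c4w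

theorem c4b : S.c4 * S.b = S.b * S.c4 := S.cyc_b S.c4w

theorem ab_ne : S.a * S.b ≠ S.b * S.a := fun h => by
  have h1 := S.ab
  rw [h] at h1
  exact c.z1 (right_eq_mul.1 h1)

theorem aab_ne : S.a * (S.a * S.b) ≠ S.a * S.b * S.a := fun h => S.ab_ne (by
  have h1 : S.a * (S.a * S.b) * S.a = S.a * S.b := by
    rw [h, mul_assoc, S.a2, mul_one]
  rw [← mul_assoc, S.a2, one_mul] at h1
  exact h1.symm)

theorem bab_ne : S.b * (S.a * S.b) ≠ S.a * S.b * S.b := fun h => S.ab_ne (by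
  rw [mul_assoc S.a, S.b2, mul_one] at h
  calc S.a * S.b = (S.b * (S.a * S.b)) * S.b := by rw [h]
    _ = S.b * S.a := by rw [mul_assoc, mul_assoc, S.b2, mul_one])

theorem ab2 : S.a * S.b * (S.a * S.b) = c.z := by
  calc S.a * S.b * (S.a * S.b) = S.a * S.b * (c.z * (S.b * S.a)) := by rw [← S.ab]
    _ = c.z * (S.a * (S.b * S.b) * S.a) := by
        rw [← mul_assoc, c.zcR (mul_mem S.aR S.bR)]; group
    _ = c.z := by rw [S.b2, mul_one, S.a2, mul_one]

theorem c4u : S.c4 * c.u = c.u * S.c4 := by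
  rcases Nat.lt_or_ge S.k 3 with h | h
  · exact (S.small (le_antisymm (by omega) S.k2) _ c.uR).symm
  · have hsq : S.c4 = S.w ^ 2 ^ (S.k - 3) * S.w ^ 2 ^ (S.k - 3) := by
      rw [S.c4_eq, ← pow_add, ← two_mul, ← pow_succ', show S.k - 3 + 1 = S.k - 2 by omega]
    rw [hsq]
    exact (c.mem_T0.1 (c.sq_mem (c.R_le (pow_mem S.wR _)))).2

/-- The elements of `C_R(c₄)`. -/
theorem dec {r : G} (hr : r ∈ c.R) (h : r * S.c4 = S.c4 * r) :
    ∃ q, (q = 1 ∨ q = S.a ∨ q = S.b ∨ q = S.a * S.b) ∧ ∃ v ∈ zpowers S.w, r = q * v := by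
  rcases S.form r hr h with e | e | e | e
  · exact ⟨1, Or.inl rfl, r, e, (one_mul r).symm⟩
  · exact ⟨S.a, Or.inr (Or.inl rfl), _, e, by rw [← mul_assoc, S.a2, one_mul]⟩
  · exact ⟨S.b, Or.inr (Or.inr (Or.inl rfl)), _, e, by rw [← mul_assoc, S.b2, one_mul]⟩
  · refine ⟨S.a * S.b, Or.inr (Or.inr (Or.inr rfl)), c.z * (S.a * S.b * r), mul_mem S.zw e, ?_⟩
    rw [← mul_assoc, c.zcR (mul_mem S.aR S.bR), mul_assoc, ← mul_assoc (S.a * S.b), S.ab2, ← mul_assoc, c.z2,
      one_mul]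

theorem comm_w {r : G} (hr : r ∈ c.R) (h : r * S.c4 = S.c4 * r) {v : G} (hv : v ∈ zpowers S.w) :
    r * v = v * r := by
  obtain ⟨q, hq, v', hv', rfl⟩ := S.dec hr h
  have h1 : Commute q v := by
    rcases hq with e | e | e | e <;> rw [e]
    exacts [Commute.one_left _, (S.cyc_a hv).symm, (S.cyc_b hv).symm,
      (show Commute S.a v from (S.cyc_a hv).symm).mul_left (show Commute S.b v from (S.cyc_b hv).symm)]
  exact (h1.mul_left (show Commute v' v from S.cyc_comm hv' hv)).eq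

theorem wu : S.w * c.u = c.u * S.w := (S.comm_w c.uR S.c4u.symm (mem_zpowers _)).symm

theorem centre_form {r : G} (hr : r ∈ c.R) (h : r * S.c4 = S.c4 * r) (ha : r * S.a = S.a * r)
    (hb : r * S.b = S.b * r) : r ∈ zpowers S.w := by
  obtain ⟨q, hq, v, hv, rfl⟩ := S.dec hr h
  have hqa : q * S.a = S.a * q := by
    rw [mul_assoc, S.cyc_a hv, ← mul_assoc, ← mul_assoc] at ha
    exact mul_right_cancel ha
  have hqb : q * S.b = S.b * q := by
    rw [mul_assoc, S.cyc_b hv, ← mul_assoc, ← mul_assoc] at hb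
    exact mul_right_cancel hb
  rcases hq with rfl | rfl | rfl | rfl
  · rwa [one_mul]
  · exact absurd hqb S.ab_ne
  · exact absurd hqa.symm S.ab_ne
  · exact absurd hqa.symm S.aab_ne

theorem cent_u {r : G} (hr : r ∈ c.R) (h : r * S.c4 = S.c4 * r) (hu : r * c.u = c.u * r) :
    r ∈ zpowers S.w ∨ c.u * r ∈ zpowers S.w := by
  obtain ⟨q₀, hq₀, v₀, hv₀, he₀⟩ := S.dec c.uR S.c4u.symm
  obtain ⟨q, hq, v, hv, rfl⟩ := S.dec hr h
  have hv' : ∀ {q v : G}, (q = 1 ∨ q = S.a ∨ q = S.b ∨ q = S.a * S.b) → v ∈ zpowers S.w → Commute q v := by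
    intro q v hq hv
    rcases hq with e | e | e | e <;> rw [e]
    exacts [Commute.one_left _, (S.cyc_a hv).symm, (S.cyc_b hv).symm,
      (show Commute S.a v from (S.cyc_a hv).symm).mul_left (show Commute S.b v from (S.cyc_b hv).symm)]
  have hc : q * q₀ = q₀ * q := by
    rw [he₀, (hv' hq₀ hv).symm.mul_mul_mul_comm q v₀, (hv' hq hv₀).symm.mul_mul_mul_comm q₀ v,
      S.cyc_comm hv₀ hv] at hu
    exact mul_right_cancel hu
  have hsq : q * q ∈ zpowers S.w := by
    rcases hq with e | e | e | e <;> rw [e]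
    · rw [one_mul]; exact one_mem _
    · rw [S.a2]; exact one_mem _
    · rw [S.b2]; exact one_mem _
    · rw [S.ab2]; exact S.zw
  have hne : q₀ ≠ 1 := fun e => by
    rw [e, one_mul] at he₀
    rcases S.cyc_invol (he₀ ▸ hv₀) c.u2 with q | q
    exacts [c.u1 q, c.uz q]
  have : q = 1 ∨ q = q₀ := by
    rcases hq₀ with e₀ | e₀ | e₀ | e₀ <;> rcases hq with e | e | e | e <;> rw [e, e₀] at hc ⊢ <;>
      first
        | exact absurd e₀ hne
        | exact Or.inl rfl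
        | exact Or.inr rfl
        | exact absurd hc S.ab_ne
        | exact absurd hc.symm S.ab_ne
        | exact absurd hc S.aab_ne
        | exact absurd hc.symm S.aab_ne
        | exact absurd hc S.bab_ne
        | exact absurd hc.symm S.bab_ne
  rcases this with e | e
  · left; rw [e, one_mul]; exact hv
  · right
    rw [he₀, ← e, (hv' hq hv₀).symm.mul_mul_mul_comm q v]
    exact mul_mem hsq (mul_mem hv₀ hv)

theorem N_c4 {n : G} (hn : n ∈ c.NR) : c.Cls S.c4 (n * S.c4 * n⁻¹) := by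
  have hsq : n * S.c4 * n⁻¹ * (n * S.c4 * n⁻¹) = c.z := by rw [conj_mul, S.c4_sq, c.NR_conj_z hn]
  refine S.sq_z_cyc ?_ hsq
  rcases Nat.lt_or_ge S.k 3 with h | h
  · have hk : S.k = 2 := le_antisymm (by omega) S.k2
    have hall : ∀ s ∈ c.R, n * S.c4 * n⁻¹ * s = s * (n * S.c4 * n⁻¹) := by
      intro s hs
      have h1 : n⁻¹ * s * n ∈ c.R := by
        have := c.NR_conj (inv_mem hn) hs
        rwa [inv_inv] at this
      have h2 := congrArg (fun g => n * g * n⁻¹) (S.small hk _ h1).symm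
      simpa [mul_assoc] using h2
    exact S.centre_form (c.NR_conj hn S.c4R) (hall _ S.c4R) (hall _ S.aR) (hall _ S.bR)
  · have e : S.c4 = S.w ^ 2 ^ (S.k - 3) * S.w ^ 2 ^ (S.k - 3) := by
      rw [S.c4_eq, ← pow_add, ← two_mul, ← pow_succ', show S.k - 3 + 1 = S.k - 2 by omega]
    rw [e, ← conj_mul]
    exact S.sq _ (c.NR_conj hn (pow_mem S.wR _))

/-- The involutions of `C_R(c₄)` outside `⟨z⟩`. -/
def Inv (i : G) : Prop := i ∈ c.R ∧ i * i = 1 ∧ i * S.c4 = S.c4 * i ∧ i ≠ 1 ∧ i ≠ c.z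

theorem inv_u : S.Inv c.u := ⟨c.uR, c.u2, S.c4u.symm, c.u1, c.uz⟩

theorem Inv.conj {S : c.Shape} {i n : G} (hi : S.Inv i) (hn : n ∈ c.NR) : S.Inv (n * i * n⁻¹) := by
  obtain ⟨h1, h2, h3, h4, h5⟩ := hi
  refine ⟨c.NR_conj hn h1, by rw [conj_mul, h2, mul_one, mul_inv_cancel], ?_, fun e => h4 (conj_eq_one_iff.1 e),
    fun e => h5 ?_⟩
  · have h6 : n * i * n⁻¹ * (n * S.c4 * n⁻¹) = n * S.c4 * n⁻¹ * (n * i * n⁻¹) := by rw [conj_mul, conj_mul, h3]
    exact ((S.N_c4 hn).symm.comm (c.NR_conj hn h1) h6.symm).symm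
  · exact conj_inj (e.trans (c.NR_conj_z hn).symm)

theorem Inv.mul_z {S : c.Shape} {i : G} (hi : S.Inv i) : S.Inv (i * c.z) := by
  obtain ⟨h1, h2, h3, h4, h5⟩ := hi
  refine ⟨mul_mem h1 c.zR, ?_, ?_, fun e => h5 ((eq_inv_of_mul_eq_one_left e).trans c.zi), fun e => h4 (mul_eq_right.1 e)⟩
  · rw [(show Commute c.z i from (c.zcR h1).symm).mul_mul_mul_comm i c.z, h2, c.z2, one_mul]
  · exact ((show Commute i S.c4 from h3).mul_left (show Commute c.z S.c4 from (c.zcR S.c4R).symm)).eq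

/-- The third involution. -/
theorem classify {i : G} (hi : S.Inv i) :
    c.Cls S.a i ∨ c.Cls S.b i ∨ c.Cls (S.a * S.b * S.c4) i := by
  obtain ⟨hiR, hi2, hi4, hi1, hiz⟩ := hi
  obtain ⟨q, hq, v, hv, rfl⟩ := S.dec hiR hi4
  have hqv : Commute q v := by
    rcases hq with e | e | e | e <;> rw [e]
    exacts [Commute.one_left _, (S.cyc_a hv).symm, (S.cyc_b hv).symm,
      (show Commute S.a v from (S.cyc_a hv).symm).mul_left (show Commute S.b v from (S.cyc_b hv).symm)]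
  rw [hqv.symm.mul_mul_mul_comm q v] at hi2
  rcases hq with rfl | rfl | rfl | rfl
  · rw [one_mul, one_mul] at hi2
    rcases S.cyc_invol hv hi2 with rfl | rfl
    · exact absurd (one_mul 1) hi1
    · exact absurd (one_mul c.z) hiz
  · rw [S.a2, one_mul] at hi2
    rcases S.cyc_invol hv hi2 with rfl | rfl
    · exact Or.inl (Or.inl (mul_one _))
    · exact Or.inl (Or.inr rfl)
  · rw [S.b2, one_mul] at hi2
    rcases S.cyc_invol hv hi2 with rfl | rfl
    · exact Or.inr (Or.inl (Or.inl (mul_one _)))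
    · exact Or.inr (Or.inl (Or.inr rfl))
  · rw [S.ab2] at hi2
    have hv2 : v * v = c.z := (eq_inv_of_mul_eq_one_right hi2).trans c.zi
    rcases S.sq_z_cyc hv hv2 with rfl | rfl
    · exact Or.inr (Or.inr (Or.inl rfl))
    · exact Or.inr (Or.inr (Or.inr (mul_assoc _ _ _).symm))

theorem inv_a : S.Inv S.a :=
  ⟨S.aR, S.a2, S.c4a.symm, fun e => S.ab_ne (by rw [e, one_mul, mul_one]),
    fun e => S.ab_ne (by rw [e, c.zcR S.bR])⟩

theorem inv_b : S.Inv S.b :=
  ⟨S.bR, S.b2, S.c4b.symm, fun e => S.ab_ne (by rw [e, one_mul, mul_one]),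
    fun e => S.ab_ne (by rw [e, c.zcR S.aR])⟩

theorem am_ne : S.a * (S.a * S.b * S.c4) ≠ S.a * S.b * S.c4 * S.a := fun h => S.aab_ne (by
  rw [← mul_assoc S.a (S.a * S.b), mul_assoc (S.a * S.b), S.c4a, ← mul_assoc (S.a * S.b) S.a] at h
  exact mul_right_cancel h)

theorem bm_ne : S.b * (S.a * S.b * S.c4) ≠ S.a * S.b * S.c4 * S.b := fun h => S.bab_ne (by
  rw [← mul_assoc S.b (S.a * S.b), mul_assoc (S.a * S.b), S.c4b, ← mul_assoc (S.a * S.b) S.b] at h
  exact mul_right_cancel h)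

theorem inv_m : S.Inv (S.a * S.b * S.c4) := by
  have hc : Commute (S.a * S.b) S.c4 := (show Commute S.c4 S.a from S.c4a).symm.mul_left
    (show Commute S.c4 S.b from S.c4b).symm
  refine ⟨mul_mem (mul_mem S.aR S.bR) S.c4R, ?_, (hc.mul_left (Commute.refl _)).eq,
    fun e => S.am_ne (by rw [e, one_mul, mul_one]), fun e => S.am_ne (by rw [e, c.zcR S.aR])⟩
  rw [hc.symm.mul_mul_mul_comm (S.a * S.b) S.c4, S.ab2, S.c4_sq, c.z2]

/-- The two classes other than that of `u`. -/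
theorem others : ∃ p q, S.Inv p ∧ S.Inv q ∧ p * c.u ≠ c.u * p ∧ q * c.u ≠ c.u * q ∧ p * q ≠ q * p ∧
    ∀ i, S.Inv i → c.Cls c.u i ∨ c.Cls p i ∨ c.Cls q i := by
  have hm := S.inv_m
  rcases S.classify S.inv_u with h | h | h
  · refine ⟨S.b, S.a * S.b * S.c4, S.inv_b, hm, fun e => S.ab_ne (h.symm.comm S.bR e.symm),
      fun e => S.am_ne (h.symm.comm hm.1 e.symm), S.bm_ne, fun i hi => ?_⟩
    rcases S.classify hi with q | q | q
    exacts [Or.inl (h.symm.trans q), Or.inr (Or.inl q), Or.inr (Or.inr q)]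
  · refine ⟨S.a, S.a * S.b * S.c4, S.inv_a, hm, fun e => S.ab_ne (h.symm.comm S.aR e.symm).symm,
      fun e => S.bm_ne (h.symm.comm hm.1 e.symm), S.am_ne, fun i hi => ?_⟩
    rcases S.classify hi with q | q | q
    exacts [Or.inr (Or.inl q), Or.inl (h.symm.trans q), Or.inr (Or.inr q)]
  · refine ⟨S.a, S.b, S.inv_a, S.inv_b, fun e => S.am_ne (h.symm.comm S.aR e.symm).symm,
      fun e => S.bm_ne (h.symm.comm S.bR e.symm).symm, S.ab_ne, fun i hi => ?_⟩
    rcases S.classify hi with q | q | q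
    exacts [Or.inr (Or.inl q), Or.inr (Or.inr q), Or.inl (h.symm.trans q)]

/-- The elements of `N_{C(z)}(R)` fixing the classes. -/
def ker : Subgroup G where
  carrier := {n | n ∈ c.NR ∧ ∀ i, S.Inv i → c.Cls i (n * i * n⁻¹)}
  one_mem' := ⟨one_mem _, fun i _ => Or.inl (by group)⟩
  mul_mem' := by
    rintro m n ⟨hm, hm'⟩ ⟨hn, hn'⟩
    refine ⟨mul_mem hm hn, fun i hi => ?_⟩
    rw [show m * n * i * (m * n)⁻¹ = m * (n * i * n⁻¹) * m⁻¹ by group]
    exact (hm' i hi).trans ((hn' i hi).conj hm)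
  inv_mem' := by
    rintro n ⟨hn, hn'⟩
    refine ⟨inv_mem hn, fun i hi => ?_⟩
    have h := (hn' i hi).symm.conj (inv_mem hn)
    rw [show n⁻¹ * (n * i * n⁻¹) * n⁻¹⁻¹ = i by group] at h
    exact h

theorem mem_ker {n : G} : n ∈ S.ker ↔ n ∈ c.NR ∧ ∀ i, S.Inv i → c.Cls i (n * i * n⁻¹) := Iff.rfl

theorem ker_conj {n g : G} (hn : n ∈ c.NR) (hg : g ∈ S.ker) : n * g * n⁻¹ ∈ S.ker := by
  refine ⟨mul_mem (mul_mem hn hg.1) (inv_mem hn), fun i hi => ?_⟩
  have h := (hg.2 _ (hi.conj (inv_mem hn))).conj hn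
  rw [show n * (n⁻¹ * i * n⁻¹⁻¹) * n⁻¹ = i by group,
    show n * (g * (n⁻¹ * i * n⁻¹⁻¹) * g⁻¹) * n⁻¹ = n * g * n⁻¹ * i * (n * g * n⁻¹)⁻¹ by group] at h
  exact h

theorem ker_odd {g : G} (hg : g ∈ S.ker) (ho : Odd (orderOf g)) {r : G} (hr : r ∈ c.R) : g * r = r * g := by
  have hgz : g * c.z = c.z * g := c.zcN hg.1
  have hfix : ∀ {x t : G}, t * t = 1 → g * t = t * g → g * x * g⁻¹ = x * t → t = 1 := fun {x t} ht hgt h =>
    odd_fix ho hgt h (j := 1) (by rw [pow_one, pow_two]; exact ht)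
  have hcls : ∀ x, c.Cls x (g * x * g⁻¹) → g * x = x * g := by
    rintro x (h | h)
    · exact mul_inv_eq_iff_eq_mul.1 h
    · exact absurd (hfix c.z2 hgz h) c.z1
  have ga := hcls _ (hg.2 _ S.inv_a)
  have gb := hcls _ (hg.2 _ S.inv_b)
  have g4 := hcls _ (S.N_c4 hg.1)
  have conj_fix : ∀ {x : G}, g * x = x * g → g * x * g⁻¹ = x := fun h => by rw [h, mul_inv_cancel_right]
  have gw : ∀ d, d ≤ S.k → g * S.w ^ 2 ^ (S.k - d) = S.w ^ 2 ^ (S.k - d) * g := by
    intro d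
    induction d with
    | zero =>
      intro _
      rw [Nat.sub_zero, ← S.w_ord, pow_orderOf_eq_one, one_mul, mul_one]
    | succ d ih =>
      intro hd
      obtain ⟨v, hv⟩ : ∃ v, v = S.w ^ 2 ^ (S.k - (d + 1)) := ⟨_, rfl⟩
      rw [← hv]
      have hvm : v ∈ zpowers S.w := hv ▸ pow_mem (mem_zpowers _) _
      have hvR : v ∈ c.R := hv ▸ pow_mem S.wR _
      have hv2 : g * (v * v) = v * v * g := by
        have h2 : v * v = S.w ^ 2 ^ (S.k - d) := by
          rw [hv, ← pow_add, ← two_mul, ← pow_succ', show S.k - (d + 1) + 1 = S.k - d by omega]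
        rw [h2]
        exact ih (by omega)
      have hv' : g * v * g⁻¹ ∈ zpowers S.w := by
        refine S.centre_form (c.NR_conj hg.1 hvR) ?_ ?_ ?_
        · have := conj_comm (g := g) (S.cyc_comm hvm S.c4w)
          rwa [conj_fix g4] at this
        · have := conj_comm (g := g) (S.cyc_a hvm)
          rwa [conj_fix ga] at this
        · have := conj_comm (g := g) (S.cyc_b hvm)
          rwa [conj_fix gb] at this
      have ht2 : v⁻¹ * (g * v * g⁻¹) * (v⁻¹ * (g * v * g⁻¹)) = 1 := by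
        have hc : Commute (g * v * g⁻¹) v⁻¹ := (show Commute (g * v * g⁻¹) v from S.cyc_comm hv' hvm).inv_right
        rw [hc.mul_mul_mul_comm, conj_mul, hv2, mul_inv_cancel_right, ← mul_inv_rev, inv_mul_cancel]
      rcases S.cyc_invol (mul_mem (inv_mem hvm) hv') ht2 with e | e
      · exact mul_inv_eq_iff_eq_mul.1 (inv_mul_eq_one.1 e).symm
      · exact hcls v (Or.inr (inv_mul_eq_iff_eq_mul.1 e))
  have gw1 : Commute g S.w := by
    have := gw S.k le_rfl
    rwa [Nat.sub_self, pow_zero, pow_one] at this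
  have hR1 : ∀ r ∈ c.R, r * S.c4 = S.c4 * r → g * r = r * g := by
    intro r hr h
    obtain ⟨q, hq, v, hv, rfl⟩ := S.dec hr h
    obtain ⟨i, rfl⟩ := mem_zpowers_iff.1 hv
    refine (Commute.mul_right ?_ (gw1.zpow_right i)).eq
    rcases hq with e | e | e | e <;> rw [e]
    exacts [Commute.one_right _, ga, gb, (show Commute g S.a from ga).mul_right gb]
  by_cases h4 : r * S.c4 = S.c4 * r
  · exact hR1 r hr h4
  have hr4 : r * S.c4 * r⁻¹ = S.c4 * c.z := (S.conj_c4 r hr).resolve_left fun e => h4 (mul_inv_eq_iff_eq_mul.1 e)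
  have hr4' : g * r * g⁻¹ * S.c4 * (g * r * g⁻¹)⁻¹ = S.c4 * c.z := by
    have h := congrArg (fun x => g * x * g⁻¹) hr4
    simp only [← conj_mul, ← conj_inv, conj_fix g4, conj_fix hgz] at h
    exact h
  have ht : r⁻¹ * (g * r * g⁻¹) * S.c4 = S.c4 * (r⁻¹ * (g * r * g⁻¹)) := by
    have h1 : g * r * g⁻¹ * S.c4 = S.c4 * c.z * (g * r * g⁻¹) := mul_inv_eq_iff_eq_mul.1 hr4'
    have h2 : r * S.c4 = S.c4 * c.z * r := mul_inv_eq_iff_eq_mul.1 hr4
    calc r⁻¹ * (g * r * g⁻¹) * S.c4 = r⁻¹ * (S.c4 * c.z * r) * r⁻¹ * (g * r * g⁻¹) := by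
          rw [mul_assoc r⁻¹, h1]; group
      _ = r⁻¹ * (r * S.c4) * r⁻¹ * (g * r * g⁻¹) := by rw [h2]
      _ = S.c4 * (r⁻¹ * (g * r * g⁻¹)) := by group
  have htR : r⁻¹ * (g * r * g⁻¹) ∈ c.R := mul_mem (inv_mem hr) (c.NR_conj hg.1 hr)
  obtain ⟨j, hj⟩ := (c.S_isPGroup.to_le c.R_le) ⟨_, htR⟩
  have ht1 := odd_fix ho (hR1 _ htR ht) (by rw [mul_inv_cancel_left] : g * r * g⁻¹ = r * (r⁻¹ * (g * r * g⁻¹)))
    (congrArg Subtype.val hj)
  exact mul_inv_eq_iff_eq_mul.1 (inv_mul_eq_one.1 ht1).symm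

theorem ker_mem_R {x : G} (hx : x ∈ c.S) (h : ∀ i, S.Inv i → c.Cls i (x * i * x⁻¹)) : x ∈ c.R :=
  ⟨hx, c.frameZ.le_upper_of_odd_comm (A := S.ker) (fun _ ha => ⟨ha.1.1, ha.1.2⟩)
    (fun _ h1 h2 _ ha => S.ker_conj ⟨h1, h2⟩ ha) (fun _ ha ho _ hr => S.ker_odd ha ho hr)
    ⟨c.S_le_NR hx, h⟩⟩

/-- An element of `S` outside the radical interchanges the two classes. -/
theorem swap {p q : G} (hp : S.Inv p) (hq : S.Inv q) (hpu : p * c.u ≠ c.u * p) (hqu : q * c.u ≠ c.u * q)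
    (hpq : p * q ≠ q * p) (hall : ∀ i, S.Inv i → c.Cls c.u i ∨ c.Cls p i ∨ c.Cls q i) {x : G}
    (hx : x ∈ c.S) (hxR : x ∉ c.R) : c.Cls q (x * p * x⁻¹) ∧ c.Cls p (x * q * x⁻¹) := by
  have hN := c.S_le_NR hx
  have hxu : c.Cls c.u (x * c.u * x⁻¹) := by
    rcases c.conj_u hx with e | e
    exacts [Or.inl e, Or.inr (e.trans c.zu)]
  have hnu : ∀ {i}, S.Inv i → i * c.u ≠ c.u * i → ¬ c.Cls c.u (x * i * x⁻¹) := by
    intro i hi hiu h
    have h1 := (hxu.symm.trans h).comm (c.NR_conj hN c.uR) rfl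
    exact hiu (conj_comm_iff.1 h1)
  have hne : ∀ {l}, l ∈ c.R → ¬ (c.Cls l (x * p * x⁻¹) ∧ c.Cls l (x * q * x⁻¹)) := by
    rintro l hl ⟨h1, h2⟩
    have h3 := (h2.symm.trans h1).comm (hq.conj hN).1 rfl
    exact hpq (conj_comm_iff.1 h3)
  have hP := (hall _ (hp.conj hN)).resolve_left (hnu hp hpu)
  have hQ := (hall _ (hq.conj hN)).resolve_left (hnu hq hqu)
  rcases hP with hP | hP <;> rcases hQ with hQ | hQ
  · exact absurd ⟨hP, hQ⟩ (hne hp.1)
  · refine absurd (S.ker_mem_R hx fun i hi => ?_) hxR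
    rcases hall i hi with h | h | h
    · exact h.symm.trans (hxu.trans (h.conj hN))
    · exact h.symm.trans (hP.trans (h.conj hN))
    · exact h.symm.trans (hQ.trans (h.conj hN))
  · exact ⟨hP, hQ⟩
  · exact absurd ⟨hP, hQ⟩ (hne hq.1)

include S in
theorem mul_R {x y : G} (hx : x ∈ c.S) (hy : y ∈ c.S) (hxR : x ∉ c.R) (hyR : y ∉ c.R) : x * y ∈ c.R := by
  obtain ⟨p, q, hp, hq, hpu, hqu, hpq, hall⟩ := S.others
  obtain ⟨x1, x2⟩ := S.swap hp hq hpu hqu hpq hall hx hxR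
  obtain ⟨y1, y2⟩ := S.swap hp hq hpu hqu hpq hall hy hyR
  have hN := c.S_le_NR hx
  have hN2 := c.S_le_NR (mul_mem hx hy)
  have hxy : ∀ i : G, x * y * i * (x * y)⁻¹ = x * (y * i * y⁻¹) * x⁻¹ := fun i => by group
  refine S.ker_mem_R (mul_mem hx hy) fun i hi => ?_
  rcases hall i hi with h | h | h
  · refine h.symm.trans (Cls.trans ?_ (h.conj hN2))
    rcases c.conj_u (mul_mem hx hy) with e | e
    exacts [Or.inl e, Or.inr (e.trans c.zu)]
  · refine h.symm.trans (Cls.trans ?_ (h.conj hN2))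
    rw [hxy]
    exact x2.trans (y1.conj hN)
  · refine h.symm.trans (Cls.trans ?_ (h.conj hN2))
    rw [hxy]
    exact x1.trans (y2.conj hN)

include S in
theorem sq_R {x : G} (hx : x ∈ c.S) : x * x ∈ c.R := by
  by_cases h : x ∈ c.R
  exacts [mul_mem h h, S.mul_R hx hx h h]

theorem sq_c4 {x : G} (hx : x ∈ c.S) : x * x * S.c4 = S.c4 * (x * x) := by
  have hz : x * c.z * x⁻¹ = c.z := c.NR_conj_z (c.S_le_NR hx)
  rw [← mul_inv_eq_iff_eq_mul, show x * x * S.c4 * (x * x)⁻¹ = x * (x * S.c4 * x⁻¹) * x⁻¹ by group]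
  rcases S.N_c4 (c.S_le_NR hx) with e | e <;> rw [e]
  · exact e
  · rw [← conj_mul, e, hz, mul_assoc, c.z2, mul_one]

/-- Every involution of `C_R(c₄)` outside `⟨z⟩` is conjugate in `C(z)` to `u` or `z u`. -/
theorem conj_U (hA : ¬ c.CaseA) {i : G} (hi : S.Inv i) :
    ∃ k ∈ centralizer ({c.z} : Set G), ∃ a, (a = c.u ∨ a = c.z * c.u) ∧ k * a * k⁻¹ = i := by
  obtain ⟨p, q, hp, hq, hpu, hqu, hpq, hall⟩ := S.others
  obtain ⟨x, hx, hxR⟩ : ∃ x ∈ c.S, x ∉ c.R := by
    by_contra h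
    push Not at h
    let V : Subgroup G := closure {c.z, p}
    have hVe : Cfsg.IsElementaryAbelian 2 V := elemAb_closure _ (by
      rintro r (rfl | rfl) s (rfl | rfl)
      exacts [rfl, (c.zcR hp.1).symm, c.zcR hp.1, rfl]) (by
      rintro r (rfl | rfl)
      exacts [c.z2, hp.2.1])
    have hVS : V ≤ c.S := (closure_le _).2 (by
      rintro r (rfl | rfl)
      exacts [c.zS, c.R_le hp.1])
    have hVn : ∀ y ∈ c.S, ∀ r ∈ V, y * r * y⁻¹ ∈ V := fun y hy r hr => by
      induction hr using closure_induction with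
      | mem r hr =>
        rcases hr with rfl | rfl
        · rw [c.zc hy, mul_inv_cancel_right]; exact subset_closure (Or.inl rfl)
        · have hyR := h y hy
          have : c.Cls r (y * r * y⁻¹) := by
            rcases S.classify hp with e | e | e
            · exact e.symm.trans ((show c.Cls S.a (y * S.a * y⁻¹) from S.conj_a y hyR).trans (e.conj (c.S_le_NR hy)))
            · exact e.symm.trans ((show c.Cls S.b (y * S.b * y⁻¹) from S.conj_b y hyR).trans (e.conj (c.S_le_NR hy)))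
            · refine e.symm.trans (Cls.trans ?_ (e.conj (c.S_le_NR hy)))
              rw [← conj_mul (b := y) (a := S.a * S.b) (c := S.c4), ← conj_mul (b := y) (a := S.a) (c := S.b)]
              have hz4 : Commute c.z S.c4 := (c.zcR S.c4R).symm
              have hzb : Commute c.z S.b := (c.zcR S.bR).symm
              rcases S.conj_a y hyR with e1 | e1 <;> rcases S.conj_b y hyR with e2 | e2 <;>
                rcases S.conj_c4 y hyR with e3 | e3 <;> rw [e1, e2, e3]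
              · exact Or.inl rfl
              · right; rw [← mul_assoc]
              · right; rw [← mul_assoc, mul_assoc _ c.z S.c4, hz4.eq, ← mul_assoc]
              · left; rw [← mul_assoc, ← mul_assoc, mul_assoc _ c.z S.c4, hz4.eq, ← mul_assoc, mul_assoc _ c.z c.z,
                  c.z2, mul_one]
              · right; rw [mul_assoc S.a c.z, hzb.eq, ← mul_assoc, mul_assoc _ c.z S.c4, hz4.eq, ← mul_assoc]
              · left; rw [mul_assoc S.a c.z, hzb.eq, ← mul_assoc, ← mul_assoc, mul_assoc _ c.z S.c4, hz4.eq,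
                  ← mul_assoc, mul_assoc _ c.z c.z, c.z2, mul_one]
              · left; rw [← mul_assoc (S.a * c.z), mul_assoc S.a c.z, hzb.eq, ← mul_assoc, mul_assoc _ c.z c.z,
                  c.z2, mul_one]
              · right; rw [← mul_assoc (S.a * c.z), mul_assoc S.a c.z, hzb.eq, ← mul_assoc S.a S.b c.z,
                  mul_assoc (S.a * S.b) c.z c.z, c.z2, mul_one, ← mul_assoc]
          rcases this with e | e <;> rw [e]
          · exact subset_closure (Or.inr rfl)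
          · exact mul_mem (subset_closure (Or.inr rfl)) (subset_closure (Or.inl rfl))
      | one => simp
      | mul a b _ _ iha ihb => rw [← conj_mul]; exact mul_mem iha ihb
      | inv a _ ih => rw [← conj_inv]; exact inv_mem ih
    have hV4 : Nat.card V = 4 := by
      refine le_antisymm (c.eight_normal hVS hVe hVn) ?_
      rw [show Nat.card V = (V : Set G).ncard from Nat.card_coe_set_eq _]
      refine le_trans ?_ (Set.ncard_le_ncard (show ({1, c.z, p, c.z * p} : Set G) ⊆ V by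
        rintro g (rfl | rfl | rfl | rfl)
        exacts [one_mem _, subset_closure (Or.inl rfl), subset_closure (Or.inr rfl),
          mul_mem (subset_closure (Or.inl rfl)) (subset_closure (Or.inr rfl))]) (Set.toFinite _))
      have hp1 : p ≠ 1 := hp.2.2.2.1
      have hpz : p ≠ c.z := hp.2.2.2.2
      have hzv1 : c.z * p ≠ 1 := fun e => hpz ((eq_inv_of_mul_eq_one_right e).trans c.zi)
      have n2 : c.z * p ≠ c.z := fun e => hp1 (mul_eq_left.1 e)
      have n3 : c.z * p ≠ p := fun e => c.z1 (mul_eq_right.1 e)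
      rw [Set.ncard_insert_of_notMem (by simp [c.z1.symm, Ne.symm hp1, hzv1.symm]) (Set.toFinite _),
        Set.ncard_insert_of_notMem (by simp [Ne.symm hpz, n2.symm]) (Set.toFinite _), Set.ncard_pair n3.symm]
    have hU := c.four_unique hVS hVe hV4 hVn
    exact hpu (elemAb_comm c.four.elem (hU ▸ (subset_closure (Or.inr rfl) : p ∈ V)) c.uU)
  obtain ⟨x1, x2⟩ := S.swap hp hq hpu hqu hpq hall hx hxR
  obtain ⟨n, hn, hnu⟩ := c.exists_mover hA
  have hxN := c.S_le_NR hx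
  have key : ∀ l, c.Cls l i → (∃ k ∈ c.NR, c.Cls l (k * c.u * k⁻¹)) →
      ∃ k ∈ centralizer ({c.z} : Set G), ∃ a, (a = c.u ∨ a = c.z * c.u) ∧ k * a * k⁻¹ = i := by
    rintro l hl ⟨k, hk, hkl⟩
    refine ⟨k, hk.1, ?_⟩
    rcases hkl.symm.trans hl with e | e
    · exact ⟨c.u, Or.inl rfl, e.symm⟩
    · exact ⟨c.z * c.u, Or.inr rfl, by rw [← conj_mul, c.NR_conj_z hk, ← c.zcR (c.NR_conj hk c.uR), e]⟩
  rcases hall i hi with h | h | h
  · exact key _ h ⟨1, one_mem _, Or.inl (by group)⟩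
  all_goals
    rcases hall _ (S.inv_u.conj hn) with g | g | g
    · refine absurd ?_ hnu
      rcases g with e | e <;> rw [e]
      exacts [c.uU, mul_mem c.uU c.zU]
  · exact key _ h ⟨n, hn, g⟩
  · exact key _ h ⟨x * n, mul_mem hxN hn, by
      rw [show x * n * c.u * (x * n)⁻¹ = x * (n * c.u * n⁻¹) * x⁻¹ by group]
      exact x2.trans (g.conj hxN)⟩
  · exact key _ h ⟨x * n, mul_mem hxN hn, by
      rw [show x * n * c.u * (x * n)⁻¹ = x * (n * c.u * n⁻¹) * x⁻¹ by group]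
      exact x1.trans (g.conj hxN)⟩
  · exact key _ h ⟨n, hn, g⟩

/-- An involution of the radical moving `c₄` centralises an element with square `z`. -/
theorem q_fix {r : G} (hr : r ∈ c.R) (h : r * S.c4 ≠ S.c4 * r) :
    ∃ q ∈ c.R, q * q = c.z ∧ r * q = q * r := by
  have h4 : r * S.c4 * r⁻¹ = S.c4 * c.z :=
    (S.conj_c4 r hr).resolve_left fun e => h (mul_inv_eq_iff_eq_mul.1 e)
  have hz4 : c.z * S.c4 = S.c4 * c.z := (c.zcR S.c4R).symm
  have cand : ∀ x ∈ c.R, x * x = 1 → S.c4 * x = x * S.c4 → r * x * r⁻¹ = x * c.z →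
      ∃ q ∈ c.R, q * q = c.z ∧ r * q = q * r := by
    intro x hx hx2 hxc hrx
    refine ⟨x * S.c4, mul_mem hx S.c4R, ?_, mul_inv_eq_iff_eq_mul.1 ?_⟩
    · rw [(show Commute S.c4 x from hxc).mul_mul_mul_comm x S.c4, hx2, S.c4_sq, one_mul]
    · rw [← conj_mul, hrx, h4, mul_assoc, ← mul_assoc c.z, hz4, mul_assoc S.c4, c.z2, mul_one]
  rcases S.conj_a r hr with ea | ea
  swap
  · exact cand _ S.aR S.a2 S.c4a ea
  rcases S.conj_b r hr with eb | eb
  swap
  · exact cand _ S.bR S.b2 S.c4b eb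
  refine ⟨S.a * S.b, mul_mem S.aR S.bR, S.ab2, mul_inv_eq_iff_eq_mul.1 ?_⟩
  rw [← conj_mul, ea, eb]

end Shape

end Hyp

end Cfsg.Agent.Transfer.NoEight
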