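import Cfsg.Agent.Lib.Transfer.NoEight.ExtraFill
import Cfsg.Agent.Lib.Grp.CyclicTwo
import Cfsg.Agent.Lib.Grp.LargeExtraStructure
import Cfsg.Agent.Lib.Grp.ExtraRank
import Cfsg.Agent.S3762

/-!
# Case B: the shape of the radical

Outside case A the radical of `C(z)` is symplectic.  It is then extraspecial of order 32, which is impossible, or
`(D₈ * ⟨w⟩)` extended by elements inverting `⟨w⟩`, recorded in `Shape`.
-/

set_option autoImplicit false
set_option linter.unusedSectionVars false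
set_option linter.style.haveILetI false

namespace Cfsg.Agent.Transfer.NoEight

open Subgroup CoreConsumers.Disc
open scoped commutatorElement

universe u

/-- The cyclic subgroup of index two of a group of maximal class. -/
theorem maxclass_shape {K : Type*} [Group K] [Finite K] (hK : IsPGroup 2 K) (h16 : 16 ≤ Nat.card K)
    (h : (∃ m : ℕ, Nonempty (K ≃* DihedralGroup m)) ∨ (∃ m : ℕ, Nonempty (K ≃* QuaternionGroup m)) ∨
      Cfsg.IsQuasiDihedral K) :
    ∃ (w y : K) (k : ℕ), 3 ≤ k ∧ orderOf w = 2 ^ k ∧ (∀ s : K, s ∈ zpowers w ∨ y⁻¹ * s ∈ zpowers w) ∧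
      (y * y = 1 ∨ y * y = w ^ 2 ^ (k - 1)) ∧ (y * w * y⁻¹ = w⁻¹ ∨ y * w * y⁻¹ = w⁻¹ * w ^ 2 ^ (k - 1)) := by
  rcases h with ⟨m, ⟨e⟩⟩ | ⟨m, ⟨e⟩⟩ | ⟨n, hn, hcard, x, y, hx, hy, hxy⟩
  · have hm : m ≠ 0 := by
      rintro rfl
      have := Nat.card_congr e.toEquiv
      rw [DihedralGroup.nat_card] at this
      have := Nat.card_pos (α := K)
      omega
    haveI : NeZero m := ⟨hm⟩
    obtain ⟨k, hk⟩ := IsPGroup.iff_orderOf.1 hK (e.symm (DihedralGroup.r 1))
    have hm2 : m = 2 ^ k := by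
      rw [← hk, MulEquiv.orderOf_eq, DihedralGroup.orderOf_r_one]
    refine ⟨e.symm (DihedralGroup.r 1), e.symm (DihedralGroup.sr 0), k, ?_, hk, fun s => ?_, Or.inl ?_, Or.inl ?_⟩
    · have hc := Nat.card_congr e.toEquiv
      rw [DihedralGroup.nat_card, hm2] at hc
      by_contra hlt
      have : 2 ^ k ≤ 4 := (Nat.pow_le_pow_right two_pos (show k ≤ 2 by omega)).trans_eq (by norm_num)
      omega
    · rcases hs : e s with i | i
      · refine Or.inl (mem_zpowers_iff.2 ⟨(i.val : ℤ), ?_⟩)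
        rw [zpow_natCast, ← map_pow, DihedralGroup.r_one_pow, ZMod.natCast_zmod_val, ← hs, MulEquiv.symm_apply_apply]
      · refine Or.inr (mem_zpowers_iff.2 ⟨(i.val : ℤ), ?_⟩)
        rw [zpow_natCast, ← map_pow, DihedralGroup.r_one_pow, ZMod.natCast_zmod_val, ← map_inv,
          ← e.symm_apply_apply s, ← map_mul, hs, DihedralGroup.inv_sr, DihedralGroup.sr_mul_sr, sub_zero]
    · rw [← map_mul, DihedralGroup.sr_mul_self, map_one]
    · rw [← map_inv, ← map_mul, ← map_mul, ← map_inv, DihedralGroup.inv_sr, DihedralGroup.sr_mul_r,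
        DihedralGroup.sr_mul_sr, DihedralGroup.inv_r, zero_add, zero_sub]
  · have hm : m ≠ 0 := by
      rintro rfl
      haveI : Finite (QuaternionGroup 0) := Finite.of_equiv K e.toEquiv
      haveI : Infinite (QuaternionGroup 0) := Infinite.of_injective (fun i : ℤ => QuaternionGroup.a (i : ZMod (2 * 0)))
        fun i j h => by injection h
      exact not_finite (QuaternionGroup 0)
    haveI : NeZero m := ⟨hm⟩
    obtain ⟨k, hk⟩ := IsPGroup.iff_orderOf.1 hK (e.symm (QuaternionGroup.a 1))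
    have hm2 : 2 * m = 2 ^ k := by
      rw [← hk, MulEquiv.orderOf_eq, QuaternionGroup.orderOf_a_one]
    have hk3 : 3 ≤ k := by
      have hc := Nat.card_congr e.toEquiv
      rw [Nat.card_eq_fintype_card (α := QuaternionGroup m), QuaternionGroup.card] at hc
      by_contra hlt
      have : 2 ^ k ≤ 4 := (Nat.pow_le_pow_right two_pos (show k ≤ 2 by omega)).trans_eq (by norm_num)
      omega
    have hmk : m = 2 ^ (k - 1) := by
      have : 2 ^ k = 2 * 2 ^ (k - 1) := by rw [← pow_succ']; congr 1; omega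
      omega
    refine ⟨e.symm (QuaternionGroup.a 1), e.symm (QuaternionGroup.xa 0), k, hk3, hk, fun s => ?_, Or.inr ?_,
      Or.inl ?_⟩
    · rcases hs : e s with i | i
      · refine Or.inl (mem_zpowers_iff.2 ⟨(i.val : ℤ), ?_⟩)
        rw [zpow_natCast, ← map_pow, QuaternionGroup.a_one_pow, ZMod.natCast_zmod_val, ← hs, MulEquiv.symm_apply_apply]
      · refine Or.inr (mem_zpowers_iff.2 ⟨(i.val : ℤ), ?_⟩)
        rw [zpow_natCast, ← map_pow, QuaternionGroup.a_one_pow, ZMod.natCast_zmod_val, eq_inv_mul_iff_mul_eq,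
          ← map_mul, QuaternionGroup.xa_mul_a, zero_add, ← hs, MulEquiv.symm_apply_apply]
    · rw [← map_mul, ← map_pow, QuaternionGroup.a_one_pow, QuaternionGroup.xa_mul_xa, ← hmk]
      simp
    · rw [mul_inv_eq_iff_eq_mul, ← map_mul, ← map_inv, ← map_mul, QuaternionGroup.xa_mul_a, zero_add]
      congr 1
      show QuaternionGroup.xa 1 = (QuaternionGroup.a 1)⁻¹ * QuaternionGroup.xa 0
      rw [eq_inv_mul_iff_mul_eq, QuaternionGroup.a_mul_xa, sub_self]
  · have hidx : (zpowers x).index = 2 := by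
      have := (zpowers x).card_mul_index
      rw [Nat.card_zpowers, hx, hcard, pow_succ] at this
      exact Nat.eq_of_mul_eq_mul_left (by positivity) this
    have hyx : y ∉ zpowers x := by
      intro h
      have hcomm : y * x * y⁻¹ = x := by
        obtain ⟨i, rfl⟩ := mem_zpowers_iff.1 h
        rw [((Commute.refl x).zpow_left i).eq, mul_inv_cancel_right]
      rw [hcomm] at hxy
      have h4 : 4 ≤ 2 ^ (n - 1) :=
        (show 4 = 2 ^ 2 by norm_num).trans_le (Nat.pow_le_pow_right two_pos (by omega))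
      have hlt : 2 ^ (n - 1) < 2 ^ n := Nat.pow_lt_pow_right (by norm_num) (by omega)
      have h1 : x ^ (2 ^ (n - 1) - 2) = 1 := by
        have e : x ^ (2 ^ (n - 1) - 2) * x = 1 * x := by
          rw [← pow_succ, one_mul, show 2 ^ (n - 1) - 2 + 1 = 2 ^ (n - 1) - 1 by omega, ← hxy]
        exact mul_right_cancel e
      have h2 := Nat.le_of_dvd (by omega) (hx ▸ orderOf_dvd_of_pow_eq_one h1)
      omega
    refine ⟨x, y, n, hn, hx, fun s => ?_, Or.inl ?_, Or.inr ?_⟩
    · by_cases hs : s ∈ zpowers x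
      · exact Or.inl hs
      · refine Or.inr ((mul_mem_iff_of_index_two hidx).2 (iff_of_false (fun h => hyx ?_) hs))
        exact inv_mem_iff.1 h
    · rw [← pow_two, ← hy, pow_orderOf_eq_one]
    · rw [hxy, eq_inv_mul_iff_mul_eq, ← pow_succ', Nat.sub_add_cancel Nat.one_le_two_pow]

variable {G : Type u} [Group G] [Finite G]

/-- `x` lies in `{1, z}` modulo which the shape is described. -/
theorem zpair_mul {z w w' : G} (hz : z * z = 1) (hw : w = 1 ∨ w = z) (hw' : w' = 1 ∨ w' = z) :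
    w * w' = 1 ∨ w * w' = z := by
  rcases hw with rfl | rfl <;> rcases hw' with rfl | rfl <;> simp [hz]

/-- The elements of a group of order eight generated by two anticommuting elements. -/
theorem forms8 {z : G} (EG : Subgroup G) (hz : z ∈ EG) (hz2 : z * z = 1) (hz1 : z ≠ 1)
    (hzc : ∀ e ∈ EG, e * z = z * e) (h8 : Nat.card EG = 8) {i j : G} (hi : i ∈ EG) (hj : j ∈ EG)
    (hij : i * j = z * (j * i)) : ∀ e ∈ EG, ∃ q ∈ ({1, i, j, i * j} : Set G), e = q ∨ e = q * z := by
  intro e he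
  have hij' : ¬ Commute i j := fun h => by rw [h.eq] at hij; exact hz1 (mul_eq_right.1 hij.symm)
  let f : Fin 4 × Bool → ↥EG := fun q =>
    ⟨![1, i, j, i * j] q.1 * (if q.2 then z else 1), by
      refine mul_mem ?_ ?_
      · fin_cases q <;> simp [hi, hj, mul_mem hi hj]
      · split_ifs
        exacts [hz, one_mem _]⟩
  have hinj : Function.Injective f := by
    have hzi : Commute i z := hzc i hi
    have hzj : Commute j z := hzc j hj
    have hne : ∀ p q : G, (p = 1 ∨ p = z) → (q = 1 ∨ q = z) →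
        i ≠ p ∧ j ≠ p ∧ i * j ≠ p ∧ i * p ≠ j * q ∧ i * p ≠ i * j * q ∧ j * p ≠ i * j * q := by
      intro p q hp hq
      have hpi : Commute p i ∧ Commute p j ∧ Commute q i ∧ Commute q j := by
        rcases hp with r | r <;> rcases hq with r' | r' <;> rw [r, r'] <;>
          simp [Commute.one_left, hzi.symm, hzj.symm]
      obtain ⟨p1, p2, q1, q2⟩ := hpi
      refine ⟨fun e => hij' (e ▸ p2), fun e => hij' (e ▸ p1.symm), fun e => hij' ?_, fun e => hij' ?_,
        fun e => hij' ?_, fun e => hij' ?_⟩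
      · have : j = i⁻¹ * p := by rw [← e, inv_mul_cancel_left]
        rw [this]; exact (Commute.refl i).inv_right.mul_right p1.symm
      · have : i = j * q * p⁻¹ := by rw [← e]; group
        rw [this]; exact ((Commute.refl j).mul_left q2).mul_left p2.inv_left
      · have : j = p * q⁻¹ := by rw [mul_assoc] at e; rw [mul_left_cancel e]; group
        rw [this]; exact p1.symm.mul_right q1.symm.inv_right
      · have : i = j * p * q⁻¹ * j⁻¹ := by rw [e]; group
        rw [this]; exact (((Commute.refl j).mul_left p2).mul_left q2.inv_left).mul_left (Commute.refl j).inv_left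
    rintro ⟨a₁, b₁⟩ ⟨a₂, b₂⟩ h
    have h' : ![1, i, j, i * j] a₁ * (if b₁ then z else 1) = ![1, i, j, i * j] a₂ * (if b₂ then z else 1) :=
      congrArg Subtype.val h
    have ha : a₁ = a₂ := by
      have q1 : ∀ b : Bool, (if b then z else (1 : G)) = 1 ∨ (if b then z else (1 : G)) = z := fun b => by
        cases b <;> simp
      have hp : ∀ q : G, (q = 1 ∨ q = z) → ∀ q' : G, (q' = 1 ∨ q' = z) → (q * q'⁻¹ = 1 ∨ q * q'⁻¹ = z) :=
        fun q hq q' hq' => zpair_mul hz2 hq (hq'.imp (fun r => by rw [r, inv_one]) (fun r => by rw [r, (inv_eq_of_mul_eq_one_right hz2)]))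
      obtain ⟨n1, n2, n3, n4, n5, n6⟩ := hne _ _ (hp _ (q1 b₂) _ (q1 b₁)) (Or.inl rfl)
      obtain ⟨m1, m2, m3, -, -, -⟩ := hne _ _ (hp _ (q1 b₁) _ (q1 b₂)) (Or.inl rfl)
      obtain ⟨-, -, -, o4, o5, o6⟩ := hne _ _ (q1 b₁) (q1 b₂)
      obtain ⟨-, -, -, r4, r5, r6⟩ := hne _ _ (q1 b₂) (q1 b₁)
      fin_cases a₁ <;> fin_cases a₂ <;> simp [-mul_ite, -ite_mul] at h' ⊢
      · exact absurd (eq_mul_inv_of_mul_eq h'.symm) m1
      · exact absurd (eq_mul_inv_of_mul_eq h'.symm) m2
      · exact absurd (eq_mul_inv_of_mul_eq h'.symm) m3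
      · exact absurd (eq_mul_inv_of_mul_eq h') n1
      · exact absurd h' o4
      · exact absurd h' o5
      · exact absurd (eq_mul_inv_of_mul_eq h') n2
      · exact absurd h'.symm r4
      · exact absurd h' o6
      · exact absurd (eq_mul_inv_of_mul_eq h') n3
      · exact absurd h'.symm r5
      · exact absurd h'.symm r6
    subst ha
    have := mul_left_cancel h'
    cases b₁ <;> cases b₂ <;> simp_all [hz1, hz1.symm]
  haveI : Fintype ↥EG := Fintype.ofFinite _
  have hsurj := ((Fintype.bijective_iff_injective_and_card f).2 ⟨hinj, by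
    rw [← Nat.card_eq_fintype_card (α := ↥EG), h8]; rfl⟩).2 ⟨e, he⟩
  obtain ⟨⟨q, bq⟩, hq⟩ := hsurj
  have hq' : ![1, i, j, i * j] q * (if bq then z else 1) = e := congrArg Subtype.val hq
  refine ⟨![1, i, j, i * j] q, by fin_cases q <;> simp, ?_⟩
  cases bq <;> simp at hq' <;> simp [hq']

namespace Hyp

variable (c : Hyp G)

/-- An element of `N_{C(z)}(R)` moving `U`. -/
theorem exists_mover (hA : ¬ c.CaseA) : ∃ n ∈ c.NR, n * c.u * n⁻¹ ∉ c.U := by
  simp only [CaseA, not_forall] at hA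
  obtain ⟨n, hn, hnR, hnU⟩ := hA
  refine ⟨n, ⟨hn, hnR⟩, fun hnu => hnU ?_⟩
  have hzn : n * c.z * n⁻¹ = c.z := by rw [mem_centralizer_singleton_iff.1 hn, mul_inv_cancel_right]
  refine mem_normalizer_of_map_eq (eq_of_le_of_card_ge ?_
    (by rw [card_map_of_injective (MulAut.conj n).injective]))
  rintro _ ⟨a, ha, rfl⟩
  show n * a * n⁻¹ ∈ c.U
  rcases c.Ucases ha with e | e | e | e <;> rw [e]
  · simp
  · rw [hzn]; exact c.zU
  · exact hnu
  · rw [← conj_mul, hzn]; exact mul_mem c.zU hnu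

/-- Outside case A the characteristic abelian subgroups of the radical are cyclic. -/
theorem symplectic (hA : ¬ c.CaseA) (A : Subgroup ↥c.R) (hA' : A.Characteristic) (hAc : IsMulCommutative ↥A) :
    IsCyclic ↥A := by
  by_contra hcyc
  have hcomm : ∀ a ∈ A, ∀ b ∈ A, a * b = b * a := fun a ha b hb =>
    congrArg Subtype.val (hAc.is_comm.comm ⟨a, ha⟩ ⟨b, hb⟩)
  let Ω : Subgroup G :=
    { carrier := {g | ∃ hg : g ∈ c.R, (⟨g, hg⟩ : ↥c.R) ∈ A ∧ g * g = 1}
      one_mem' := ⟨one_mem _, one_mem A, one_mul 1⟩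
      mul_mem' := by
        rintro a b ⟨ha, haA, ha2⟩ ⟨hb, hbA, hb2⟩
        refine ⟨mul_mem ha hb, mul_mem haA hbA, ?_⟩
        have h : Commute a b := congrArg Subtype.val (hcomm _ haA _ hbA)
        rw [h.symm.mul_mul_mul_comm a b, ha2, hb2, mul_one]
      inv_mem' := by
        rintro a ⟨ha, haA, ha2⟩
        exact ⟨inv_mem ha, inv_mem haA, by rw [← mul_inv_rev, ha2, inv_one]⟩ }
  have hΩS : Ω ≤ c.S := fun g hg => c.R_le hg.1
  have hΩe : Cfsg.IsElementaryAbelian 2 Ω := elemAb_of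
    (fun a ha b hb => congrArg Subtype.val (hcomm _ ha.2.1 _ hb.2.1)) fun a ha => ha.2.2
  have hΩn : ∀ n ∈ c.NR, ∀ g ∈ Ω, n * g * n⁻¹ ∈ Ω := by
    rintro n hn g ⟨hg, hgA, hg2⟩
    refine ⟨(mem_normalizer_iff.1 hn.2 g).1 hg, ?_, by rw [conj_mul, hg2, mul_one, mul_inv_cancel]⟩
    have h := characteristic_iff_map_le.1 hA' (c.conjR ⟨n, hn⟩)
    exact h ⟨⟨g, hg⟩, hgA, rfl⟩
  have hRp : IsPGroup 2 ↥A := (c.S_isPGroup.to_le c.R_le).to_subgroup A
  obtain ⟨x, y, hx1, hy1, hx2, hy2, hxy⟩ : ∃ x y : ↥A, x ≠ 1 ∧ y ≠ 1 ∧ x * x = 1 ∧ y * y = 1 ∧ x ≠ y := by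
    by_contra h
    push Not at h
    exact hcyc (Grp.isCyclic_of_one_invol hRp (fun p q => hAc.is_comm.comm p q)
      fun p q hp hq hp2 hq2 => h p q hp hq hp2 hq2)
  have hmem : ∀ p : ↥A, p * p = 1 → ((p : ↥c.R) : G) ∈ Ω := fun p hp =>
    ⟨(p : ↥c.R).2, p.2, congrArg (fun q : ↥A => ((q : ↥c.R) : G)) hp⟩
  have h3 : 3 ≤ Nat.card Ω := by
    rw [show Nat.card Ω = (Ω : Set G).ncard from Nat.card_coe_set_eq _]
    refine le_trans ?_ (Set.ncard_le_ncard (show ({1, ((x : ↥c.R) : G), ((y : ↥c.R) : G)} : Set G) ⊆ Ω by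
      rintro g (rfl | rfl | rfl)
      exacts [one_mem _, hmem x hx2, hmem y hy2]) (Set.toFinite _))
    have n1 : ((x : ↥c.R) : G) ≠ 1 := fun e => hx1 (Subtype.ext (Subtype.ext e))
    have n2 : ((y : ↥c.R) : G) ≠ 1 := fun e => hy1 (Subtype.ext (Subtype.ext e))
    have n3 : ((x : ↥c.R) : G) ≠ ((y : ↥c.R) : G) := fun e => hxy (Subtype.ext (Subtype.ext e))
    rw [Set.ncard_insert_of_notMem (by simp [n1.symm, n2.symm]) (Set.toFinite _), Set.ncard_pair n3]
  have h4 := c.eight_normal hΩS hΩe fun g hg => hΩn g (c.S_le_NR hg)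
  obtain ⟨j, hj⟩ := IsPGroup.iff_card.1 (c.S_isPGroup.to_le hΩS)
  have hΩ4 : Nat.card Ω = 4 := by
    rcases j with _ | _ | j
    · rw [hj] at h3; norm_num at h3
    · rw [hj] at h3; norm_num at h3
    · have : 2 ^ 2 ≤ 2 ^ (j + 2) := Nat.pow_le_pow_right two_pos (by omega)
      rw [hj] at h4 ⊢
      norm_num at this ⊢
      omega
  have hU := c.four_unique hΩS hΩe hΩ4 fun g hg => hΩn g (c.S_le_NR hg)
  obtain ⟨n, hn, hnu⟩ := c.exists_mover hA
  refine hnu ?_
  have := hΩn n hn c.u (hU ▸ c.uU)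
  rwa [hU] at this

/-- A central involution of the radical is `z`. -/
theorem central_z (hA : ¬ c.CaseA) {r : G} (hr : r ∈ c.R) (hr2 : r * r = 1)
    (hc : ∀ s ∈ c.R, r * s = s * r) : r = 1 ∨ r = c.z := by
  by_contra h
  push Not at h
  haveI := c.symplectic hA (center ↥c.R) inferInstance inferInstance
  have hzR := c.U_le_R c.zU
  have hmem : ∀ (g : G) (hg : g ∈ c.R), (∀ s ∈ c.R, g * s = s * g) → (⟨g, hg⟩ : ↥c.R) ∈ center ↥c.R :=
    fun g hg hgc => mem_center_iff.2 fun s => Subtype.ext (hgc s s.2).symm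
  obtain ⟨v, hv⟩ := IsCyclic.exists_generator (α := ↥(center ↥c.R))
  obtain ⟨k, hk⟩ := IsPGroup.iff_orderOf.1 ((c.S_isPGroup.to_le c.R_le).to_subgroup _) v
  have hline : ∀ p : ↥(center ↥c.R), p ^ 2 = 1 → p ∈ zpowers (v ^ (2 ^ (k - 1))) := fun p hp =>
    Grp.Symplectic.mem_line two_pos hk (hv p) 1 (by rwa [pow_one])
  have hk0 : (v ^ (2 ^ (k - 1))) ^ 2 = 1 := by
    rw [← pow_mul, ← orderOf_dvd_iff_pow_eq_one, hk, ← pow_succ]
    exact pow_dvd_pow 2 (by omega)
  have hcases : ∀ p : ↥(center ↥c.R), p ^ 2 = 1 → p = 1 ∨ p = v ^ (2 ^ (k - 1)) := fun p hp => by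
    obtain ⟨i, rfl⟩ := mem_zpowers_iff.1 (hline p hp)
    rcases Int.even_or_odd i with ⟨l, rfl⟩ | ⟨l, rfl⟩
    · left; rw [← two_mul, zpow_mul, zpow_two, ← pow_two, hk0, one_zpow]
    · right; rw [zpow_add, zpow_mul, zpow_two, ← pow_two, hk0, one_zpow, one_mul, zpow_one]
  let pr : ↥(center ↥c.R) := ⟨⟨r, hr⟩, hmem r hr hc⟩
  let pz : ↥(center ↥c.R) := ⟨⟨c.z, hzR⟩, hmem c.z hzR fun s hs => (c.zc (c.R_le hs)).symm⟩
  have e1 := (hcases pr (by rw [pow_two]; exact Subtype.ext (Subtype.ext hr2))).resolve_left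
    fun e => h.1 (congrArg (fun p : ↥(center ↥c.R) => ((p : ↥c.R) : G)) e)
  have e2 := (hcases pz (by rw [pow_two]; exact Subtype.ext (Subtype.ext c.z2))).resolve_left
    fun e => c.z1 (congrArg (fun p : ↥(center ↥c.R) => ((p : ↥c.R) : G)) e)
  exact h.2 (congrArg (fun p : ↥(center ↥c.R) => ((p : ↥c.R) : G)) (e1.trans e2.symm))

/-- A section `H / ⟨z⟩` that is elementary has order at most 16. -/
theorem sect (H : Subgroup G) (hH : H ≤ c.S) (hz : c.z ∈ H)
    (hsq : ∀ a ∈ H, a * a = 1 ∨ a * a = c.z)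
    (hcm : ∀ a ∈ H, ∀ b ∈ H, a * b = b * a ∨ a * b = c.z * (b * a)) : Nat.card H ≤ 32 := by
  set H' := H.subgroupOf c.S with hH'
  let zz : ↥H' := ⟨⟨c.z, c.zS⟩, hz⟩
  haveI : (zpowers zz).Normal := ⟨fun p hp q => by
    have hq : q * zz = zz * q := Subtype.ext (Subtype.ext (c.zc q.1.2))
    obtain ⟨i, rfl⟩ := mem_zpowers_iff.1 hp
    rw [((show Commute q zz from hq).zpow_right i).eq, mul_inv_cancel_right]
    exact zpow_mem (mem_zpowers _) i⟩
  have h := c.sectional H' (zpowers zz) ⊤ ⟨⟨fun p q => by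
    obtain ⟨p, -⟩ := p
    obtain ⟨q, -⟩ := q
    refine Subtype.ext ?_
    induction p using QuotientGroup.induction_on with | _ a => ?_
    induction q using QuotientGroup.induction_on with | _ b => ?_
    show (a : ↥H' ⧸ zpowers zz) * (b : ↥H' ⧸ zpowers zz) = (b : ↥H' ⧸ zpowers zz) * (a : ↥H' ⧸ zpowers zz)
    rw [← QuotientGroup.mk_mul, ← QuotientGroup.mk_mul, QuotientGroup.eq]
    rcases hcm b b.2 a a.2 with e | e
    · have e' : b * a = a * b := Subtype.ext (Subtype.ext e)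
      rw [e', inv_mul_cancel]
      exact one_mem _
    · have e' : b * a = zz * (a * b) := Subtype.ext (Subtype.ext e)
      have hc : Commute (a * b) zz := Subtype.ext (Subtype.ext (c.zc (a * b).1.2))
      rw [e', ← hc.eq, inv_mul_cancel_left]
      exact mem_zpowers _⟩⟩ fun p _ => by
    induction p using QuotientGroup.induction_on with | _ a => ?_
    rw [← QuotientGroup.mk_pow, QuotientGroup.eq_one_iff, pow_two]
    rcases hsq a a.2 with e | e
    · rw [show a * a = 1 from Subtype.ext (Subtype.ext e)]; exact one_mem _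
    · rw [show a * a = zz from Subtype.ext (Subtype.ext e)]; exact mem_zpowers _
  rw [card_top] at h
  have hcard : Nat.card H = Nat.card (↥H' ⧸ zpowers zz) * Nat.card (zpowers zz) := by
    rw [← card_eq_card_quotient_mul_card_subgroup, hH', Nat.card_congr (subgroupOfEquivOfLe hH).toEquiv]
  have hz2 : Nat.card (zpowers zz) ≤ 2 := by
    rw [Nat.card_zpowers]
    exact Nat.le_of_dvd two_pos (orderOf_dvd_of_pow_eq_one (by
      rw [pow_two]; exact Subtype.ext (Subtype.ext c.z2)))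
  rw [hcard]
  calc Nat.card (↥H' ⧸ zpowers zz) * Nat.card (zpowers zz) ≤ 2 ^ 4 * 2 := Nat.mul_le_mul h hz2
    _ = 32 := by norm_num

/-- The shape of the radical in case B. -/
structure Shape where
  a : G
  b : G
  c4 : G
  w : G
  k : ℕ
  aR : a ∈ c.R
  bR : b ∈ c.R
  wR : w ∈ c.R
  k2 : 2 ≤ k
  w_ord : orderOf w = 2 ^ k
  c4_eq : c4 = w ^ 2 ^ (k - 2)
  c4_sq : c4 * c4 = c.z
  a2 : a * a = 1
  b2 : b * b = 1
  ab : a * b = c.z * (b * a)
  wa : w * a = a * w
  wb : w * b = b * w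
  conj_a : ∀ r ∈ c.R, r * a * r⁻¹ = a ∨ r * a * r⁻¹ = a * c.z
  conj_b : ∀ r ∈ c.R, r * b * r⁻¹ = b ∨ r * b * r⁻¹ = b * c.z
  conj_c4 : ∀ r ∈ c.R, r * c4 * r⁻¹ = c4 ∨ r * c4 * r⁻¹ = c4 * c.z
  form : ∀ r ∈ c.R, r * c4 = c4 * r →
    r ∈ zpowers w ∨ a * r ∈ zpowers w ∨ b * r ∈ zpowers w ∨ (a * b) * r ∈ zpowers w
  sq : ∀ r ∈ c.R, r * r ∈ zpowers w
  small : k = 2 → ∀ r ∈ c.R, r * c4 = c4 * r

theorem exists_shape_or_false (hconn : c.Conn) (hA : ¬ c.CaseA) : Nonempty c.Shape := by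
  classical
  haveI : Fact (Nat.Prime 2) := ⟨Nat.prime_two⟩
  have hzR := c.U_le_R c.zU
  have huR := c.U_le_R c.uU
  have hRp : IsPGroup 2 ↥c.R := c.S_isPGroup.to_le c.R_le
  have hzc : ∀ r ∈ c.R, r * c.z = c.z * r := fun r hr => c.zc (c.R_le hr)
  obtain ⟨E0, R0, hER, hsup, hE, hR⟩ := S3762.result hRp fun A h1 h2 => c.symplectic hA A h1 h2
  haveI : E0.Normal := ⟨fun e he g => by
    obtain ⟨p, hp, q, hq, rfl⟩ : ∃ p ∈ E0, ∃ q ∈ R0, p * q = g := by
      have hle : R0 ≤ normalizer (E0 : Set ↥c.R) := fun q hq => mem_normalizer_iff.2 fun v => by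
        constructor
        · intro hv; rw [← hER v hv q hq, mul_inv_cancel_right]; exact hv
        · intro hv
          have h1 := hER _ hv q hq
          have h2 : q * v * q⁻¹ = v := mul_left_cancel (a := q) (by rw [← h1]; group)
          rwa [h2] at hv
      have hg : g ∈ (↑(E0 ⊔ R0) : Set ↥c.R) := by rw [hsup]; trivial
      rw [coe_mul_of_right_le_normalizer_left E0 R0 hle] at hg
      exact hg
    rw [show p * q * e * (p * q)⁻¹ = p * (q * e * q⁻¹) * p⁻¹ by group, ← hER e he q hq, mul_inv_cancel_right]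
    exact mul_mem (mul_mem hp he) (inv_mem hp)⟩
  have hdec : ∀ r ∈ c.R, ∃ e ∈ E0, ∃ s ∈ R0, ((e : G) * (s : G)) = r := fun r hr => by
    obtain ⟨e, he, s, hs, h⟩ := mem_sup_of_normal_left.1 (hsup.ge (mem_top (⟨r, hr⟩ : ↥c.R)))
    exact ⟨e, he, s, hs, congrArg Subtype.val h⟩
  have hcomm : ∀ e ∈ E0, ∀ s ∈ R0, ((e : G) * (s : G)) = (s : G) * e := fun e he s hs =>
    congrArg Subtype.val (hER e he s hs)
  -- the factor commuting with the extraspecial one
  obtain ⟨w, hwR, k, hwk, hRf⟩ : ∃ w ∈ R0, ∃ k : ℕ, orderOf (w : G) = 2 ^ k ∧ ∀ s ∈ R0,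
      (s : G) ∈ zpowers (w : G) ∨ (3 ≤ k ∧ (∀ j : ℕ, (s : G) * ((w : G) ^ (2 * j)) * (s : G)⁻¹ = ((w : G) ^ (2 * j))⁻¹) ∧
        ((s : G) * s = 1 ∨ (s : G) * s = (w : G) ^ 2 ^ (k - 1))) := by
    have hmemz : ∀ {x y : ↥R0}, x ∈ zpowers y → ((x : ↥c.R) : G) ∈ zpowers ((y : ↥c.R) : G) := fun {x y} h => by
      obtain ⟨i, rfl⟩ := mem_zpowers_iff.1 h
      exact mem_zpowers_iff.2 ⟨i, by simp⟩
    rcases hR with hR | ⟨-, h16, hR⟩
    · obtain ⟨v, hv⟩ := IsCyclic.exists_generator (α := ↥R0)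
      obtain ⟨k, hk⟩ := IsPGroup.iff_orderOf.1 (hRp.to_subgroup R0) v
      exact ⟨v, v.2, k, by rw [orderOf_coe, orderOf_coe, hk], fun s hs => Or.inl (hmemz (hv ⟨s, hs⟩))⟩
    · obtain ⟨v, y, k, hk3, hk, hcov, hy2, hyv⟩ := maxclass_shape (hRp.to_subgroup R0) h16 hR
      refine ⟨v, v.2, k, by rw [orderOf_coe, orderOf_coe, hk], fun s hs => ?_⟩
      by_cases hsv : (⟨s, hs⟩ : ↥R0) ∈ zpowers v
      · exact Or.inl (hmemz hsv)
      refine Or.inr ⟨hk3, ?_⟩
      obtain ⟨i, hi⟩ := mem_zpowers_iff.1 ((hcov ⟨s, hs⟩).resolve_left hsv)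
      have hs' : (⟨s, hs⟩ : ↥R0) = y * v ^ i := by rw [hi, mul_inv_cancel_left]
      set t := v ^ 2 ^ (k - 1) with ht
      have ht2 : t * t = 1 := by
        rw [ht, ← pow_add, ← two_mul, ← pow_succ', show k - 1 + 1 = k by omega, ← hk, pow_orderOf_eq_one]
      have htv : Commute v t := (Commute.refl v).pow_right _
      have hconj : ∀ l : ℤ, y * v ^ l * y⁻¹ = (v ^ l)⁻¹ ∨ y * v ^ l * y⁻¹ = (v ^ l)⁻¹ * t ^ l := fun l => by
        rcases hyv with e | e
        · left; rw [← MulAut.conj_apply, map_zpow, MulAut.conj_apply, e, inv_zpow]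
        · right; rw [← MulAut.conj_apply, map_zpow, MulAut.conj_apply, e, htv.inv_left.mul_zpow, inv_zpow]
      have htl : ∀ l : ℤ, t ^ l = 1 ∨ t ^ l = t := fun l => by
        rcases Int.even_or_odd l with ⟨p, rfl⟩ | ⟨p, rfl⟩
        · left; rw [← two_mul, zpow_mul, zpow_two, ht2, one_zpow]
        · right; rw [zpow_add, zpow_mul, zpow_two, ht2, one_zpow, one_mul, zpow_one]
      constructor
      · intro j
        have e : (⟨s, hs⟩ : ↥R0) * v ^ (2 * j) * (⟨s, hs⟩ : ↥R0)⁻¹ = (v ^ (2 * j))⁻¹ := by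
          have h1 : v ^ i * v ^ (2 * j) * (v ^ i)⁻¹ = v ^ (2 * j) := by
            rw [(((Commute.refl v).zpow_left i).pow_right (2 * j)).eq, mul_inv_cancel_right]
          rw [hs', show y * v ^ i * v ^ (2 * j) * (y * v ^ i)⁻¹ = y * (v ^ i * v ^ (2 * j) * (v ^ i)⁻¹) * y⁻¹ by group,
            h1, ← zpow_natCast v (2 * j)]
          rcases hconj ((2 * j : ℕ) : ℤ) with e | e
          · exact e
          · rw [e]
            have : t ^ ((2 * j : ℕ) : ℤ) = 1 := by rw [zpow_natCast, pow_mul, pow_two, ht2, one_pow]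
            rw [this, mul_one]
        have := congrArg (fun p : ↥R0 => ((p : ↥c.R) : G)) e
        simpa using this
      · have e : (⟨s, hs⟩ : ↥R0) * ⟨s, hs⟩ = 1 ∨ (⟨s, hs⟩ : ↥R0) * ⟨s, hs⟩ = t := by
          rw [hs', show y * v ^ i * (y * v ^ i) = (y * v ^ i * y⁻¹) * (y * y) * v ^ i by group]
          have hti : Commute (v ^ i) t := htv.zpow_left i
          rcases hconj i with e | e <;> rw [e] <;> rcases hy2 with q | q <;> rw [q]
          · left; group
          · right; rw [mul_assoc, ← hti.eq, inv_mul_cancel_left]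
          · rcases htl i with p | p <;> rw [p]
            · left; group
            · right; rw [mul_one, mul_assoc, ← hti.eq, inv_mul_cancel_left]
          · rcases htl i with p | p <;> rw [p]
            · right; rw [mul_one, mul_assoc, ← hti.eq, inv_mul_cancel_left]
            · left; rw [mul_assoc (v ^ i)⁻¹, ht2, mul_one, inv_mul_cancel]
        rcases e with e | e
        · left; exact congrArg (fun p : ↥R0 => ((p : ↥c.R) : G)) e
        · right
          have := congrArg (fun p : ↥R0 => ((p : ↥c.R) : G)) e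
          simpa [ht] using this
  obtain ⟨wG, hwG⟩ : ∃ wG : G, wG = ((w : ↥c.R) : G) := ⟨_, rfl⟩
  rw [← hwG] at hwk hRf
  have hwGR : wG ∈ c.R := hwG ▸ (w : ↥c.R).2
  have hwcyc : ∀ {r}, r ∈ zpowers wG → r * wG = wG * r := fun {r} h => by
    obtain ⟨i, rfl⟩ := mem_zpowers_iff.1 h
    exact ((Commute.refl wG).zpow_left i).eq
  -- involutions of the cyclic group
  have hcyc2 : ∀ r ∈ zpowers wG, r * r = 1 → r = 1 ∨ (1 ≤ k ∧ r = wG ^ 2 ^ (k - 1)) := by
    intro r hr hr2
    rcases Nat.eq_zero_or_pos k with hk0 | hk0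
    · left
      rw [hk0, pow_zero, orderOf_eq_one_iff] at hwk
      rw [hwk] at hr
      simpa using hr
    have h := Grp.Symplectic.mem_line two_pos hwk hr 1 (by rw [pow_one, pow_two]; exact hr2)
    have h2 : wG ^ 2 ^ (k - 1) * wG ^ 2 ^ (k - 1) = 1 := by
      rw [← pow_add, ← two_mul, ← pow_succ', show k - 1 + 1 = k by omega, ← hwk, pow_orderOf_eq_one]
    obtain ⟨i, rfl⟩ := mem_zpowers_iff.1 h
    rcases Int.even_or_odd i with ⟨l, rfl⟩ | ⟨l, rfl⟩
    · left; rw [← two_mul, zpow_mul, zpow_two, h2, one_zpow]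
    · exact Or.inr ⟨hk0, by rw [zpow_add, zpow_mul, zpow_two, h2, one_zpow, one_mul, zpow_one]⟩
  -- the radical contains an extraspecial factor
  rcases hE with hE | hE
  · exfalso
    subst hE
    obtain ⟨e, he, s, hs, heq⟩ := hdec c.u huR
    rw [mem_bot] at he
    rw [he, Subgroup.coe_one, one_mul] at heq
    obtain ⟨e', he', s', hs', heq'⟩ := hdec c.z hzR
    rw [mem_bot] at he'
    rw [he', Subgroup.coe_one, one_mul] at heq'
    have hzin : ∀ r ∈ c.R, ∃ s ∈ R0, ((s : ↥c.R) : G) = r := fun r hr => by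
      obtain ⟨e, he, s, hs, h⟩ := hdec r hr
      rw [mem_bot] at he
      exact ⟨s, hs, by rw [← h, he, Subgroup.coe_one, one_mul]⟩
    rcases hRf s hs with h | ⟨hk3, hinv, -⟩
    · obtain ⟨hk1, huw⟩ := (hcyc2 _ h (heq ▸ c.u2)).resolve_left (heq ▸ c.u1)
      rcases hRf s' hs' with h' | ⟨hk3, hinv, -⟩
      · obtain ⟨-, hzw⟩ := (hcyc2 _ h' (heq' ▸ c.z2)).resolve_left (heq' ▸ c.z1)
        exact c.uz (heq.symm.trans (huw.trans (hzw.symm.trans heq')))
      · have h1 := hinv (2 ^ (k - 3))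
        rw [heq', ← c.zc (c.R_le (c.R.pow_mem hwGR _)), mul_inv_cancel_right, eq_inv_iff_mul_eq_one] at h1
        have h2 : orderOf wG ∣ 2 * 2 ^ (k - 3) + 2 * 2 ^ (k - 3) :=
          orderOf_dvd_of_pow_eq_one (by rw [pow_add]; exact h1)
        rw [hwk] at h2
        have h3 : 2 * 2 ^ (k - 3) + 2 * 2 ^ (k - 3) < 2 ^ k := by
          have : 2 ^ k = 8 * 2 ^ (k - 3) := by
            rw [show (8 : ℕ) = 2 ^ 3 by norm_num, ← pow_add]; congr 1; omega
          have := Nat.two_pow_pos (k - 3)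
          omega
        have := Nat.le_of_dvd (by have := Nat.two_pow_pos (k - 3); omega) h2
        omega
    · -- `u` inverts the squares, and commutes with them
      have h1 := hinv 1
      rw [heq] at h1
      have hsq : wG ^ (2 * 1) ∈ c.T0 := by
        rw [mul_one, pow_two]; exact c.sq_mem (c.R_le hwGR)
      rw [← (c.mem_T0.1 hsq).2, mul_inv_cancel_right, eq_inv_iff_mul_eq_one] at h1
      have h2 : orderOf wG ∣ 2 * 1 + 2 * 1 := orderOf_dvd_of_pow_eq_one (by rw [pow_add]; exact h1)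
      rw [hwk] at h2
      have h3 : 2 ^ 3 ≤ 2 ^ k := Nat.pow_le_pow_right two_pos hk3
      have := Nat.le_of_dvd (by norm_num) h2
      omega
  -- the extraspecial factor, in `G`
  obtain ⟨hsqE, hcmE⟩ := Fus.extraspecial_two_facts hE
  obtain ⟨z0, hz0, hzall⟩ : ∃ z0 : ↥E0, z0 ≠ 1 ∧ ∀ e ∈ center ↥E0, e = 1 ∨ e = z0 := by
    obtain ⟨x, y, hxy, hu⟩ := Nat.card_eq_two_iff.1 hE.2
    have hone : (1 : ↥(center ↥E0)) = x ∨ (1 : ↥(center ↥E0)) = y := by
      have := hu.ge (Set.mem_univ (1 : ↥(center ↥E0)))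
      simpa using this
    have hall : ∀ e : ↥(center ↥E0), e = x ∨ e = y := fun e => by
      have := hu.ge (Set.mem_univ e)
      simpa using this
    rcases hone with h | h
    · exact ⟨y, fun e => hxy (h.symm.trans (Subtype.ext e.symm)), fun e he => (hall ⟨e, he⟩).imp
        (fun q => congrArg Subtype.val (q.trans h.symm)) (fun q => congrArg Subtype.val q)⟩
    · exact ⟨x, fun e => hxy ((Subtype.ext e).trans h), fun e he => (hall ⟨e, he⟩).symm.imp
        (fun q => congrArg Subtype.val (q.trans h.symm)) (fun q => congrArg Subtype.val q)⟩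
  let EG : Subgroup G := E0.map c.R.subtype
  have hEG : ∀ e, e ∈ EG ↔ ∃ h : e ∈ c.R, (⟨e, h⟩ : ↥c.R) ∈ E0 := fun e =>
    ⟨fun ⟨p, hp, he⟩ => he ▸ ⟨p.2, hp⟩, fun ⟨h, hp⟩ => ⟨_, hp, rfl⟩⟩
  have hcenE : ∀ e : ↥E0, e ∈ center ↥E0 → ((e : ↥c.R) : G) = 1 ∨ ((e : ↥c.R) : G) = c.z := by
    have hzmem : z0 ∈ center ↥E0 := by
      by_contra hno
      have h1 := hE.2
      have : Subsingleton ↥(center ↥E0) := ⟨fun p q => Subtype.ext (((hzall p p.2).resolve_right
        fun e => hno (e ▸ p.2)).trans ((hzall q q.2).resolve_right fun e => hno (e ▸ q.2)).symm)⟩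
      rw [Nat.card_of_subsingleton 1] at h1
      omega
    have hz0z : ((z0 : ↥c.R) : G) = c.z := by
      refine (c.central_z hA (z0 : ↥c.R).2 ?_ fun r hr => ?_).resolve_left fun e => hz0 (Subtype.ext (Subtype.ext e))
      · rcases hzall _ ((center ↥E0).mul_mem hzmem hzmem) with e | e
        · exact congrArg (fun p : ↥E0 => ((p : ↥c.R) : G)) e
        · exact absurd (mul_eq_left.1 e) hz0
      · obtain ⟨e, he, s, hs, rfl⟩ := hdec r hr
        have h1 : ((z0 : ↥c.R) : G) * e = e * (z0 : ↥c.R) :=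
          congrArg (fun p : ↥E0 => ((p : ↥c.R) : G)) (mem_center_iff.1 hzmem ⟨e, he⟩).symm
        rw [← mul_assoc, h1, mul_assoc, hcomm _ z0.2 s hs, mul_assoc]
    intro e he
    rcases hzall e he with q | q
    · exact Or.inl (congrArg (fun p : ↥E0 => ((p : ↥c.R) : G)) q)
    · exact Or.inr (q ▸ hz0z)
  have hzE : c.z ∈ EG := by
    by_contra hno
    have h1 := hE.2
    have : Subsingleton ↥(center ↥E0) := ⟨fun p q => Subtype.ext (Subtype.ext (Subtype.ext
      (((hcenE p p.2).resolve_right fun e => hno (e ▸ ⟨p.1, p.1.2, rfl⟩)).trans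
        ((hcenE q q.2).resolve_right fun e => hno (e ▸ ⟨q.1, q.1.2, rfl⟩)).symm)))⟩
    rw [Nat.card_of_subsingleton 1] at h1
    omega
  have hEsq : ∀ e ∈ EG, e * e = 1 ∨ e * e = c.z := by
    intro e he
    obtain ⟨h, hp⟩ := (hEG e).1 he
    have := hcenE _ (hsqE (⟨⟨e, h⟩, hp⟩ : ↥E0))
    simpa [pow_two] using this
  have hEcm : ∀ e ∈ EG, ∀ f ∈ EG, e * f = f * e ∨ e * f = c.z * (f * e) := by
    intro e he f hf
    obtain ⟨h, hp⟩ := (hEG e).1 he
    obtain ⟨h', hp'⟩ := (hEG f).1 hf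
    rcases hcenE _ (hcmE (⟨⟨e, h⟩, hp⟩ : ↥E0) ⟨⟨f, h'⟩, hp'⟩) with q | q
    · left
      have : e * f * e⁻¹ * f⁻¹ = 1 := by simpa [commutatorElement_def] using q
      rwa [mul_inv_eq_one, mul_inv_eq_iff_eq_mul] at this
    · right
      have : e * f * e⁻¹ * f⁻¹ = c.z := by simpa [commutatorElement_def] using q
      rw [← this]; group
  have hEcen : ∀ e ∈ EG, (∀ f ∈ EG, e * f = f * e) → e = 1 ∨ e = c.z := by
    intro e he hc
    obtain ⟨h, hp⟩ := (hEG e).1 he
    exact hcenE ⟨⟨e, h⟩, hp⟩ (mem_center_iff.2 fun f =>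
      Subtype.ext (Subtype.ext (hc _ ⟨f.1, f.2, rfl⟩).symm))
  have hEle : EG ≤ c.R := map_subtype_le E0
  have hEw : ∀ e ∈ EG, e * wG = wG * e := by
    intro e he
    obtain ⟨h, hp⟩ := (hEG e).1 he
    rw [hwG]; exact hcomm _ hp w hwR
  obtain ⟨m, hm⟩ : ∃ m : ℕ, Nat.card EG = 2 ^ (2 * m + 1) := by
    have hzc' : ∀ g : ↥EG, (⟨c.z, hzE⟩ : ↥EG) * g = g * ⟨c.z, hzE⟩ := fun g =>
      Subtype.ext (hzc g (hEle g.2)).symm
    have hExt : Transfer.ExtraIso.Ext 2 (⟨c.z, hzE⟩ : ↥EG) :=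
      { ne_one := fun e => c.z1 (congrArg Subtype.val e)
        pow_eq := Subtype.ext (by rw [SubmonoidClass.coe_pow, pow_two]; exact c.z2)
        central := hzc'
        comm := fun p q => by
          rcases hEcm p p.2 q q.2 with e | e
          · rw [commutatorElement_eq_one_iff_mul_comm.2 (Subtype.ext e)]; exact one_mem _
          · have e' : ⁅p, q⁆ = ⟨c.z, hzE⟩ := by
              have : p * q = ⟨c.z, hzE⟩ * (q * p) := Subtype.ext e
              rw [commutatorElement_def, this]; group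
            rw [e']; exact mem_zpowers _
        center_le := fun g hg => by
          rcases hEcen g g.2 fun f hf => congrArg Subtype.val (hg ⟨f, hf⟩) with e | e
          · rw [show g = 1 from Subtype.ext e]; exact one_mem _
          · rw [show g = ⟨c.z, hzE⟩ from Subtype.ext e]; exact mem_zpowers _ }
    obtain ⟨m, hm, -⟩ := Grp.ExtraRank.rank_formula _ ↥EG _ hExt rfl
    exact ⟨m, hm⟩
  have hm32 : Nat.card EG ≤ 32 := c.sect EG (hEle.trans c.R_le) hzE hEsq hEcm
  obtain ⟨i, hiE, j, hjE, hij⟩ : ∃ i ∈ EG, ∃ j ∈ EG, i * j = c.z * (j * i) := by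
    by_contra h
    push Not at h
    have hall : ∀ e ∈ EG, e = 1 ∨ e = c.z := fun e he =>
      hEcen e he fun f hf => (hEcm e he f hf).resolve_right (h e he f hf)
    have hnc : ¬ (center ↥E0 = ⊤) := fun htop => by
      have h1 : commutator ↥E0 = ⊥ := (commutator_eq_bot_iff_center_eq_top ↥E0).2 htop
      rw [hE.1.2.2] at h1
      have h2 := hE.2
      rw [h1, card_bot] at h2
      omega
    refine hnc (eq_top_iff.2 fun e _ => mem_center_iff.2 fun f => Subtype.ext (Subtype.ext ?_))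
    rcases hall _ ⟨e.1, e.2, rfl⟩ with q | q
    · show ((f : ↥c.R) : G) * ((e : ↥c.R) : G) = ((e : ↥c.R) : G) * ((f : ↥c.R) : G)
      have q' : ((e : ↥c.R) : G) = 1 := q
      rw [q', mul_one, one_mul]
    · show ((f : ↥c.R) : G) * ((e : ↥c.R) : G) = ((e : ↥c.R) : G) * ((f : ↥c.R) : G)
      have q' : ((e : ↥c.R) : G) = c.z := q
      rw [q', hzc _ (f : ↥c.R).2]
  by_cases hk1 : k ≤ 1
  · -- an extraspecial radical
    exfalso
    have hR0z : ∀ s ∈ R0, ((s : ↥c.R) : G) = 1 ∨ ((s : ↥c.R) : G) = c.z := by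
      intro s hs
      have hsw := (hRf s hs).resolve_right fun h => by have := h.1; omega
      refine c.central_z hA (s : ↥c.R).2 ?_ fun r hr => ?_
      · obtain ⟨l, hl⟩ := mem_zpowers_iff.1 hsw
        have h2 : wG ^ 2 = 1 := orderOf_dvd_iff_pow_eq_one.1 (by
          rw [hwk]; exact (pow_dvd_pow 2 hk1).trans (by norm_num))
        rw [← hl, ← zpow_add, ← two_mul, zpow_mul, zpow_two, ← pow_two, h2, one_zpow]
      · obtain ⟨e, he, s', hs', rfl⟩ := hdec r hr
        have h1 : ((s : ↥c.R) : G) * s' = s' * (s : ↥c.R) := by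
          obtain ⟨l, hl⟩ := mem_zpowers_iff.1 hsw
          obtain ⟨l', hl'⟩ := mem_zpowers_iff.1 ((hRf s' hs').resolve_right fun h => by have := h.1; omega)
          rw [← hl, ← hl']
          exact (((Commute.refl wG).zpow_left l).zpow_right l').eq
        rw [← mul_assoc, ← hcomm e he s hs, mul_assoc, h1, mul_assoc]
    have hRE : c.R = EG := by
      refine le_antisymm (fun r hr => ?_) hEle
      obtain ⟨e, he, s, hs, rfl⟩ := hdec r hr
      rcases hR0z s hs with q | q <;> rw [q]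
      · rw [mul_one]; exact ⟨e, he, rfl⟩
      · exact mul_mem ⟨e, he, rfl⟩ hzE
    rw [← hRE] at hm hm32 hEsq hEcm hEcen hiE hjE
    obtain hm2 | hm8 : m = 2 ∨ m ≤ 1 := by
      by_contra h
      push Not at h
      rw [hm] at hm32
      have := (Nat.pow_le_pow_right two_pos (show 7 ≤ 2 * m + 1 by omega)).trans hm32
      norm_num at this
    · subst hm2
      refine c.extra_false hconn hA (by rw [hm]; norm_num) hEsq (fun r hr s hs => ?_) hEcen
      rcases hEcm r hr s hs with e | e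
      · left; rw [e]; group
      · right; rw [e]; group
    · -- order eight: two normal four-groups
      obtain ⟨i, hi, hiu⟩ : ∃ i ∈ c.R, i * c.u ≠ c.u * i := by
        by_contra h
        push Not at h
        rcases hEcen c.u huR fun f hf => (h f hf).symm with e | e
        exacts [c.u1 e, c.uz e]
      have hiu' := (hEcm i hi c.u huR).resolve_left hiu
      obtain ⟨v, hv, hv2, hvu⟩ : ∃ v ∈ c.R, v * v = 1 ∧ v * c.u ≠ c.u * v := by
        rcases hEsq i hi with e | e
        · exact ⟨i, hi, e, hiu⟩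
        · refine ⟨i * c.u, mul_mem hi huR, ?_, fun h => hiu ?_⟩
          · calc i * c.u * (i * c.u) = (i * c.u) * i * c.u := by group
              _ = c.z * c.u * (i * i) * c.u := by rw [hiu']; group
              _ = c.z * (c.u * c.z * c.u) := by rw [e]; group
              _ = 1 := by rw [← c.zu, mul_assoc c.z, c.u2, mul_one, c.z2]
          · rw [mul_assoc, c.u2, mul_one, ← mul_assoc] at h
            conv_lhs => rw [h]
            rw [mul_assoc, c.u2, mul_one]
      have hvu' := (hEcm v hv c.u huR).resolve_left hvu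
      have hv1 : v ≠ 1 := fun e => hvu (by rw [e, one_mul, mul_one])
      have hvz : v ≠ c.z := fun e => hvu (by rw [e, c.zu])
      have huv : c.u * v = c.z * (v * c.u) := by rw [hvu', ← mul_assoc, c.z2, one_mul]
      -- the group is of order eight
      have hR8 : Nat.card c.R = 8 := by
        obtain rfl | rfl : m = 0 ∨ m = 1 := by omega
        · exfalso
          haveI : IsCyclic ↥c.R := isCyclic_of_prime_card (p := 2) (by rw [hm]; norm_num)
          exact hvu (congrArg Subtype.val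
            ((IsCyclic.commGroup (α := ↥c.R)).mul_comm ⟨v, hv⟩ ⟨c.u, huR⟩))
        · rw [hm]; norm_num
      have hform := forms8 c.R hzR c.z2 c.z1 hzc hR8 huR hv huv
      have hcl : ∀ x ∈ c.S, x * v * x⁻¹ = v ∨ x * v * x⁻¹ = c.z * v := by
        intro x hx
        obtain ⟨r, hr'⟩ : ∃ r, r = x * v * x⁻¹ := ⟨_, rfl⟩
        rw [← hr']
        have hr : r ∈ c.R := hr' ▸ c.R_normal hx hv
        have hr2 : r * r = 1 := by rw [hr', conj_mul, hv2, mul_one, mul_inv_cancel]
        have hru : r * c.u ≠ c.u * r := by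
          intro h
          have hxu := c.conj_u (inv_mem hx)
          rw [inv_inv] at hxu
          have e1 : v * (x⁻¹ * c.u * x) = x⁻¹ * c.u * x * v := by
            have h1 := congrArg (fun g => x⁻¹ * g * x) h
            simpa [hr', mul_assoc] using h1
          rcases hxu with q | q <;> rw [q] at e1
          · exact hvu e1
          · rw [← mul_assoc, hzc v hv, mul_assoc, mul_assoc] at e1
            exact hvu (mul_left_cancel e1)
        obtain ⟨q, hq, hrq⟩ := hform r hr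
        have hz' : ∀ g ∈ c.R, Commute c.z g := fun g hg => (hzc g hg).symm
        rcases hq with rfl | rfl | rfl | rfl
        · exfalso
          rcases hrq with e | e <;> rw [e] at hru
          · exact hru (by rw [one_mul, mul_one])
          · exact hru (by rw [one_mul]; exact (hz' _ huR).eq)
        · exfalso
          rcases hrq with e | e <;> rw [e] at hru
          · exact hru rfl
          · exact hru (((Commute.refl c.u).mul_left (hz' _ huR)).eq)
        · rcases hrq with e | e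
          · exact Or.inl e
          · exact Or.inr (by rw [e, hzc _ hv])
        · exfalso
          have hq2 : c.u * v * (c.u * v) = c.z := by
            calc c.u * v * (c.u * v) = c.u * (v * c.u) * v := by group
              _ = (c.u * c.z) * c.u * (v * v) := by rw [hvu']; group
              _ = c.z := by rw [hv2, mul_one, hzc c.u huR, mul_assoc, c.u2, mul_one]
          rcases hrq with e | e <;> rw [e] at hr2
          · exact c.z1 (hq2.symm.trans hr2)
          · rw [mul_assoc, ← mul_assoc c.z, ← hzc _ (mul_mem huR hv), mul_assoc (c.u * v), c.z2, mul_one, hq2] at hr2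
            exact c.z1 hr2
      let V : Subgroup G := closure {c.z, v}
      have hVe : Cfsg.IsElementaryAbelian 2 V := elemAb_closure _ (by
        rintro p (rfl | rfl) q (rfl | rfl)
        exacts [rfl, (hzc q hv).symm, hzc p hv, rfl]) (by
        rintro p (rfl | rfl)
        exacts [c.z2, hv2])
      have hVS : V ≤ c.S := (closure_le _).2 (by
        rintro p (rfl | rfl)
        exacts [c.zS, c.R_le hv])
      have hVn : ∀ x ∈ c.S, ∀ p ∈ V, x * p * x⁻¹ ∈ V := fun x hx p hp => by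
        induction hp using closure_induction with
        | mem p hp =>
          rcases hp with rfl | rfl
          · rw [c.zc hx, mul_inv_cancel_right]; exact subset_closure (Or.inl rfl)
          · rcases hcl x hx with q | q <;> rw [q]
            · exact subset_closure (Or.inr rfl)
            · exact mul_mem (subset_closure (Or.inl rfl)) (subset_closure (Or.inr rfl))
        | one => simp
        | mul p q _ _ ihp ihq => rw [← conj_mul]; exact mul_mem ihp ihq
        | inv p _ ih => rw [← conj_inv]; exact inv_mem ih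
      have hV4 : Nat.card V = 4 := by
        refine le_antisymm (c.eight_normal hVS hVe hVn) ?_
        rw [show Nat.card V = (V : Set G).ncard from Nat.card_coe_set_eq _]
        refine le_trans ?_ (Set.ncard_le_ncard (show ({1, c.z, v, c.z * v} : Set G) ⊆ V by
          rintro g (rfl | rfl | rfl | rfl)
          exacts [one_mem _, subset_closure (Or.inl rfl), subset_closure (Or.inr rfl),
            mul_mem (subset_closure (Or.inl rfl)) (subset_closure (Or.inr rfl))]) (Set.toFinite _))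
        have hzv1 : c.z * v ≠ 1 := fun e => hvz ((eq_inv_of_mul_eq_one_right e).trans c.zi)
        have n2 : c.z * v ≠ c.z := fun e => hv1 (mul_eq_left.1 e)
        have n3 : c.z * v ≠ v := fun e => c.z1 (mul_eq_right.1 e)
        rw [Set.ncard_insert_of_notMem (by simp [c.z1.symm, Ne.symm hv1, hzv1.symm]) (Set.toFinite _),
          Set.ncard_insert_of_notMem (by simp [Ne.symm hvz, n2.symm]) (Set.toFinite _), Set.ncard_pair n3.symm]
      have hU := c.four_unique hVS hVe hV4 hVn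
      refine hvu ?_
      exact elemAb_comm c.four.elem (hU ▸ (subset_closure (Or.inr rfl) : v ∈ V)) c.uU
  -- the general shape
  push Not at hk1
  obtain ⟨c4, hc4⟩ : ∃ c4, c4 = wG ^ 2 ^ (k - 2) := ⟨_, rfl⟩
  have hc4R : c4 ∈ c.R := hc4 ▸ c.R.pow_mem hwGR _
  have hc4w : c4 ∈ zpowers wG := hc4 ▸ pow_mem (mem_zpowers _) _
  have hEc4 : ∀ e ∈ EG, e * c4 = c4 * e := fun e he =>
    hc4 ▸ ((show Commute e wG from hEw e he).pow_right _).eq
  have hc4sq' : c4 * c4 = wG ^ 2 ^ (k - 1) := by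
    rw [hc4, ← pow_add, ← two_mul, ← pow_succ', show k - 2 + 1 = k - 1 by omega]
  have hc4R0 : ∀ s ∈ R0, ((s : ↥c.R) : G) * (c4 * c4) = c4 * c4 * (s : ↥c.R) := by
    intro s hs
    rw [hc4sq']
    rcases hRf s hs with h | ⟨hk3, hinv, -⟩
    · exact ((show Commute ((s : ↥c.R) : G) wG from hwcyc h).pow_right _).eq
    · have h1 := hinv (2 ^ (k - 2))
      rw [← pow_succ', show k - 2 + 1 = k - 1 by omega] at h1
      have h2 : (wG ^ 2 ^ (k - 1))⁻¹ = wG ^ 2 ^ (k - 1) := inv_eq_of_mul_eq_one_right (by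
        rw [← pow_add, ← two_mul, ← pow_succ', show k - 1 + 1 = k by omega, ← hwk, pow_orderOf_eq_one])
      rw [h2] at h1
      exact mul_inv_eq_iff_eq_mul.1 h1
  have hc4z : c4 * c4 = c.z := by
    refine (c.central_z hA (mul_mem hc4R hc4R) ?_ fun r hr => ?_).resolve_left fun e => ?_
    · rw [hc4sq', ← pow_add, ← two_mul, ← pow_succ', show k - 1 + 1 = k by omega, ← hwk, pow_orderOf_eq_one]
    · obtain ⟨e, he, s, hs, rfl⟩ := hdec r hr
      have h1 : Commute (c4 * c4) ((e : ↥c.R) : G) :=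
        ((show Commute ((e : ↥c.R) : G) c4 from hEc4 _ ⟨e, he, rfl⟩).mul_right
          (hEc4 _ ⟨e, he, rfl⟩)).symm
      exact (h1.mul_right (show Commute ((s : ↥c.R) : G) (c4 * c4) from hc4R0 s hs).symm).eq
    · rw [hc4sq'] at e
      have := Nat.le_of_dvd (Nat.two_pow_pos _) (hwk ▸ orderOf_dvd_of_pow_eq_one e)
      have := Nat.pow_lt_pow_right (show 1 < 2 by norm_num) (show k - 1 < k by omega)
      omega
  have hc4E : c4 ∉ EG := fun h => by
    rcases hEcen c4 h fun f hf => (hEc4 f hf).symm with q | q <;> rw [q] at hc4z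
    · exact c.z1 (by rw [← hc4z, mul_one])
    · exact c.z1 (mul_eq_left.1 hc4z)
  have hc4i : c4⁻¹ = c.z * c4 := inv_eq_of_mul_eq_one_right (by
    rw [← mul_assoc, hzc c4 hc4R, mul_assoc, hc4z, c.z2])
  -- the extraspecial factor has order eight
  have hE8 : Nat.card EG = 8 := by
    let H : Subgroup G :=
      { carrier := {g | ∃ e ∈ EG, g = e ∨ g = e * c4}
        one_mem' := ⟨1, one_mem _, Or.inl rfl⟩
        mul_mem' := by
          rintro p q ⟨e, he, hp⟩ ⟨f, hf, hq⟩
          have hcf : c4 * f = f * c4 := (hEc4 f hf).symm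
          rcases hp with rfl | rfl <;> rcases hq with rfl | rfl
          · exact ⟨_, mul_mem he hf, Or.inl rfl⟩
          · exact ⟨_, mul_mem he hf, Or.inr (mul_assoc _ _ _).symm⟩
          · exact ⟨_, mul_mem he hf, Or.inr (by rw [mul_assoc, hcf, mul_assoc])⟩
          · refine ⟨_, mul_mem (mul_mem he hf) hzE, Or.inl ?_⟩
            rw [mul_assoc, ← mul_assoc c4, hcf, mul_assoc f c4 c4, hc4z, mul_assoc]
        inv_mem' := by
          rintro p ⟨e, he, rfl | rfl⟩
          · exact ⟨_, inv_mem he, Or.inl rfl⟩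
          · refine ⟨_, mul_mem (inv_mem he) hzE, Or.inr ?_⟩
            rw [mul_inv_rev, ((show Commute e c4 from hEc4 e he).symm.inv_left.inv_right).eq, hc4i, mul_assoc] }
    have hHsq : ∀ p ∈ H, p * p = 1 ∨ p * p = c.z := by
      rintro p ⟨e, he, rfl | rfl⟩
      · exact hEsq p he
      · rw [mul_assoc, ← mul_assoc c4, ← hEc4 e he, mul_assoc e c4 c4, hc4z, ← mul_assoc]
        rcases hEsq e he with q | q <;> rw [q]
        · right; rw [one_mul]
        · left; exact c.z2
    have hHS : H ≤ c.S := by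
      rintro p ⟨e, he, rfl | rfl⟩
      exacts [c.R_le (hEle he), c.R_le (mul_mem (hEle he) hc4R)]
    have hHcm : ∀ p ∈ H, ∀ q ∈ H, p * q = q * p ∨ p * q = c.z * (q * p) := by
      rintro p ⟨e, he, hp⟩ q ⟨f, hf, hq⟩
      have e1 : Commute c4 e := (hEc4 e he).symm
      have f1 : Commute c4 f := (hEc4 f hf).symm
      have key : ∀ γ δ : G, (γ = 1 ∨ γ = c4) → (δ = 1 ∨ δ = c4) →
          e * γ * (f * δ) = e * f * (γ * δ) ∧ f * δ * (e * γ) = f * e * (γ * δ) := by
        intro γ δ hγ hδ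
        have a1 : Commute γ f := by
          rcases hγ with r | r <;> rw [r]
          exacts [Commute.one_left _, f1]
        have a2 : Commute δ e := by
          rcases hδ with r | r <;> rw [r]
          exacts [Commute.one_left _, e1]
        have a3 : δ * γ = γ * δ := by
          rcases hγ with r | r <;> rcases hδ with r' | r' <;> rw [r, r'] <;> simp
        constructor
        · rw [mul_assoc, ← mul_assoc γ, a1.eq]; group
        · rw [mul_assoc, ← mul_assoc δ, a2.eq, ← a3]; group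
      obtain ⟨γ, hγ, rfl⟩ : ∃ γ, (γ = 1 ∨ γ = c4) ∧ p = e * γ := by
        rcases hp with r | r
        exacts [⟨1, Or.inl rfl, by rw [mul_one]; exact r⟩, ⟨c4, Or.inr rfl, r⟩]
      obtain ⟨δ, hδ, rfl⟩ : ∃ δ, (δ = 1 ∨ δ = c4) ∧ q = f * δ := by
        rcases hq with r | r
        exacts [⟨1, Or.inl rfl, by rw [mul_one]; exact r⟩, ⟨c4, Or.inr rfl, r⟩]
      obtain ⟨k1, k2⟩ := key γ δ hγ hδ
      rcases hEcm e he f hf with r | r
      · left; rw [k1, k2, r]
      · right; rw [k1, k2, r]; group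
    have hH32 := c.sect H hHS ⟨c.z, hzE, Or.inl rfl⟩ hHsq hHcm
    have h2 : 2 * Nat.card EG ≤ Nat.card H := by
      refine (le_of_eq ?_).trans (Nat.card_le_card_of_injective (α := Bool × ↥EG)
        (fun q => (⟨(q.2 : G) * (if q.1 then c4 else 1), ⟨q.2, q.2.2, by
          cases q.1 <;> simp⟩⟩ : ↥H)) ?_)
      · simp [Nat.card_prod]
      rintro ⟨b₁, e⟩ ⟨b₂, f⟩ h
      have h' : (e : G) * (if b₁ then c4 else 1) = (f : G) * (if b₂ then c4 else 1) := congrArg Subtype.val h
      cases b₁ <;> cases b₂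
      · simp at h'; exact Prod.ext rfl h'
      · simp only [if_true, mul_one, Bool.false_eq_true, if_false] at h'
        exact absurd (show c4 ∈ EG by rw [show c4 = (f : G)⁻¹ * e by rw [h']; group]; exact mul_mem (inv_mem f.2) e.2) hc4E
      · simp only [if_true, mul_one, Bool.false_eq_true, if_false] at h'
        exact absurd (show c4 ∈ EG by rw [show c4 = (e : G)⁻¹ * f by rw [← h']; group]; exact mul_mem (inv_mem e.2) f.2) hc4E
      · simp at h'; exact Prod.ext rfl h'
    have h4 : 4 ≤ Nat.card EG := by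
      by_contra hlt
      have hm0 : m = 0 := by
        by_contra hm0
        have := Nat.pow_le_pow_right two_pos (show 3 ≤ 2 * m + 1 by omega)
        rw [← hm] at this
        omega
      rw [hm0] at hm
      obtain ⟨g, -, hu⟩ := Nat.card_eq_two_iff.1 (show Nat.card ↥EG = 2 by rw [hm]; norm_num)
      haveI : IsCyclic ↥EG := isCyclic_of_prime_card (p := 2) (by rw [hm]; norm_num)
      have := congrArg Subtype.val ((IsCyclic.commGroup (α := ↥EG)).mul_comm ⟨i, hiE⟩ ⟨j, hjE⟩)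
      have e : i * j = j * i := this
      rw [e] at hij
      exact c.z1 (mul_eq_right.1 hij.symm)
    have h16 : Nat.card EG ≤ 16 := by omega
    rw [hm] at h4 h16 ⊢
    rcases m with _ | _ | m
    · norm_num at h4
    · norm_num
    · have : 2 ^ 5 ≤ 2 ^ (2 * (m + 1 + 1) + 1) := Nat.pow_le_pow_right two_pos (by omega)
      omega
  -- the elements of `E`
  have hEform := forms8 EG hzE c.z2 c.z1 (fun e he => hzc e (hEle he)) hE8 hiE hjE hij
  -- replace `i`, `j` by involutions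
  have hup : ∀ p ∈ EG, ∃ a, (a = p ∨ a = p * c4) ∧ a * a = 1 := by
    intro p hp
    rcases hEsq p hp with q | q
    · exact ⟨p, Or.inl rfl, q⟩
    · refine ⟨p * c4, Or.inr rfl, ?_⟩
      rw [mul_assoc, ← mul_assoc c4, ← hEc4 p hp, mul_assoc p c4 c4, hc4z, ← mul_assoc, q, c.z2]
  obtain ⟨a, ha, ha2⟩ := hup i hiE
  obtain ⟨b, hb, hb2⟩ := hup j hjE
  have hwc4 : Commute wG c4 := hc4 ▸ (Commute.refl wG).pow_right _
  obtain ⟨γ, hγ, rfl⟩ : ∃ γ, (γ = 1 ∨ γ = c4) ∧ a = i * γ := by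
    rcases ha with r | r
    exacts [⟨1, Or.inl rfl, by rw [mul_one]; exact r⟩, ⟨c4, Or.inr rfl, r⟩]
  obtain ⟨δ, hδ, rfl⟩ : ∃ δ, (δ = 1 ∨ δ = c4) ∧ b = j * δ := by
    rcases hb with r | r
    exacts [⟨1, Or.inl rfl, by rw [mul_one]; exact r⟩, ⟨c4, Or.inr rfl, r⟩]
  have hcg : ∀ γ : G, (γ = 1 ∨ γ = c4) → γ ∈ zpowers wG ∧ γ ∈ c.R ∧ (∀ e ∈ EG, e * γ = γ * e) := by
    rintro γ (rfl | rfl)
    · exact ⟨one_mem _, one_mem _, fun e _ => by simp⟩
    · exact ⟨hc4w, hc4R, hEc4⟩
  obtain ⟨hγw, hγR, hγE⟩ := hcg γ hγ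
  obtain ⟨hδw, hδR, hδE⟩ := hcg δ hδ
  have hec4 : ∀ e ∈ E0, ((e : ↥c.R) : G) * c4 = c4 * (e : ↥c.R) := fun e he => hEc4 _ ⟨e, he, rfl⟩
  have hc4conj : ∀ r ∈ c.R, r * c4 * r⁻¹ = c4 ∨ r * c4 * r⁻¹ = c4 * c.z := by
    intro r hr
    obtain ⟨e, he, s, hs, rfl⟩ := hdec r hr
    have hse : ∀ v : G, ((e : ↥c.R) : G) * s * v * (((e : ↥c.R) : G) * s)⁻¹ =
        (e : ↥c.R) * ((s : ↥c.R) * v * ((s : ↥c.R) : G)⁻¹) * ((e : ↥c.R) : G)⁻¹ := fun v => by group
    rw [hse]
    rcases hRf s hs with h | ⟨hk3, hinv, -⟩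
    · left
      have h1 : ((s : ↥c.R) : G) * c4 * ((s : ↥c.R) : G)⁻¹ = c4 := by
        rw [hc4, ((show Commute ((s : ↥c.R) : G) wG from hwcyc h).pow_right _).eq, mul_inv_cancel_right]
      rw [h1, hec4 e he, mul_inv_cancel_right]
    · right
      have h1 := hinv (2 ^ (k - 3))
      rw [← pow_succ', show k - 3 + 1 = k - 2 by omega, ← hc4, hc4i] at h1
      rw [h1]
      have h2 : ((e : ↥c.R) : G) * (c.z * c4) = c.z * c4 * (e : ↥c.R) := by
        rw [← mul_assoc, hzc _ (e : ↥c.R).2, mul_assoc, hec4 e he, mul_assoc]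
      rw [h2, mul_inv_cancel_right, hzc c4 hc4R]
  have hgconj : ∀ γ : G, (γ = 1 ∨ γ = c4) → ∀ r ∈ c.R, r * γ * r⁻¹ = γ ∨ r * γ * r⁻¹ = γ * c.z := by
    rintro γ (rfl | rfl) r hr
    · left; group
    · exact hc4conj r hr
  have hEconj : ∀ p ∈ EG, ∀ r ∈ c.R, r * p * r⁻¹ = p ∨ r * p * r⁻¹ = p * c.z := by
    intro p hp r hr
    obtain ⟨e, he, s, hs, rfl⟩ := hdec r hr
    obtain ⟨hpR, hpE⟩ := (hEG p).1 hp
    have hsp : ((s : ↥c.R) : G) * p * ((s : ↥c.R) : G)⁻¹ = p := by
      rw [← hcomm ⟨p, hpR⟩ hpE s hs, mul_inv_cancel_right]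
    rw [show ((e : ↥c.R) : G) * s * p * (((e : ↥c.R) : G) * s)⁻¹ =
      (e : ↥c.R) * ((s : ↥c.R) * p * ((s : ↥c.R) : G)⁻¹) * ((e : ↥c.R) : G)⁻¹ by group, hsp]
    rcases hEcm _ ⟨e, he, rfl⟩ p hp with q | q
    · left
      have q' : ((e : ↥c.R) : G) * p = p * (e : ↥c.R) := q
      rw [q', mul_inv_cancel_right]
    · right
      have q' : ((e : ↥c.R) : G) * p = c.z * (p * (e : ↥c.R)) := q
      rw [q', ← mul_assoc, ← hzc p (hEle hp), mul_inv_cancel_right]
  have hpairconj : ∀ p ∈ EG, ∀ γ : G, (γ = 1 ∨ γ = c4) → ∀ r ∈ c.R,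
      r * (p * γ) * r⁻¹ = p * γ ∨ r * (p * γ) * r⁻¹ = p * γ * c.z := by
    intro p hp γ hγ r hr
    obtain ⟨-, hγR, -⟩ := hcg γ hγ
    have hzg : c.z * γ = γ * c.z := (hzc γ hγR).symm
    rw [← conj_mul]
    rcases hEconj p hp r hr with q | q <;> rcases hgconj γ hγ r hr with q' | q' <;> rw [q, q']
    · exact Or.inl rfl
    · right; rw [mul_assoc]
    · right; rw [mul_assoc p, hzg, ← mul_assoc]
    · left; rw [mul_assoc p, ← mul_assoc c.z, hzg, mul_assoc γ, c.z2, mul_one]
  have haw : ∀ p ∈ EG, ∀ γ : G, (γ = 1 ∨ γ = c4) → wG * (p * γ) = p * γ * wG := fun p hp γ hγ => by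
    have h1 : Commute wG γ := by
      rcases hγ with r | r <;> rw [r]
      exacts [Commute.one_right _, hwc4]
    exact ((show Commute p wG from hEw p hp).symm.mul_right h1).eq
  refine ⟨⟨i * γ, j * δ, c4, wG, k, mul_mem (hEle hiE) hγR, mul_mem (hEle hjE) hδR, hwGR, hk1, hwk, hc4, hc4z,
    ha2, hb2, ?_, haw i hiE γ hγ, haw j hjE δ hδ, hpairconj i hiE γ hγ, hpairconj j hjE δ hδ, hc4conj, ?_, ?_, ?_⟩⟩
  · have hgd : γ * δ = δ * γ := by
      rcases hγ with r | r <;> rcases hδ with r' | r' <;> rw [r, r'] <;> simp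
    calc i * γ * (j * δ) = i * (γ * j) * δ := by group
      _ = (i * j) * (γ * δ) := by rw [← hγE j hjE]; group
      _ = c.z * (j * (i * δ) * γ) := by rw [hij, hgd]; group
      _ = c.z * (j * δ * (i * γ)) := by rw [hδE i hiE]; group
  · intro r hr hrc
    obtain ⟨e, he, s, hs, rfl⟩ := hdec r hr
    have hsw : ((s : ↥c.R) : G) ∈ zpowers wG := by
      refine (hRf s hs).resolve_right ?_
      rintro ⟨hk3, hinv, -⟩
      have h1 := hinv (2 ^ (k - 3))
      rw [← pow_succ', show k - 3 + 1 = k - 2 by omega, ← hc4, hc4i] at h1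
      have h2 : ((e : ↥c.R) : G) * (s * c4) = (e : ↥c.R) * (c4 * s) := by
        rw [← mul_assoc, hrc, ← mul_assoc, ← hec4 e he, mul_assoc]
      rw [mul_left_cancel h2, mul_inv_cancel_right] at h1
      exact c.z1 (right_eq_mul.1 h1)
    have hzw : c.z ∈ zpowers wG := hc4z ▸ mul_mem hc4w hc4w
    obtain ⟨q, hq, hqe⟩ := hEform _ ⟨e, he, rfl⟩
    obtain ⟨ζ, hζ, hqe'⟩ : ∃ ζ, ζ ∈ zpowers wG ∧ ((e : ↥c.R) : G) = q * ζ := by
      rcases hqe with r | r
      · exact ⟨1, one_mem _, by rw [mul_one]; exact r⟩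
      · exact ⟨c.z, hzw, r⟩
    have hrest : ∀ ν ∈ zpowers wG, ν * ζ * ((s : ↥c.R) : G) ∈ zpowers wG := fun ν hν =>
      mul_mem (mul_mem hν hζ) hsw
    have hiR := hEle hiE
    rw [hqe']
    rcases hq with r | r | r | r <;> rw [r]
    · exact Or.inl (mul_mem (mul_mem (one_mem _) hζ) hsw)
    · refine Or.inr (Or.inl ?_)
      have h1 : i * γ * i ∈ zpowers wG := by
        rw [mul_assoc, ← hγE i hiE, ← mul_assoc]
        rcases hEsq i hiE with q' | q' <;> rw [q']
        exacts [mul_mem (one_mem _) hγw, mul_mem hzw hγw]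
      rw [show i * γ * (i * ζ * ((s : ↥c.R) : G)) = (i * γ * i) * ζ * ((s : ↥c.R) : G) by group]
      exact hrest _ h1
    · refine Or.inr (Or.inr (Or.inl ?_))
      have h1 : j * δ * j ∈ zpowers wG := by
        rw [mul_assoc, ← hδE j hjE, ← mul_assoc]
        rcases hEsq j hjE with q' | q' <;> rw [q']
        exacts [mul_mem (one_mem _) hδw, mul_mem hzw hδw]
      rw [show j * δ * (j * ζ * ((s : ↥c.R) : G)) = (j * δ * j) * ζ * ((s : ↥c.R) : G) by group]
      exact hrest _ h1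
    · refine Or.inr (Or.inr (Or.inr ?_))
      have h1 : i * γ * (j * δ) * (i * j) ∈ zpowers wG := by
        have e1 : i * γ * (j * δ) * (i * j) = (i * j) * (i * j) * (γ * δ) := by
          have hd : Commute δ (i * j) := ((show Commute i δ from hδE i hiE).symm.mul_right
            (show Commute j δ from hδE j hjE).symm)
          have hg : Commute γ (i * j) := ((show Commute i γ from hγE i hiE).symm.mul_right
            (show Commute j γ from hγE j hjE).symm)
          calc i * γ * (j * δ) * (i * j) = i * (γ * j) * (δ * (i * j)) := by group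
            _ = (i * j) * (γ * (i * j)) * δ := by rw [← hγE j hjE, hd.eq]; group
            _ = _ := by rw [hg.eq]; group
        rw [e1]
        rcases hEsq _ (mul_mem hiE hjE) with q' | q' <;> rw [q']
        exacts [mul_mem (one_mem _) (mul_mem hγw hδw), mul_mem hzw (mul_mem hγw hδw)]
      rw [show i * γ * (j * δ) * (i * j * ζ * ((s : ↥c.R) : G)) =
        (i * γ * (j * δ) * (i * j)) * ζ * ((s : ↥c.R) : G) by group]
      exact hrest _ h1
  · intro r hr
    obtain ⟨e, he, s, hs, rfl⟩ := hdec r hr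
    have hzw : c.z ∈ zpowers wG := hc4z ▸ mul_mem hc4w hc4w
    rw [show ((e : ↥c.R) : G) * s * ((e : ↥c.R) * s) = (e : ↥c.R) * ((s : ↥c.R) * (e : ↥c.R)) * s by group,
      ← hcomm e he s hs, show ((e : ↥c.R) : G) * ((e : ↥c.R) * s) * s = ((e : ↥c.R) : G) * (e : ↥c.R) *
        (((s : ↥c.R) : G) * s) by group]
    refine mul_mem ?_ ?_
    · rcases hEsq _ ⟨e, he, rfl⟩ with q | q
      · exact (show ((e : ↥c.R) : G) * (e : ↥c.R) = 1 from q) ▸ one_mem _
      · exact (show ((e : ↥c.R) : G) * (e : ↥c.R) = c.z from q) ▸ hzw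
    · rcases hRf s hs with h | ⟨-, -, q | q⟩
      · exact mul_mem h h
      · rw [q]; exact one_mem _
      · rw [q]; exact pow_mem (mem_zpowers _) _
  · intro hk2 r hr
    obtain ⟨e, he, s, hs, rfl⟩ := hdec r hr
    have hsw := (hRf s hs).resolve_right fun h => by have := h.1; omega
    have h1 : Commute ((s : ↥c.R) : G) c4 := hc4 ▸ (show Commute ((s : ↥c.R) : G) wG from hwcyc hsw).pow_right _
    exact ((show Commute ((e : ↥c.R) : G) c4 from hec4 e he).mul_left h1).eq

end Hyp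

end Cfsg.Agent.Transfer.NoEight
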