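import Cfsg.Agent.Lib.Transfer.NoEight.Unique
import Cfsg.Agent.Lib.Transfer.Local.Normed

/-!
# Frames `(t, P)`: the part of a Sylow 2-subgroup `P` of a constrained centraliser `C(t)` in `O_{2',2}`

The frames at `z` and, when `z` is not fused to `u`, at `u`; the fusion inside `U`.
-/

set_option autoImplicit false
set_option linter.unusedSectionVars false
set_option linter.style.haveILetI false

namespace Cfsg.Agent.Transfer.NoEight

open Subgroup CoreConsumers.Disc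
open scoped commutatorElement

universe u

variable {G : Type u} [Group G] [Finite G]

/-- `O_{2',2}(C(t))`, in `G`. -/
def upper (t : G) : Subgroup G :=
  (Cfsg.pPrimePCore 2 ↥(centralizer ({t} : Set G))).map (centralizer ({t} : Set G)).subtype

/-- `O(C(t))`, in `G`. -/
def oc (t : G) : Subgroup G :=
  (Cfsg.pPrimeCore 2 ↥(centralizer ({t} : Set G))).map (centralizer ({t} : Set G)).subtype

theorem oc_le (t : G) : oc t ≤ centralizer ({t} : Set G) := map_subtype_le _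

theorem upper_le (t : G) : upper t ≤ centralizer ({t} : Set G) := map_subtype_le _

theorem upper_conj {t g r : G} (hg : g ∈ centralizer ({t} : Set G)) (hr : r ∈ upper t) :
    g * r * g⁻¹ ∈ upper t := by
  haveI : Fact (Nat.Prime 2) := ⟨Nat.prime_two⟩
  haveI : (Cfsg.pPrimeCore 2 ↥(centralizer ({t} : Set G))).Normal := Grp.pPrimeCore_isNormal
  haveI : (Cfsg.pCore 2 (↥(centralizer ({t} : Set G)) ⧸ Cfsg.pPrimeCore 2 ↥(centralizer ({t} : Set G)))).Normal :=
    Grp.pCore_isNormal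
  haveI hn : (Cfsg.pPrimePCore 2 ↥(centralizer ({t} : Set G))).Normal := Subgroup.Normal.comap inferInstance _
  obtain ⟨a, ha, rfl⟩ := hr
  exact ⟨⟨g, hg⟩ * a * (⟨g, hg⟩ : ↥(centralizer ({t} : Set G)))⁻¹, hn.conj_mem a ha _, rfl⟩

theorem oc_conj {t g r : G} (hg : g ∈ centralizer ({t} : Set G)) (hr : r ∈ oc t) :
    g * r * g⁻¹ ∈ oc t := by
  have hn : (Cfsg.pPrimeCore 2 ↥(centralizer ({t} : Set G))).Normal := Grp.pPrimeCore_isNormal
  obtain ⟨a, ha, rfl⟩ := hr
  exact ⟨⟨g, hg⟩ * a * (⟨g, hg⟩ : ↥(centralizer ({t} : Set G)))⁻¹, hn.conj_mem a ha _, rfl⟩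

theorem oc_odd (t : G) : (Nat.card (oc t)).Coprime 2 := by
  rw [oc, card_map_of_injective (centralizer ({t} : Set G)).subtype_injective]
  exact Grp.pPrimeCore_coprime

/-- A 2-element of `O(C(t))` is trivial. -/
theorem oc_two {t x : G} (hx : x ∈ oc t) {k : ℕ} (hk : x ^ 2 ^ k = 1) : x = 1 := by
  have h1 : orderOf x ∣ 2 ^ k := orderOf_dvd_of_pow_eq_one hk
  have h2 : (orderOf x).Coprime (2 ^ k) := by
    have := (oc_odd t).pow_right k
    have h3 := orderOf_dvd_natCard (⟨x, hx⟩ : oc t)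
    rw [← Subgroup.orderOf_coe] at h3
    exact Nat.Coprime.coprime_dvd_left h3 this
  exact orderOf_eq_one_iff.1 (Nat.eq_one_of_dvd_coprimes h2 dvd_rfl h1)

/-- A frame. -/
structure Frame (t : G) (P : Subgroup G) : Prop where
  le : P ≤ centralizer ({t} : Set G)
  pgroup : IsPGroup 2 P
  full : ∀ Q : Subgroup G, P ≤ Q → Q ≤ centralizer ({t} : Set G) → IsPGroup 2 Q → Q = P
  cons : Cfsg.IsPConstrained 2 ↥(centralizer ({t} : Set G))

/-- The radical of a frame. -/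
def rad (t : G) (P : Subgroup G) : Subgroup G := P ⊓ upper t

namespace Frame

variable {t : G} {P : Subgroup G}

theorem rad_le : rad t P ≤ P := inf_le_left

theorem mem_rad {r : G} : r ∈ rad t P ↔ r ∈ P ∧ r ∈ upper t := Iff.rfl

theorem rad_conj (F : Frame t P) {g r : G} (hg : g ∈ P) (hr : r ∈ rad t P) : g * r * g⁻¹ ∈ rad t P :=
  ⟨P.mul_mem (P.mul_mem hg hr.1) (P.inv_mem hg), upper_conj (F.le hg) hr.2⟩

theorem rad_fused {g r : G} (hg : g ∈ centralizer ({t} : Set G)) (hr : r ∈ rad t P)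
    (h : g * r * g⁻¹ ∈ P) : g * r * g⁻¹ ∈ rad t P := ⟨h, upper_conj hg hr.2⟩

/-- The Sylow subgroup of `C(t)` given by the frame. -/
theorem exists_sylow (F : Frame t P) :
    ∃ Q : Sylow 2 ↥(centralizer ({t} : Set G)),
      (Q : Subgroup ↥(centralizer ({t} : Set G))) = P.subgroupOf (centralizer ({t} : Set G)) := by
  refine ⟨⟨P.subgroupOf _, F.pgroup.of_equiv (subgroupOfEquivOfLe F.le).symm, fun {Q} hQ hle => ?_⟩, rfl⟩
  have h := F.full (Q.map (centralizer ({t} : Set G)).subtype)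
    (fun x hx => ⟨⟨x, F.le hx⟩, hle hx, rfl⟩) (map_subtype_le Q) (hQ.map _)
  conv_rhs => rw [← h]
  rw [subgroupOf, comap_map_eq_self_of_injective (centralizer ({t} : Set G)).subtype_injective]

theorem rad_eq (Q : Sylow 2 ↥(centralizer ({t} : Set G)))
    (hQ : (Q : Subgroup ↥(centralizer ({t} : Set G))) = P.subgroupOf (centralizer ({t} : Set G))) :
    ((Q : Subgroup _) ⊓ Cfsg.pPrimePCore 2 ↥(centralizer ({t} : Set G))).map
      (centralizer ({t} : Set G)).subtype = rad t P := by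
  rw [map_inf _ _ _ (centralizer ({t} : Set G)).subtype_injective, hQ, subgroupOf_map_subtype, rad, upper]
  refine le_antisymm (inf_le_inf_right _ inf_le_left) fun x hx => ⟨⟨hx.1, map_subtype_le _ hx.2⟩, hx.2⟩

theorem rad_sup (F : Frame t P) {x : G} (hx : x ∈ upper t) : ∃ r ∈ rad t P, ∃ o ∈ oc t, r * o = x := by
  haveI : Fact (Nat.Prime 2) := ⟨Nat.prime_two⟩
  haveI : (Cfsg.pPrimeCore 2 ↥(centralizer ({t} : Set G))).Normal := Grp.pPrimeCore_isNormal
  obtain ⟨Q, hQ⟩ := F.exists_sylow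
  obtain ⟨a, ha, rfl⟩ := hx
  obtain ⟨r, hr, o, ho, he⟩ := mem_sup_of_normal_right.1 ((Transfer.Loc.sup_core_eq_pPrimePCore Q).ge ha)
  refine ⟨r, (rad_eq Q hQ).le ⟨r, hr, rfl⟩, o, ⟨o, ho, rfl⟩, ?_⟩
  rw [← he]; rfl

/-- Frattini: `C(t) = O(C(t)) N(rad)`. -/
theorem frattini (F : Frame t P) {g : G} (hg : g ∈ centralizer ({t} : Set G)) :
    ∃ o ∈ oc t, ∃ n ∈ centralizer ({t} : Set G), n ∈ normalizer (rad t P : Set G) ∧ g = o * n := by
  haveI : Fact (Nat.Prime 2) := ⟨Nat.prime_two⟩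
  set X := centralizer ({t} : Set G) with hX
  haveI : (Cfsg.pPrimeCore 2 X).Normal := Grp.pPrimeCore_isNormal
  haveI : (Cfsg.pCore 2 (X ⧸ Cfsg.pPrimeCore 2 X)).Normal := Grp.pCore_isNormal
  haveI : (Cfsg.pPrimePCore 2 X).Normal := Subgroup.Normal.comap inferInstance _
  obtain ⟨Q, hQ⟩ := F.exists_sylow
  set R := (Q : Subgroup X) ⊓ Cfsg.pPrimePCore 2 X with hR
  have htop : normalizer (R : Set X) ⊔ Cfsg.pPrimeCore 2 X = ⊤ :=
    Transfer.Loc.frattini_core (p := 2) R _ _ (Q.isPGroup'.to_le inf_le_left)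
      Grp.pPrimeCore_coprime (Transfer.Loc.sup_core_eq_pPrimePCore Q)
      (by rw [normalizer_eq_top]; exact le_top)
  rw [sup_comm] at htop
  obtain ⟨o, ho, n, hn, he⟩ := mem_sup_of_normal_left.1 (htop.ge (mem_top (⟨g, hg⟩ : X)))
  refine ⟨o, ⟨o, ho, rfl⟩, n, n.2, ?_, (congrArg Subtype.val he).symm⟩
  rw [← rad_eq Q hQ]
  exact le_normalizer_map X.subtype ⟨n, hn, rfl⟩

/-- Constraint: the centraliser of the radical in `P` lies in it. -/
theorem self_centralizing (F : Frame t P) {x : G} (hx : x ∈ P) (hc : ∀ r ∈ rad t P, x * r = r * x) :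
    x ∈ rad t P := by
  haveI : Fact (Nat.Prime 2) := ⟨Nat.prime_two⟩
  set X := centralizer ({t} : Set G) with hX
  haveI : (Cfsg.pPrimeCore 2 X).Normal := Grp.pPrimeCore_isNormal
  haveI : (Cfsg.pCore 2 (X ⧸ Cfsg.pPrimeCore 2 X)).Normal := Grp.pCore_isNormal
  haveI : (Cfsg.pPrimePCore 2 X).Normal := Subgroup.Normal.comap inferInstance _
  obtain ⟨Q, hQ⟩ := F.exists_sylow
  have hidx := Grp.sylow_inf_normal_relIndex Q (Cfsg.pPrimePCore 2 X)
  let S' : Sylow 2 ↥(Cfsg.pPrimePCore 2 X) :=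
    (Q.isPGroup'.comap_subtype (K := Cfsg.pPrimePCore 2 X)).toSylow hidx
  refine ⟨hx, ⟨⟨x, F.le hx⟩, F.cons S' (mem_centralizer_iff.2 fun r hr => ?_), rfl⟩⟩
  obtain ⟨⟨r', hr'⟩, hr'Q, rfl⟩ := hr
  refine Subtype.ext (hc _ ?_).symm
  exact (rad_eq Q hQ).le ⟨r', ⟨hr'Q, hr'⟩, rfl⟩

/-- An element moving `P` only by `t` lies in the radical. -/
theorem mem_rad_of_stable (F : Frame t P) (ht : t * t = 1) {x : G} (hx : x ∈ P)
    (h : ∀ s ∈ P, x * s * x⁻¹ * s⁻¹ = 1 ∨ x * s * x⁻¹ * s⁻¹ = t) : x ∈ rad t P := by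
  haveI : Fact (Nat.Prime 2) := ⟨Nat.prime_two⟩
  set X := centralizer ({t} : Set G) with hX
  have htX : t ∈ X := mem_centralizer_singleton_iff.2 rfl
  obtain ⟨Q, hQ⟩ := F.exists_sylow
  refine ⟨hx, ⟨⟨x, F.le hx⟩, ?_, rfl⟩⟩
  refine mem_pPrimePCore_of_stable F.cons (b := ⟨t, htX⟩) (Subtype.ext ht)
    (fun y => Subtype.ext (mem_centralizer_singleton_iff.1 y.2).symm) Q fun s hs => ?_
  rw [hQ] at hs
  rcases h s hs with e | e
  · rw [show (⟨x, F.le hx⟩ : X) * s * (⟨x, F.le hx⟩ : X)⁻¹ * s⁻¹ = 1 from Subtype.ext e]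
    exact one_mem _
  · rw [show (⟨x, F.le hx⟩ : X) * s * (⟨x, F.le hx⟩ : X)⁻¹ * s⁻¹ = ⟨t, htX⟩ from Subtype.ext e]
    exact mem_zpowers _

/-- Elements of the core normalising the radical centralise it. -/
theorem core_comm (F : Frame t P) {o r : G} (ho : o ∈ oc t) (hn : o ∈ normalizer (rad t P : Set G))
    (hr : r ∈ rad t P) : o * r = r * o := by
  have h1 : o * r * o⁻¹ * r⁻¹ ∈ oc t := by
    rw [show o * r * o⁻¹ * r⁻¹ = o * (r * o⁻¹ * r⁻¹) by group]
    exact mul_mem ho (oc_conj (F.le hr.1) (inv_mem ho))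
  have h2 : o * r * o⁻¹ * r⁻¹ ∈ rad t P := mul_mem ((mem_normalizer_iff.1 hn r).1 hr) (inv_mem hr)
  obtain ⟨k, hk⟩ := F.pgroup ⟨_, rad_le h2⟩
  have h3 := oc_two h1 (congrArg Subtype.val hk)
  exact mul_inv_eq_iff_eq_mul.1 (mul_inv_eq_one.1 h3)

end Frame

namespace Hyp

variable (c : Hyp G)

theorem frameZ : Frame c.z c.S where
  le := fun _ hg => mem_centralizer_singleton_iff.2 (c.zc hg)
  pgroup := c.S_isPGroup
  full := fun _ hle _ hQ => c.T.is_maximal' hQ hle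
  cons := by
    refine c.cons c.z c.zS c.four.ord ?_
    rw [inf_eq_right.2 fun g hg => mem_centralizer_singleton_iff.2 (c.zc hg)]
    rw [relIndex_self]; omega

/-- `O_{2',2}(C(z))` in `T`. -/
def R : Subgroup G := rad c.z c.S

theorem R_le : c.R ≤ c.S := inf_le_left

theorem R_normal {g r : G} (hg : g ∈ c.S) (hr : r ∈ c.R) : g * r * g⁻¹ ∈ c.R := c.frameZ.rad_conj hg hr

theorem U_le_R : c.U ≤ c.R := fun a ha => by
  refine c.frameZ.mem_rad_of_stable c.z2 (c.UleS ha) fun s hs => ?_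
  have hi : (s * a * s⁻¹)⁻¹ = s * a * s⁻¹ := inv_eq_of_mul_eq_one_right (c.four.mul_self (c.Unormal hs ha))
  rw [show a * s * a⁻¹ * s⁻¹ = a * (s * a * s⁻¹)⁻¹ by group, hi]
  rcases c.Ucases ha with rfl | rfl | rfl | rfl
  · left; simp
  · left; rw [c.zc hs, mul_inv_cancel_right, c.z2]
  · rcases c.conj_u hs with e | e <;> rw [e]
    · exact Or.inl c.u2
    · right; rw [← mul_assoc, ← c.zu, mul_assoc, c.u2, mul_one]
  · have e1 : s * (c.z * c.u) * s⁻¹ = c.z * (s * c.u * s⁻¹) := by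
      rw [← mul_assoc, c.zc hs]; group
    have e2 : c.u * c.z * c.u = c.z := by rw [← c.zu, mul_assoc, c.u2, mul_one]
    rw [e1]
    rcases c.conj_u hs with e | e <;> rw [e]
    · left; exact c.four.mul_self ha
    · right; rw [← mul_assoc c.z c.z, c.z2, one_mul, mul_assoc, c.u2, mul_one]

/-- Involutions of `T₀` central in `T₀` lie in `U`. -/
theorem omega_T0 {a : G} (ha : a ∈ c.T0) (ha2 : a * a = 1) (hc : ∀ g ∈ c.T0, g * a = a * g) : a ∈ c.U := by
  let Ω : Subgroup G :=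
    { carrier := {x | x ∈ c.T0 ∧ x * x = 1 ∧ ∀ g ∈ c.T0, g * x = x * g}
      one_mem' := ⟨one_mem _, one_mul 1, fun g _ => by simp⟩
      mul_mem' := by
        rintro x y ⟨hx, hx2, hxc⟩ ⟨hy, hy2, hyc⟩
        refine ⟨mul_mem hx hy, ?_, fun g hg => ?_⟩
        · rw [(show Commute x y from hyc x hx).symm.mul_mul_mul_comm x y, hx2, hy2, mul_one]
        · rw [← mul_assoc, hxc g hg, mul_assoc, hyc g hg, mul_assoc]
      inv_mem' := by
        rintro x ⟨hx, hx2, hxc⟩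
        rw [inv_eq_of_mul_eq_one_right hx2]
        exact ⟨hx, hx2, hxc⟩ }
  have hΩ : ∀ x, x ∈ Ω ↔ x ∈ c.T0 ∧ x * x = 1 ∧ ∀ g ∈ c.T0, g * x = x * g := fun x => Iff.rfl
  have hE : Cfsg.IsElementaryAbelian 2 Ω :=
    elemAb_of (fun x hx y hy => ((hΩ y).1 hy).2.2 x ((hΩ x).1 hx).1) fun x hx => ((hΩ x).1 hx).2.1
  have h := c.le_U (fun x hx => c.T0_le ((hΩ x).1 hx).1) hE
    (fun g hg x hx => ⟨c.T0_normal hg hx.1, by rw [conj_mul, hx.2.1, mul_one, mul_inv_cancel], fun y hy => by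
      have h1 := hx.2.2 _ (c.T0_normal (inv_mem hg) hy)
      rw [inv_inv] at h1
      calc y * (g * x * g⁻¹) = g * (g⁻¹ * y * g * x) * g⁻¹ := by group
        _ = g * (x * (g⁻¹ * y * g)) * g⁻¹ := by rw [h1]
        _ = g * x * g⁻¹ * y := by group⟩)
    (fun x hx => ⟨c.UleT0 hx, c.four.mul_self hx, fun g hg => c.T0_comm hg hx⟩)
  exact h ▸ (show a ∈ Ω from ⟨ha, ha2, hc⟩)

/-- `z` is conjugate to another involution of `U`. -/
def Fused : Prop := ∃ g : G, g * c.z * g⁻¹ = c.u ∨ g * c.z * g⁻¹ = c.z * c.u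

/-- An element of `G` mapping `T₀` into `T` as a normal subgroup fixes `T₀` and `U`. -/
theorem normalizes_T0 {g : G} (hg : ∀ r ∈ c.T0, g * r * g⁻¹ ∈ c.S) :
    g ∈ normalizer (c.T0 : Set G) ∧ g ∈ normalizer (c.U : Set G) := by
  have hn : ∀ s ∈ c.S, ∀ r ∈ c.T0, ∃ r' ∈ c.T0, s * (g * r * g⁻¹) * s⁻¹ = g * r' * g⁻¹ := by
    intro s hs r hr
    set f : G →* G := (MulAut.conj g).toMonoidHom with hfd
    have hle : c.T0.map f ≤ c.S := by
      rintro _ ⟨x, hx, rfl⟩
      exact hg x hx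
    have hidx : (c.T0.map f).relIndex c.S ≤ 2 := by
      have h1 : c.T0.relIndex c.S ≤ 2 := by
        by_cases hT : c.S ≤ c.T0
        · rw [relIndex_eq_one.2 hT]; omega
        · obtain ⟨x, hx, hx'⟩ := SetLike.not_le_iff_exists.1 hT
          rw [c.T0_relIndex hx hx']
      have h2 := relIndex_mul_relIndex ⊥ (c.T0.map f) c.S bot_le hle
      have h3 := relIndex_mul_relIndex ⊥ c.T0 c.S bot_le c.T0_le
      rw [relIndex_bot_left, relIndex_bot_left, card_map_of_injective (MulAut.conj g).injective] at h2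
      rw [relIndex_bot_left, relIndex_bot_left, ← h2] at h3
      exact (Nat.eq_of_mul_eq_mul_left Nat.card_pos h3) ▸ h1
    haveI : ((c.T0.map f).subgroupOf c.S).Normal := by
      rcases Nat.le_one_iff_eq_zero_or_eq_one.1 (show (c.T0.map f).relIndex c.S - 1 ≤ 1 by omega) with e | e
      · have : (c.T0.map f).relIndex c.S = 1 := by
          have := Subgroup.index_ne_zero_of_finite (H := (c.T0.map f).subgroupOf c.S)
          change (c.T0.map f).relIndex c.S ≠ 0 at this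
          omega
        rw [subgroupOf_eq_top.2 (relIndex_eq_one.1 this)]
        infer_instance
      · exact normal_of_index_eq_two (show (c.T0.map f).relIndex c.S = 2 by omega)
    have hmem : (⟨g * r * g⁻¹, hg r hr⟩ : c.S) ∈ (c.T0.map f).subgroupOf c.S := ⟨r, hr, rfl⟩
    obtain ⟨r', hr', he⟩ := Normal.conj_mem inferInstance _ hmem (⟨s, hs⟩ : c.S)
    exact ⟨r', hr', he.symm⟩
  have hT := hg
  set f : G →* G := (MulAut.conj g).toMonoidHom with hf
  have hf' : ∀ r, f r = g * r * g⁻¹ := fun r => by simp [hf]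
  have hUf : c.U.map f = c.U := by
    refine c.four_unique ?_ (CoreConsumers.elemAb_map _ c.four.elem)
      (by rw [card_map_of_injective (MulAut.conj g).injective, c.card_U]) ?_
    · rintro _ ⟨a, ha, rfl⟩
      rw [hf']; exact hT a (c.UleT0 ha)
    · rintro s hs _ ⟨a, ha, rfl⟩
      rw [hf']
      obtain ⟨r', hr', he⟩ := hn s hs a (c.UleT0 ha)
      rw [he]
      refine ⟨r', ?_, hf' r'⟩
      refine c.omega_T0 hr' ?_ fun y hy => ?_
      · refine (MulAut.conj g).injective ?_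
        show f (r' * r') = f 1
        rw [map_mul, hf', ← he, map_one, conj_mul, conj_mul, c.four.mul_self ha, mul_one,
          mul_inv_cancel, mul_one, mul_inv_cancel]
      · obtain ⟨y', hy', hey⟩ := hn s⁻¹ (inv_mem hs) y hy
        refine (MulAut.conj g).injective ?_
        show f (y * r') = f (r' * y)
        rw [map_mul, map_mul, hf', hf', ← he]
        have e : g * y * g⁻¹ = s * (g * y' * g⁻¹) * s⁻¹ := by rw [← hey]; group
        rw [e, conj_mul, conj_mul, conj_mul, conj_mul, c.T0_comm hy' ha]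
  have hTf : c.T0.map f = c.T0 := by
    refine eq_of_le_of_card_ge ?_ (by rw [card_map_of_injective (MulAut.conj g).injective])
    rintro _ ⟨r, hr, rfl⟩
    refine c.mem_T0.2 ⟨hf' r ▸ hT r hr, ?_⟩
    obtain ⟨a, ha, hau⟩ := hUf.ge c.uU
    rw [← hau, ← map_mul, ← map_mul, c.T0_comm hr ha]
  exact ⟨mem_normalizer_of_map_eq hTf, mem_normalizer_of_map_eq hUf⟩

/-- Fusion in `U` is realised in the normaliser of `T₀`. -/
theorem Fused.exists_norm {c : Hyp G} (h : c.Fused) :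
    ∃ g : G, g ∈ normalizer (c.T0 : Set G) ∧ g ∈ normalizer (c.U : Set G) ∧
      (g * c.z * g⁻¹ = c.u ∨ g * c.z * g⁻¹ = c.z * c.u) := by
  obtain ⟨g₀, hg₀⟩ := h
  obtain ⟨a, haU, haz⟩ : ∃ a, a ∈ c.U ∧ g₀ * c.z * g₀⁻¹ = a ∧ (a = c.u ∨ a = c.z * c.u) :=
    hg₀.elim (fun e => ⟨_, c.uU, e, Or.inl rfl⟩) fun e => ⟨_, mul_mem c.zU c.uU, e, Or.inr rfl⟩
  obtain ⟨k, hk, hkS⟩ := c.to_z (c.UleS haU) ⟨g₀, haz.1⟩
  have hkT : ∀ r ∈ c.T0, k * r * k⁻¹ ∈ c.S := fun r hr => hkS r (c.T0_le hr) (c.T0_comm hr haU)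
  obtain ⟨hn, hnU⟩ := c.normalizes_T0 hkT
  refine ⟨k⁻¹, inv_mem hn, inv_mem hnU, ?_⟩
  have e : k⁻¹ * c.z * k⁻¹⁻¹ = a := by rw [← hk]; group
  rw [e]; exact haz.2

/-- When `z` is not fused in `U`, the frame at `u`. -/
theorem frameU (h : ¬ c.Fused) {a : G} (ha : a ∈ c.U) (ha1 : a ≠ 1) (haz : a ≠ c.z) : Frame a c.T0 where
  le := fun g hg => mem_centralizer_singleton_iff.2 (c.T0_comm hg ha)
  pgroup := c.S_isPGroup.to_le c.T0_le
  cons := by
    refine c.cons a (c.UleS ha) (orderOf_eq_prime (by rw [pow_two]; exact c.four.mul_self ha) ha1) ?_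
    by_cases hT : c.S ≤ c.T0
    · rw [inf_eq_right.2 fun g hg => mem_centralizer_singleton_iff.2 (c.T0_comm (hT hg) ha), relIndex_self]
      omega
    · obtain ⟨x, hx, hx'⟩ := SetLike.not_le_iff_exists.1 hT
      have h2 := c.T0_relIndex hx hx'
      have hle : c.T0 ≤ centralizer ({a} : Set G) ⊓ c.S := fun g hg =>
        ⟨mem_centralizer_singleton_iff.2 (c.T0_comm hg ha), c.T0_le hg⟩
      have h3 := relIndex_dvd_of_le_left c.S hle
      rw [h2] at h3
      exact Nat.le_of_dvd two_pos h3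
  full := fun Q hle hQC hQ => by
    haveI : Fact (Nat.Prime 2) := ⟨Nat.prime_two⟩
    by_contra hne
    have hlt : c.T0 < Q := lt_of_le_of_ne hle (Ne.symm hne)
    obtain ⟨g, hg⟩ := Invol.exists_conj_subset_sylow hQ c.T
    by_cases hT : c.S ≤ c.T0
    · exact hne (le_antisymm ((c.T.is_maximal' hQ (hT.trans hle)).le.trans hT) hle)
    obtain ⟨x, hx, hx'⟩ := SetLike.not_le_iff_exists.1 hT
    set f : G →* G := (MulAut.conj g).toMonoidHom with hf
    have hQf : Q.map f ≤ c.S := by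
      rintro _ ⟨y, hy, rfl⟩; exact hg y hy
    have hcard : Q.map f = c.S := by
      have hc : Nat.card c.T0 < Nat.card (Q.map f) := by
        rw [card_map_of_injective (MulAut.conj g).injective]
        by_contra h'
        exact hne (eq_of_le_of_card_ge hle (by omega)).symm
      have h2 := relIndex_mul_relIndex ⊥ c.T0 c.S bot_le c.T0_le
      rw [relIndex_bot_left, relIndex_bot_left, c.T0_relIndex hx hx'] at h2
      refine eq_of_le_of_card_ge hQf ?_
      obtain ⟨i, hi⟩ := IsPGroup.iff_card.1 c.S_isPGroup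
      obtain ⟨j, hj⟩ := IsPGroup.iff_card.1 (c.S_isPGroup.to_le hQf)
      rw [hi, hj]
      refine Nat.pow_le_pow_right two_pos ?_
      by_contra hji
      have := Nat.pow_le_pow_right two_pos (show j + 1 ≤ i by omega)
      rw [← hi, pow_succ, ← hj, ← h2] at this
      omega
    have hz : g * a * g⁻¹ = c.z := by
      refine c.central_eq_z (hg a (hle (c.UleT0 ha))) ?_ ?_ (fun s hs => ?_) hT
      · rw [conj_mul, c.four.mul_self ha, mul_one, mul_inv_cancel]
      · exact fun e => ha1 (conj_eq_one_iff.1 e)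
      · obtain ⟨y, hy, rfl⟩ := hcard.ge hs
        show f y * f a = f a * f y
        rw [← map_mul, ← map_mul, mem_centralizer_singleton_iff.1 (hQC hy)]
    refine h ⟨g⁻¹, ?_⟩
    rw [show g⁻¹ * c.z * g⁻¹⁻¹ = a by rw [← hz]; group]
    rcases c.Ucases ha with r | r | r | r
    · exact absurd r ha1
    · exact absurd r haz
    · exact Or.inl r
    · exact Or.inr r

end Hyp

end Cfsg.Agent.Transfer.NoEight
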