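import Cfsg.Agent.Lib.Transfer.NoEight.Pair

/-!
# Case A with fusion: the two elementary subgroups of order sixteen and their product
-/

set_option autoImplicit false
set_option linter.unusedSectionVars false
set_option linter.style.haveILetI false

namespace Cfsg.Agent.Transfer.NoEight

open Subgroup CoreConsumers.Disc
open scoped Pointwise

universe u

variable {G : Type u} [Group G] [Finite G]

/-- `[a, b]`. -/
scoped notation:max "br" a:max b:max => a * b * a⁻¹ * b⁻¹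

theorem br_eq_one {a b : G} : br a b = 1 ↔ a * b = b * a := by
  rw [mul_inv_eq_one, mul_inv_eq_iff_eq_mul]

theorem conj_eq_br (a b : G) : a * b * a⁻¹ = br a b * b := by group

namespace Hyp

variable {c : Hyp G}

theorem U_sq (c : Hyp G) {a : G} (ha : a ∈ c.U) : a * a = 1 := c.four.mul_self ha

theorem U_inv (c : Hyp G) {a : G} (ha : a ∈ c.U) : a⁻¹ = a := inv_eq_of_mul_eq_one_right (c.U_sq ha)

theorem conj_of_T0 (c : Hyp G) {g a : G} (hg : g ∈ c.T0) (ha : a ∈ c.U) : g * a * g⁻¹ = a := by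
  rw [c.T0_comm hg ha, mul_inv_cancel_right]

theorem br_mul_left (c : Hyp G) {a b d : G} (ha : a ∈ c.T0) (hb : br b d ∈ c.U) :
    br (a * b) d = br b d * br a d := by
  rw [show br (a * b) d = a * br b d * a⁻¹ * br a d by group, c.conj_of_T0 ha hb]

theorem br_mul_right (c : Hyp G) {a b d : G} (hb : b ∈ c.T0) (hd : br a d ∈ c.U) :
    br a (b * d) = br a b * br a d := by
  rw [show br a (b * d) = br a b * (b * br a d * b⁻¹) by group, c.conj_of_T0 hb hd]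

theorem br_comm (c : Hyp G) {a b : G} (h : br a b ∈ c.U) : br b a = br a b := by
  rw [← c.U_inv h]; group

/-- Conjugation of a pair by an element normalising `T₀` and `U`. -/
theorem Pair.conj_norm {p : G} {F : Subgroup G} (h : c.Pair p F) {k : G}
    (hk : k ∈ normalizer (c.T0 : Set G)) (hkU : k ∈ normalizer (c.U : Set G)) :
    c.Pair (k * p * k⁻¹) (F.map (MulAut.conj k).toMonoidHom) where
  four := h.four.conj k
  le := by
    rintro _ ⟨f, hf, rfl⟩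
    exact (mem_normalizer_iff.1 hk f).1 (h.le hf)
  disj := (eq_bot_iff_forall _).2 fun v hv => by
    obtain ⟨hvU, hv'⟩ := hv
    have h1 := mem_map_conj.1 hv'
    have h2 : k⁻¹ * v * k ∈ c.U := by
      have := (mem_normalizer_iff.1 (inv_mem hkU) v).1 hvU
      rwa [inv_inv] at this
    have h3 : k⁻¹ * v * k ∈ c.U ⊓ F := ⟨h2, h1⟩
    rw [h.disj, mem_bot] at h3
    rw [show v = k * (k⁻¹ * v * k) * k⁻¹ by group, h3]; group

theorem Pair.conj_norm_W {p : G} {F : Subgroup G} (h : c.Pair p F) {k : G}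
    (hk : k ∈ normalizer (c.T0 : Set G)) (hkU : k ∈ normalizer (c.U : Set G)) :
    (h.conj_norm hk hkU).W = h.W.map (MulAut.conj k).toMonoidHom := by
  refine eq_of_le_of_card_ge (sup_le (fun a ha => ?_) (map_mono le_sup_right)) ?_
  · rw [mem_map_conj]
    refine mem_sup_left ?_
    have := (mem_normalizer_iff.1 (inv_mem hkU) a).1 ha
    rwa [inv_inv] at this
  · rw [card_map_of_injective (MulAut.conj k).injective, (h.conj_norm hk hkU).card_W, h.card_W]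

/-- Two pairs whose groups of order 16 normalise each other. -/
structure Duo (c : Hyp G) where
  p : G
  F : Subgroup G
  h : c.Pair p F
  p' : G
  F' : Subgroup G
  h' : c.Pair p' F'
  caseA : c.CaseA
  fused : c.Fused
  ne : h'.W ≠ h.W
  norm : ∀ e ∈ h.W, ∀ w ∈ h'.W, e * w * e⁻¹ ∈ h'.W
  norm' : ∀ e ∈ h'.W, ∀ w ∈ h.W, e * w * e⁻¹ ∈ h.W

theorem CaseA.exists_duo (hA : c.CaseA) {p : G} {F : Subgroup G} (h : c.Pair p F) : Nonempty (Duo c) := by
  obtain ⟨p', F', h', hne, hn, hn'⟩ := h.exists_partner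
  exact ⟨⟨p, F, h, p', F', h', hA, Pair.fused hA h, hne, hn, hn'⟩⟩

namespace Duo

variable (d : Duo c)

/-- The duo with the two pairs exchanged. -/
def symm : Duo c := ⟨d.p', d.F', d.h', d.p, d.F, d.h, d.caseA, d.fused, d.ne.symm, d.norm', d.norm⟩

/-- The first group of order 16. -/
abbrev W : Subgroup G := d.h.W

/-- The second group of order 16. -/
abbrev W' : Subgroup G := d.h'.W

theorem inter {x : G} (hx : x ∈ d.W) (hx' : x ∈ d.W') : x ∈ c.U :=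
  (d.h.inter d.caseA d.h' hx hx').resolve_right d.ne

theorem W_T0 {x : G} (hx : x ∈ d.W) : x ∈ c.T0 := d.h.W_le hx

theorem W'_T0 {x : G} (hx : x ∈ d.W') : x ∈ c.T0 := d.h'.W_le hx

theorem sq {x : G} (hx : x ∈ d.W) : x * x = 1 := elemAb_sq d.h.elem hx

theorem sq' {x : G} (hx : x ∈ d.W') : x * x = 1 := elemAb_sq d.h'.elem hx

theorem wcomm {x y : G} (hx : x ∈ d.W) (hy : y ∈ d.W) : x * y = y * x := elemAb_comm d.h.elem hx hy

theorem U_W {a : G} (ha : a ∈ c.U) : a ∈ d.W := mem_sup_left ha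

theorem U_W' {a : G} (ha : a ∈ c.U) : a ∈ d.W' := mem_sup_left ha

theorem br_mem {w v : G} (hw : w ∈ d.W) (hv : v ∈ d.W') : br w v ∈ c.U := by
  refine d.inter ?_ (d.W'.mul_mem (d.norm w hw v hv) (d.W'.inv_mem hv))
  rw [show br w v = w * (v * w⁻¹ * v⁻¹) by group]
  exact d.W.mul_mem hw (d.norm' v hv _ (d.W.inv_mem hw))

/-- Commuting elements of the two groups: one of them is in `U`. -/
theorem eq_U_of_comm {w v : G} (hw : w ∈ d.W) (hv : v ∈ d.W') (h : w * v = v * w) : w ∈ c.U ∨ v ∈ c.U := by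
  obtain ⟨a, ha, f, hf, rfl⟩ := d.h.mem_W hw
  by_cases hf1 : f = 1
  · left; rw [hf1, mul_one]; exact ha
  right
  have hvf : v * f = f * v := by
    have h1 := c.T0_comm (d.W'_T0 hv) ha
    rw [mul_assoc, ← mul_assoc v a, h1, mul_assoc] at h
    exact (mul_left_cancel h).symm
  refine d.inter (d.h.mem_W_of_comm (d.W'_T0 hv) (d.sq' hv) fun f' hf' => ?_) hv
  refine d.h.moves d.caseA (d.W'_T0 hv) (fun g hg => ?_) hf hf1 hvf hf'
  have := d.br_mem (mem_sup_right hg : g ∈ d.W) hv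
  rwa [← c.br_comm this] at this

/-- The product. -/
def Q : Subgroup G := d.W ⊔ d.W'

theorem W_le_Q {x : G} (hx : x ∈ d.W) : x ∈ d.Q := mem_sup_left hx

theorem W'_le_Q {x : G} (hx : x ∈ d.W') : x ∈ d.Q := mem_sup_right hx

theorem Q_le : d.Q ≤ c.T0 := sup_le d.h.W_le d.h'.W_le

theorem Q_symm : d.symm.Q = d.Q := sup_comm _ _

theorem mem_Q {x : G} (hx : x ∈ d.Q) : ∃ w ∈ d.W, ∃ v ∈ d.W', w * v = x := by
  have hn : d.W' ≤ normalizer (d.W : Set G) := fun v hv => mem_normalizer_iff.2 fun a =>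
    ⟨fun ha => d.norm' v hv a ha, fun ha => by
      have h1 := d.norm' _ (d.W'.inv_mem hv) _ ha
      rwa [show v⁻¹ * (v * a * v⁻¹) * v⁻¹⁻¹ = a by group] at h1⟩
  have hx' : x ∈ ((d.W : Set G) * (d.W' : Set G)) := by
    rw [← coe_mul_of_right_le_normalizer_left d.W d.W' hn]; exact hx
  exact hx'

/-- The decomposition is unique modulo `U`. -/
theorem decomp {w w₁ v v₁ : G} (hw : w ∈ d.W) (hw₁ : w₁ ∈ d.W) (hv : v ∈ d.W') (hv₁ : v₁ ∈ d.W') {a : G}
    (ha : a ∈ c.U) (h : w * v = w₁ * v₁ * a) : w₁⁻¹ * w ∈ c.U ∧ v₁⁻¹ * v ∈ c.U := by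
  have e : w₁⁻¹ * w = v₁ * a * v⁻¹ := by
    rw [show w₁⁻¹ * w = w₁⁻¹ * (w * v) * v⁻¹ by group, h]; group
  have h1 : w₁⁻¹ * w ∈ c.U := d.inter (d.W.mul_mem (d.W.inv_mem hw₁) hw)
    (e ▸ d.W'.mul_mem (d.W'.mul_mem hv₁ (d.U_W' ha)) (d.W'.inv_mem hv))
  refine ⟨h1, ?_⟩
  have e2 : v₁⁻¹ * v = v₁⁻¹ * (w₁⁻¹ * w)⁻¹ * v₁ * a := by
    rw [show (w₁⁻¹ * w)⁻¹ = w⁻¹ * w₁ by group, show v₁⁻¹ * (w⁻¹ * w₁) * v₁ * a = v₁⁻¹ * w⁻¹ * (w₁ * v₁ * a) by group,
      ← h]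
    group
  rw [e2]
  refine c.U.mul_mem ?_ ha
  have h2 := c.conj_of_T0 (c.T0.inv_mem (d.W'_T0 hv₁)) (c.U.inv_mem h1)
  rw [inv_inv] at h2
  rw [h2]
  exact c.U.inv_mem h1

theorem card_Q : 64 ≤ Nat.card d.Q := by
  let φ : d.W × d.F' → d.Q :=
    fun x => ⟨x.1.1 * x.2.1, d.Q.mul_mem (d.W_le_Q x.1.2) (d.W'_le_Q (mem_sup_right x.2.2))⟩
  have hi : Function.Injective φ := by
    rintro ⟨⟨a, ha⟩, ⟨f, hf⟩⟩ ⟨⟨a', ha'⟩, ⟨f', hf'⟩⟩ e
    have e' : a * f = a' * f' := congrArg Subtype.val e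
    have h1 : a'⁻¹ * a = f' * f⁻¹ := by
      rw [show a'⁻¹ * a = a'⁻¹ * (a * f) * f⁻¹ by group, e']; group
    have hm : f' * f⁻¹ ∈ d.F' := d.F'.mul_mem hf' (d.F'.inv_mem hf)
    have h2 : a'⁻¹ * a ∈ c.U :=
      d.inter (d.W.mul_mem (d.W.inv_mem ha') ha) (h1 ▸ (mem_sup_right hm : f' * f⁻¹ ∈ d.W'))
    have h3 : a'⁻¹ * a ∈ c.U ⊓ d.F' := ⟨h2, h1 ▸ hm⟩
    rw [d.h'.disj, mem_bot] at h3
    have h4 : a' = a := inv_mul_eq_one.1 h3
    subst h4
    have h5 : f = f' := mul_left_cancel e'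
    subst h5
    rfl
  have h := Nat.card_le_card_of_injective φ hi
  rwa [Nat.card_prod, d.h.card_W, d.h'.four.card] at h

/-- Conjugation of `f ∈ F#` by `F'` fills the coset `U f`. -/
theorem fill {f : G} (hf : f ∈ d.F) (hf1 : f ≠ 1) {a : G} (ha : a ∈ c.U) :
    ∃ e ∈ d.F', e * f * e⁻¹ = a * f := by
  let δ : d.F' → c.U := fun e => ⟨br (e : G) f, by
    have := d.br_mem (mem_sup_right hf : f ∈ d.W) (mem_sup_right e.2 : (e : G) ∈ d.W')
    rwa [← c.br_comm this] at this⟩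
  have hinj : Function.Injective δ := by
    intro e e' heq
    have h1 : br (e : G) f = br (e' : G) f := congrArg Subtype.val heq
    have hm : (e' : G)⁻¹ * e ∈ d.F' := d.F'.mul_mem (d.F'.inv_mem e'.2) e.2
    by_contra hne
    have hf1' : f * ((e' : G)⁻¹ * e) = (e' : G)⁻¹ * e * f := by
      have h2 := mul_right_cancel h1
      calc f * ((e' : G)⁻¹ * e) = (e' : G)⁻¹ * ((e' : G) * f * (e' : G)⁻¹) * e := by group
        _ = (e' : G)⁻¹ * e * f := by rw [← h2]; group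
    rcases d.eq_U_of_comm (mem_sup_right hf) (mem_sup_right hm) hf1' with q | q
    · exact hf1 (mem_bot.1 (d.h.disj ▸ (⟨q, hf⟩ : f ∈ c.U ⊓ d.F)))
    · exact hne (Subtype.ext (inv_mul_eq_one.1 (mem_bot.1 (d.h'.disj ▸
        (⟨q, hm⟩ : (e' : G)⁻¹ * e ∈ c.U ⊓ d.F')))).symm)
  haveI : Fintype d.F' := Fintype.ofFinite _
  haveI : Fintype c.U := Fintype.ofFinite _
  obtain ⟨e, he⟩ := ((Fintype.bijective_iff_injective_and_card δ).2 ⟨hinj, by
    rw [← Nat.card_eq_fintype_card, ← Nat.card_eq_fintype_card, d.h'.four.card, c.card_U]⟩).2 ⟨a, ha⟩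
  refine ⟨e, e.2, ?_⟩
  rw [conj_eq_br, show br (e : G) f = a from congrArg Subtype.val he]

/-- `W` is the whole of its centraliser in `T₀`. -/
theorem cent_le {s : G} (hs : s ∈ c.T0) (hc : ∀ w ∈ d.W, s * w = w * s) : s ∈ d.W := by
  haveI : Fact (Nat.Prime 2) := ⟨Nat.prime_two⟩
  by_contra hsW
  let K : Subgroup G := c.T0 ⊓ centralizer (d.W : Set G)
  have hK : ∀ {x : G}, x ∈ K → x ∈ c.T0 ∧ ∀ w ∈ d.W, x * w = w * x := fun hx =>
    ⟨hx.1, fun w hw => (mem_centralizer_iff.1 hx.2 w hw).symm⟩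
  have hsK : s ∈ K := ⟨hs, mem_centralizer_iff.2 fun w hw => (hc w hw).symm⟩
  let P : Subgroup G := K ⊔ d.W'
  have hP : P ≤ c.S := sup_le (fun x hx => c.T0_le hx.1) fun x hx => c.T0_le (d.W'_T0 hx)
  let K' : Subgroup P := K.subgroupOf P
  let W0 : Subgroup P := d.W.subgroupOf P
  have hWK : ∀ {x : G}, x ∈ d.W → x ∈ K := fun hx =>
    ⟨d.W_T0 hx, mem_centralizer_iff.2 fun w hw => d.wcomm hw hx⟩
  have hgen : ∀ g ∈ P, (∀ w ∈ d.W, g * w * g⁻¹ ∈ d.W) ∧ (∀ x ∈ K, g * x * g⁻¹ ∈ K) := by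
    intro g hg
    rw [show P = K ⊔ d.W' from rfl, sup_eq_closure] at hg
    refine closure_induction (p := fun g _ => (∀ w ∈ d.W, g * w * g⁻¹ ∈ d.W) ∧ ∀ x ∈ K, g * x * g⁻¹ ∈ K)
      ?_ ?_ ?_ ?_ hg
    · intro x hx
      rcases hx with hx | hx
      · exact ⟨fun w hw => by rw [(hK hx).2 w hw, mul_inv_cancel_right]; exact hw,
          fun y hy => K.mul_mem (K.mul_mem hx hy) (K.inv_mem hx)⟩
      · refine ⟨fun w hw => d.norm' x hx w hw, fun y hy => ⟨c.T0.mul_mem (c.T0.mul_mem (d.W'_T0 hx) hy.1)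
          (c.T0.inv_mem (d.W'_T0 hx)), mem_centralizer_iff.2 fun w hw => ?_⟩⟩
        have h1 := mem_centralizer_iff.1 hy.2 _ (d.norm' _ (d.W'.inv_mem hx) w hw)
        rw [inv_inv] at h1
        calc w * (x * y * x⁻¹) = x * (x⁻¹ * w * x * y) * x⁻¹ := by group
          _ = x * (y * (x⁻¹ * w * x)) * x⁻¹ := by rw [h1]
          _ = x * y * x⁻¹ * w := by group
    · exact ⟨fun w hw => by simpa using hw, fun x hx => by simpa using hx⟩
    · rintro a b _ _ ⟨ha, ha'⟩ ⟨hb, hb'⟩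
      exact ⟨fun w hw => by rw [show a * b * w * (a * b)⁻¹ = a * (b * w * b⁻¹) * a⁻¹ by group]; exact ha _ (hb w hw),
        fun x hx => by rw [show a * b * x * (a * b)⁻¹ = a * (b * x * b⁻¹) * a⁻¹ by group]; exact ha' _ (hb' x hx)⟩
    · rintro a ha ⟨hn, hn'⟩
      obtain ⟨k, hk⟩ : ∃ k : ℕ, a⁻¹ = a ^ k := ⟨orderOf a - 1, by
        refine inv_eq_of_mul_eq_one_right ?_
        rw [← pow_succ', Nat.sub_add_cancel (orderOf_pos a), pow_orderOf_eq_one]⟩
      rw [hk]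
      clear hk
      induction k with
      | zero => exact ⟨fun w hw => by simpa using hw, fun x hx => by simpa using hx⟩
      | succ k ih =>
        exact ⟨fun w hw => by
            rw [show a ^ (k + 1) * w * (a ^ (k + 1))⁻¹ = a * (a ^ k * w * (a ^ k)⁻¹) * a⁻¹ by group]
            exact hn _ (ih.1 w hw),
          fun x hx => by
            rw [show a ^ (k + 1) * x * (a ^ (k + 1))⁻¹ = a * (a ^ k * x * (a ^ k)⁻¹) * a⁻¹ by group]
            exact hn' _ (ih.2 x hx)⟩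
  haveI hW0 : W0.Normal := ⟨fun a ha g => (hgen g g.2).1 a ha⟩
  haveI hK' : K'.Normal := ⟨fun a ha g => (hgen g g.2).2 a ha⟩
  let π := QuotientGroup.mk' W0
  haveI : (K'.map π).Normal := hK'.map π (QuotientGroup.mk'_surjective _)
  have hsP : s ∈ P := mem_sup_left hsK
  have h2 : 2 ^ 1 ≤ Nat.card (K'.map π) := by
    rw [pow_one]
    refine (Subgroup.one_lt_card_iff_ne_bot _).2 fun e => hsW ?_
    have h1 : π ⟨s, hsP⟩ ∈ K'.map π := mem_map_of_mem π hsK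
    rw [e, mem_bot] at h1
    exact (QuotientGroup.eq_one_iff (N := W0) _).1 h1
  obtain ⟨L, hLn, hLK, hLc⟩ := RankTwo.exists_normal_card ((c.S_isPGroup.to_le hP).to_quotient W0) (K'.map π) 1 h2
  rw [pow_one] at hLc
  obtain ⟨⟨l, hl⟩, hl1⟩ := (ne_bot_iff_exists_ne_one (H := L)).1 (fun e => by
    rw [e, Subgroup.card_bot] at hLc; omega)
  have hL : ∀ q ∈ L, q = 1 ∨ q = l := fun q hq => by
    obtain ⟨a, b, hne, hab⟩ := Nat.card_eq_two_iff.1 hLc
    have h : ∀ r : L, r = a ∨ r = b := fun r => by simpa using hab.ge (Set.mem_univ r)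
    by_contra hcon
    rw [not_or] at hcon
    have hq1 : (⟨q, hq⟩ : L) ≠ 1 := fun e => hcon.1 (congrArg Subtype.val e)
    have hql : (⟨q, hq⟩ : L) ≠ ⟨l, hl⟩ := fun e => hcon.2 (congrArg Subtype.val e)
    rcases h ⟨q, hq⟩ with x | x <;> rcases h ⟨l, hl⟩ with y | y <;> rcases h 1 with r | r
    all_goals first
      | exact hql (x.trans y.symm)
      | exact hq1 (x.trans r.symm)
      | exact hl1 (y.trans r.symm)
  obtain ⟨⟨t, htP⟩, htK, rfl⟩ := hLK hl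
  have htK' : t ∈ K := htK
  have htW : t ∉ d.W := fun e => hl1 (Subtype.ext ((QuotientGroup.eq_one_iff (N := W0) _).2 e))
  -- `t` commutes with `W'` modulo `U`
  have ht2 : t * t ∈ d.W := by
    rcases hL _ (L.mul_mem hl hl) with e | e
    · exact (QuotientGroup.eq_one_iff (N := W0) _).1 ((map_mul π _ _).trans e)
    · exact absurd (mul_eq_left.1 e) fun e' => hl1 (Subtype.ext e')
  have hbr : ∀ e ∈ d.W', br e t ∈ c.U ∧ e * (t * t) = t * t * e := by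
    intro e he
    let ee : P := ⟨e, mem_sup_right he⟩
    have hq : π (ee * ⟨t, htP⟩ * ee⁻¹) ∈ L := by
      rw [map_mul, map_mul, map_inv]
      exact hLn.conj_mem _ hl _
    have hw : br e t ∈ d.W := by
      rcases hL _ hq with e1 | e1
      · exfalso
        have h3 : π ⟨t, htP⟩ = 1 := by
          rw [map_mul, map_mul, map_inv] at e1
          exact conj_eq_one_iff.1 e1
        exact htW ((QuotientGroup.eq_one_iff (N := W0) _).1 h3)
      · exact (QuotientGroup.eq_one_iff (N := W0) _).1 (show π (ee * ⟨t, htP⟩ * ee⁻¹ * ⟨t, htP⟩⁻¹) = 1 by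
          rw [map_mul, e1, map_inv, mul_inv_cancel])
    have he2 := d.sq' he
    have hei : e⁻¹ = e := inv_eq_of_mul_eq_one_right he2
    have hew : br e t * e = e * br e t := by
      have h4 : e * br e t * e⁻¹ * br e t = 1 := by
        rw [show e * br e t * e⁻¹ * br e t = (e * e) * t * e⁻¹ * (e * e)⁻¹ * e * t⁻¹ by group, he2]
        group
      have h5 : (br e t)⁻¹ = br e t := inv_eq_of_mul_eq_one_right (d.sq hw)
      rw [mul_eq_one_iff_eq_inv, h5, mul_inv_eq_iff_eq_mul] at h4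
      exact h4.symm
    have hU : br e t ∈ c.U := by
      rcases d.eq_U_of_comm hw he hew with q | q
      · exact q
      · rw [br_eq_one.2 (c.T0_comm (hK htK').1 q).symm]; exact one_mem _
    refine ⟨hU, ?_⟩
    refine mul_inv_eq_iff_eq_mul.1 ?_
    rw [show e * (t * t) * e⁻¹ = (e * t * e⁻¹) * (e * t * e⁻¹) by group, conj_eq_br e t,
      show br e t * t * (br e t * t) = br e t * (t * br e t) * t by group, c.T0_comm (hK htK').1 hU,
      ← mul_assoc, c.U_sq hU, one_mul]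
  have htU : t * t ∈ c.U := by
    have hne : ∃ f ∈ d.F', f ∉ c.U := ⟨d.p', d.h'.four.mem, fun e =>
      d.h'.four.ne_one (mem_bot.1 (d.h'.disj ▸ (⟨e, d.h'.four.mem⟩ : d.p' ∈ c.U ⊓ d.F')))⟩
    obtain ⟨f, hf, hfU⟩ := hne
    exact (d.eq_U_of_comm ht2 (mem_sup_right hf) (hbr f (mem_sup_right hf)).2.symm).resolve_right hfU
  -- a section of rank five
  have htT := (hK htK').1
  have htQ : t ∉ d.Q := fun h => by
    obtain ⟨w, hw, v, hv, rfl⟩ := d.mem_Q h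
    have hv' : ∀ w' ∈ d.W, v * w' = w' * v := fun w' hw' => by
      have h1 := (hK htK').2 w' hw'
      calc v * w' = w⁻¹ * (w * v * w') := by group
        _ = w⁻¹ * (w' * (w * v)) := by rw [h1]
        _ = w⁻¹ * (w' * w) * v := by group
        _ = w' * v := by rw [d.wcomm hw' hw]; group
    refine htW (d.W.mul_mem hw (d.U_W ?_))
    exact d.inter (d.h.mem_W_of_comm (d.W'_T0 hv) (d.sq' hv) fun f hf => hv' f (mem_sup_right hf)) hv
  let gen : Set G := insert t ((d.W : Set G) ∪ (d.W' : Set G))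
  let B : Subgroup G := closure gen
  have hgT : ∀ g ∈ gen, g ∈ c.T0 := by
    rintro g (rfl | hg | hg)
    exacts [htT, d.W_T0 hg, d.W'_T0 hg]
  have hBT : B ≤ c.T0 := (closure_le _).2 hgT
  have hg1 : ∀ g ∈ gen, g * g ∈ c.U := by
    rintro g (rfl | hg | hg)
    exacts [htU, by rw [d.sq hg]; exact one_mem _, by rw [d.sq' hg]; exact one_mem _]
  have hg2 : ∀ g ∈ gen, ∀ g' ∈ gen, br g g' ∈ c.U := by
    have h1 : ∀ w ∈ d.W, br t w ∈ c.U := fun w hw => by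
      rw [br_eq_one.2 ((hK htK').2 w hw)]; exact one_mem _
    have h2 : ∀ {a b : G}, br a b ∈ c.U → br b a ∈ c.U := fun h => by rw [c.br_comm h]; exact h
    rintro g (rfl | hg | hg) g' (rfl | hg' | hg')
    · rw [br_eq_one.2 rfl]; exact one_mem _
    · exact h1 _ hg'
    · exact h2 (hbr _ hg').1
    · exact h2 (h1 _ hg)
    · rw [br_eq_one.2 (d.wcomm hg hg')]; exact one_mem _
    · exact d.br_mem hg hg'
    · exact (hbr _ hg).1
    · exact h2 (d.br_mem hg' hg)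
    · rw [br_eq_one.2 (elemAb_comm d.h'.elem hg hg')]; exact one_mem _
  have hUB : c.U ≤ B := fun a ha => subset_closure (Or.inr (Or.inl (d.U_W ha)))
  have hBS : B ≤ c.S := hBT.trans c.T0_le
  let BS : Subgroup c.S := B.subgroupOf c.S
  let Z : Subgroup BS := (c.U.subgroupOf c.S).subgroupOf BS
  haveI hZn : Z.Normal := ⟨fun a ha g => c.Unormal g.1.2 ha⟩
  have hbrB : ∀ x ∈ B, ∀ y ∈ B, br x y ∈ c.U := by
    intro x hx y hy
    induction hx using closure_induction with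
    | mem x hx =>
      induction hy using closure_induction with
      | mem y hy => exact hg2 x hx y hy
      | one => rw [br_eq_one.2 (by simp)]; exact one_mem _
      | mul a b ha hb iha ihb => rw [c.br_mul_right (hBT ha) ihb]; exact c.U.mul_mem iha ihb
      | inv a ha iha =>
        have h4 := c.br_mul_right (a := x) (d := a) (b := a⁻¹) (inv_mem (hBT ha)) iha
        rw [inv_mul_cancel, br_eq_one.2 (by simp : x * 1 = 1 * x)] at h4
        rw [eq_inv_of_mul_eq_one_left h4.symm]; exact c.U.inv_mem iha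
    | one => rw [br_eq_one.2 (by simp)]; exact one_mem _
    | mul a b ha hb iha ihb => rw [c.br_mul_left (hBT ha) ihb]; exact c.U.mul_mem ihb iha
    | inv a ha iha =>
      have h4 := c.br_mul_left (a := a⁻¹) (inv_mem (hBT ha)) iha
      rw [inv_mul_cancel, br_eq_one.2 (by simp : 1 * y = y * 1)] at h4
      rw [eq_inv_of_mul_eq_one_right h4.symm]; exact c.U.inv_mem iha
  have hsqB : ∀ x ∈ B, x * x ∈ c.U := by
    intro x hx
    induction hx using closure_induction with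
    | mem x hx => exact hg1 x hx
    | one => rw [mul_one]; exact one_mem _
    | mul a b ha hb iha ihb =>
      rw [show a * b * (a * b) = a * a * (a⁻¹ * br b a * a⁻¹⁻¹) * (b * b) by group,
        c.conj_of_T0 (inv_mem (hBT ha)) (hbrB b hb a ha)]
      exact c.U.mul_mem (c.U.mul_mem iha (hbrB b hb a ha)) ihb
    | inv a ha iha => rw [show a⁻¹ * a⁻¹ = (a * a)⁻¹ by group]; exact c.U.inv_mem iha
  have hcm : IsMulCommutative (⊤ : Subgroup (BS ⧸ Z)) := ⟨⟨fun p q => by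
    obtain ⟨p, -⟩ := p
    obtain ⟨q, -⟩ := q
    refine Subtype.ext ?_
    obtain ⟨p, rfl⟩ := QuotientGroup.mk'_surjective Z p
    obtain ⟨q, rfl⟩ := QuotientGroup.mk'_surjective Z q
    show QuotientGroup.mk' Z p * QuotientGroup.mk' Z q = QuotientGroup.mk' Z q * QuotientGroup.mk' Z p
    rw [← map_mul, ← map_mul]
    refine QuotientGroup.eq.2 ?_
    show ((((p * q)⁻¹ * (q * p) : BS) : c.S) : G) ∈ c.U
    obtain ⟨x, hx⟩ : ∃ x : G, x = ((p : c.S) : G) := ⟨_, rfl⟩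
    obtain ⟨y, hy⟩ : ∃ y : G, y = ((q : c.S) : G) := ⟨_, rfl⟩
    have e0 : ((((p * q)⁻¹ * (q * p) : BS) : c.S) : G) = (x * y)⁻¹ * br y x * (x * y) := by
      rw [show (x * y)⁻¹ * br y x * (x * y) = (x * y)⁻¹ * (y * x) by group, hx, hy]; rfl
    have hxB : x ∈ B := hx ▸ p.2
    have hyB : y ∈ B := hy ▸ q.2
    rw [e0]
    have h6 := c.conj_of_T0 (inv_mem (hBT (B.mul_mem hxB hyB))) (hbrB y hyB x hxB)
    rw [inv_inv] at h6
    rw [h6]
    exact hbrB y hyB x hxB⟩⟩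
  have hsec := c.sectional BS Z ⊤ hcm fun p _ => by
    obtain ⟨q, rfl⟩ := QuotientGroup.mk'_surjective Z p
    rw [pow_two, ← map_mul]
    exact (QuotientGroup.eq_one_iff _).2 (hsqB ((q : c.S) : G) q.2)
  rw [Subgroup.card_top] at hsec
  have hcard := Subgroup.card_eq_card_quotient_mul_card_subgroup Z
  have hZc : Nat.card Z = 4 := by
    rw [Nat.card_congr (subgroupOfEquivOfLe (show c.U.subgroupOf c.S ≤ BS from fun a ha => hUB ha)).toEquiv,
      Nat.card_congr (subgroupOfEquivOfLe c.UleS).toEquiv, c.card_U]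
  rw [hZc, Nat.card_congr (subgroupOfEquivOfLe hBS).toEquiv] at hcard
  have hQB : d.Q ≤ B := sup_le (fun x hx => subset_closure (Or.inr (Or.inl hx)))
    fun x hx => subset_closure (Or.inr (Or.inr hx))
  have h64 : Nat.card B ≤ Nat.card d.Q := by
    have h1 := d.card_Q
    omega
  exact htQ ((eq_of_le_of_card_ge hQB h64).ge (subset_closure (Or.inl rfl)))

/-- The normaliser of `W` in `T₀` is `Q`. -/
theorem norm_le {s : G} (hs : s ∈ c.T0) (hn : ∀ w ∈ d.W, s * w * s⁻¹ ∈ d.W) : s ∈ d.Q := by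
  haveI : Fact (Nat.Prime 2) := ⟨Nat.prime_two⟩
  have hpU : d.p ∉ c.U := fun e =>
    d.h.four.ne_one (mem_bot.1 (d.h.disj ▸ (⟨e, d.h.four.mem⟩ : d.p ∈ c.U ⊓ d.F)))
  obtain ⟨a, ha, f, hf, haf⟩ := d.h.mem_W (hn d.p (mem_sup_right d.h.four.mem))
  have hf1 : f ≠ 1 := by
    rintro rfl
    refine hpU ?_
    rw [mul_one] at haf
    rw [show d.p = s⁻¹ * (s * d.p * s⁻¹) * s⁻¹⁻¹ by group, ← haf, c.conj_of_T0 (inv_mem hs) ha]
    exact ha
  obtain ⟨e, he, hef⟩ := d.fill hf hf1 ha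
  obtain ⟨s₁, hs₁⟩ : ∃ s₁, s₁ = e⁻¹ * s := ⟨_, rfl⟩
  have heW : e ∈ d.W' := mem_sup_right he
  have hs₁T : s₁ ∈ c.T0 := hs₁ ▸ c.T0.mul_mem (c.T0.inv_mem (d.W'_T0 heW)) hs
  have hn₁ : ∀ w ∈ d.W, s₁ * w * s₁⁻¹ ∈ d.W := fun w hw => by
    rw [hs₁, show e⁻¹ * s * w * (e⁻¹ * s)⁻¹ = e⁻¹ * (s * w * s⁻¹) * e⁻¹⁻¹ by group]
    exact d.norm' _ (d.W'.inv_mem heW) _ (hn w hw)
  have hs₁p : s₁ * d.p * s₁⁻¹ = f := by
    rw [hs₁, show e⁻¹ * s * d.p * (e⁻¹ * s)⁻¹ = e⁻¹ * (s * d.p * s⁻¹) * e by group, ← haf, ← hef]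
    group
  -- a four-group is normalised when one of its involutions is fixed
  have hfix : ∀ {F₁ : Subgroup G} {x : G}, c.IsFour x F₁ → F₁ ≤ c.S → ∀ {k : G}, k ∈ c.S → k * x = x * k →
      ∀ y ∈ F₁, k * y * k⁻¹ ∈ F₁ := fun {F₁ x} h hle {k} hk hkx y hy =>
    h.norm d.caseA (c.S_isPGroup.to_le (inf_le_left : c.S ⊓ centralizer ({x} : Set G) ≤ c.S)) inf_le_right
      (fun b hb => ⟨hle hb, h.le_cent hb⟩)
      (⟨hk, mem_centralizer_singleton_iff.2 hkx⟩ : k ∈ c.S ⊓ centralizer ({x} : Set G)) hy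
  have hFS : d.F ≤ c.S := d.h.le.trans c.T0_le
  have hnF : ∀ y ∈ d.F, s₁ * y * s₁⁻¹ ∈ d.F := by
    have h1 : c.IsFour f d.F := d.h.four.all d.fused hf hf1
    have h2 : c.IsFour f (d.F.map (MulAut.conj s₁).toMonoidHom) := hs₁p ▸ d.h.four.conj s₁
    have hle : d.F.map (MulAut.conj s₁).toMonoidHom ≤ c.S := by
      rintro _ ⟨y, hy, rfl⟩
      exact c.S.mul_mem (c.S.mul_mem (c.T0_le hs₁T) (hFS hy)) (c.S.inv_mem (c.T0_le hs₁T))
    have h3 := h1.unique d.caseA h2 c.S_isPGroup hFS hle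
    intro y hy
    rw [h3]
    exact conj_mem_map hy
  -- a fixed involution of `F`
  obtain ⟨f₃, hf₃, hf₃1, hf₃s⟩ : ∃ f₃ ∈ d.F, f₃ ≠ 1 ∧ s₁ * f₃ = f₃ * s₁ := by
    by_cases hq : f = d.p
    · exact ⟨d.p, d.h.four.mem, d.h.four.ne_one, mul_inv_eq_iff_eq_mul.1 (hs₁p.trans hq)⟩
    have hpp : d.p * d.p = 1 := d.h.four.two d.h.four.mem
    have hff : f * f = 1 := d.h.four.two hf
    have hpf : d.p * f = f * d.p := elemAb_comm d.h.four.elem d.h.four.mem hf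
    obtain ⟨g, hg, hgF⟩ := id d.h.four
    have hcases : ∀ y ∈ d.F, y = 1 ∨ y = d.p ∨ y = f ∨ y = d.p * f := fun y hy => by
      have hfU := mem_map_conj.1 (hgF ▸ hf)
      rcases c.four.cases hfU (fun e => hf1 (by rw [show f = g * (g⁻¹ * f * g) * g⁻¹ by group, e]; group))
        (fun e => hq (by rw [← hg, ← e]; group)) (mem_map_conj.1 (hgF ▸ hy)) with r | r | r | r <;>
        rw [show y = g * (g⁻¹ * y * g) * g⁻¹ by group, r]
      · left; group
      · right; left; exact hg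
      · right; right; left; group
      · right; right; right; rw [← hg]; group
    rcases hcases _ (hnF f hf) with r | r | r | r
    · exact absurd (conj_eq_one_iff.1 r) hf1
    · refine ⟨d.p * f, d.F.mul_mem d.h.four.mem hf, fun e => hq ?_, mul_inv_eq_iff_eq_mul.1 ?_⟩
      · rw [eq_inv_of_mul_eq_one_right e, inv_eq_of_mul_eq_one_right hpp]
      · rw [← conj_mul, hs₁p, r, hpf]
    · exact absurd (conj_inj (hs₁p.trans r.symm)) fun e => hq e.symm
    · exfalso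
      have h3 : s₁ ^ 3 * d.p * (s₁ ^ 3)⁻¹ = d.p := by
        rw [show s₁ ^ 3 * d.p * (s₁ ^ 3)⁻¹ = s₁ * (s₁ * (s₁ * d.p * s₁⁻¹) * s₁⁻¹) * s₁⁻¹ by
            rw [pow_succ, pow_two]; group, hs₁p, r,
          ← conj_mul, hs₁p, r, ← mul_assoc, ← hpf, mul_assoc, hff, mul_one]
      obtain ⟨k, hk⟩ := (IsPGroup.iff_orderOf.1 c.S_isPGroup) ⟨s₁, c.T0_le hs₁T⟩
      rw [← Subgroup.orderOf_coe] at hk
      obtain ⟨m, hm⟩ := exists_pow_eq_self_of_coprime (n := 3) (x := s₁) (by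
        rw [show orderOf s₁ = 2 ^ k from hk]; exact Nat.Coprime.pow_right _ (by norm_num))
      have hcom : Commute (s₁ ^ 3) d.p := mul_inv_eq_iff_eq_mul.1 h3
      have := hm ▸ hcom.pow_left m
      exact hq (hs₁p.symm.trans (mul_inv_eq_iff_eq_mul.2 this.eq))
  -- a second fixed four-group
  have hc : ∀ y ∈ d.F, s₁ * y = y * s₁ := by
    intro y hy
    obtain ⟨e₁, he₁, he₁U⟩ : ∃ e₁ ∈ d.W', e₁ ∉ c.U := ⟨d.p', mem_sup_right d.h'.four.mem, fun e =>
      d.h'.four.ne_one (mem_bot.1 (d.h'.disj ▸ (⟨e, d.h'.four.mem⟩ : d.p' ∈ c.U ⊓ d.F')))⟩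
    have hb : ∀ y ∈ d.F, br e₁ y ∈ c.U := fun y hy => by
      have := d.br_mem (mem_sup_right hy : y ∈ d.W) he₁
      rwa [← c.br_comm this] at this
    have hmov : ∀ y ∈ d.F, s₁ * (e₁ * y * e₁⁻¹) * s₁⁻¹ = br e₁ y * (s₁ * y * s₁⁻¹) := fun y hy => by
      conv_lhs => rw [conj_eq_br e₁ y, ← conj_mul, c.conj_of_T0 hs₁T (hb y hy)]
    have h4 : c.IsFour (e₁ * f₃ * e₁⁻¹) (d.F.map (MulAut.conj e₁).toMonoidHom) :=
      (d.h.four.all d.fused hf₃ hf₃1).conj e₁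
    have hle : d.F.map (MulAut.conj e₁).toMonoidHom ≤ c.S := by
      rintro _ ⟨y, hy, rfl⟩
      exact c.T0_le (d.W_T0 (d.norm' e₁ he₁ y (mem_sup_right hy)))
    have hfx : s₁ * (e₁ * f₃ * e₁⁻¹) = e₁ * f₃ * e₁⁻¹ * s₁ := mul_inv_eq_iff_eq_mul.1 (by
      rw [hmov f₃ hf₃, mul_inv_eq_iff_eq_mul.2 hf₃s, ← conj_eq_br])
    have h5 := hfix h4 hle (c.T0_le hs₁T) hfx (e₁ * y * e₁⁻¹) (conj_mem_map hy)
    rw [hmov y hy] at h5
    obtain ⟨z₁, hz₁, hzy⟩ : ∃ z₁ ∈ d.F, e₁ * z₁ * e₁⁻¹ = br e₁ y * (s₁ * y * s₁⁻¹) := by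
      obtain ⟨z₁, hz₁, e⟩ := h5
      exact ⟨z₁, hz₁, e⟩
    rw [conj_eq_br] at hzy
    have h6 : z₁ * (s₁ * y * s₁⁻¹)⁻¹ ∈ c.U ⊓ d.F := by
      refine ⟨?_, d.F.mul_mem hz₁ (d.F.inv_mem (hnF y hy))⟩
      rw [show z₁ * (s₁ * y * s₁⁻¹)⁻¹ = (br e₁ z₁)⁻¹ * (br e₁ z₁ * z₁) * (s₁ * y * s₁⁻¹)⁻¹ by group, hzy]
      rw [show (br e₁ z₁)⁻¹ * (br e₁ y * (s₁ * y * s₁⁻¹)) * (s₁ * y * s₁⁻¹)⁻¹
        = (br e₁ z₁)⁻¹ * br e₁ y by group]
      exact c.U.mul_mem (c.U.inv_mem (hb z₁ hz₁)) (hb y hy)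
    rw [d.h.disj, mem_bot, mul_inv_eq_one] at h6
    rw [h6] at hzy
    have h7 : br e₁ (s₁ * y * s₁⁻¹) = br e₁ y := mul_right_cancel hzy
    obtain ⟨y', hy', hy'e⟩ : ∃ y', y' ∈ d.F ∧ y' = s₁ * y * s₁⁻¹ := ⟨_, hnF y hy, rfl⟩
    rw [← hy'e] at h7
    have h8 : br e₁ (y' * y) = 1 := by
      rw [c.br_mul_right (d.h.le hy') (hb y hy), h7, c.U_sq (hb y hy)]
    have h9 := (d.eq_U_of_comm (mem_sup_right (d.F.mul_mem hy' hy)) he₁ (br_eq_one.1 h8).symm).resolve_right he₁U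
    have h10 : y' * y ∈ c.U ⊓ d.F := ⟨h9, d.F.mul_mem hy' hy⟩
    rw [d.h.disj, mem_bot, mul_eq_one_iff_eq_inv, inv_eq_of_mul_eq_one_right (d.h.four.two hy)] at h10
    exact mul_inv_eq_iff_eq_mul.1 (hy'e.symm.trans h10)
  have hW : ∀ w ∈ d.W, s₁ * w = w * s₁ := fun w hw => by
    obtain ⟨b, hb, y, hy, rfl⟩ := d.h.mem_W hw
    rw [← mul_assoc, c.T0_comm hs₁T hb, mul_assoc, hc y hy, mul_assoc]
  rw [show s = e * s₁ by rw [hs₁]; group]
  exact d.Q.mul_mem (d.W'_le_Q heW) (d.W_le_Q (d.cent_le hs₁T hW))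

end Duo

end Hyp

end Cfsg.Agent.Transfer.NoEight
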