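import Cfsg.Agent.Lib.Transfer.NoEight.Core

/-!
# Stable groups in a 2-constrained centraliser lie in `O_{2',2}`

A subgroup of `N_{C(t)}(rad)` normalised by that normaliser, whose elements of odd order centralise the radical,
lies in `O_{2',2}(C(t))`.
-/

set_option autoImplicit false
set_option linter.unusedSectionVars false
set_option linter.style.haveILetI false

namespace Cfsg.Agent.Transfer.NoEight

open Subgroup CoreConsumers.Disc

universe u

variable {G : Type u} [Group G] [Finite G] {t : G} {P : Subgroup G}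

theorem Frame.le_upper_of_odd_comm (F : Frame t P) {A : Subgroup G}
    (hA : ∀ a ∈ A, a ∈ centralizer ({t} : Set G) ∧ a ∈ normalizer (rad t P : Set G))
    (hn : ∀ n ∈ centralizer ({t} : Set G), n ∈ normalizer (rad t P : Set G) → ∀ a ∈ A, n * a * n⁻¹ ∈ A)
    (hodd : ∀ a ∈ A, Odd (orderOf a) → ∀ r ∈ rad t P, a * r = r * a) : A ≤ upper t := by
  haveI : Fact (Nat.Prime 2) := ⟨Nat.prime_two⟩
  set X := centralizer ({t} : Set G) with hX
  haveI : (Cfsg.pPrimeCore 2 X).Normal := Grp.pPrimeCore_isNormal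
  set f := QuotientGroup.mk' (Cfsg.pPrimeCore 2 X) with hf
  have hfs : Function.Surjective f := QuotientGroup.mk'_surjective _
  have hfo : ∀ o : X, (o : G) ∈ oc t → f o = 1 := fun o ho => by
    obtain ⟨o', ho', he⟩ := ho
    exact (QuotientGroup.eq_one_iff o).2 (Subtype.ext he ▸ ho')
  have hRp : IsPGroup 2 ↥(Cfsg.pCore 2 (X ⧸ Cfsg.pPrimeCore 2 X)) := Grp.pCore_isPGroup
  set B := (A.subgroupOf X).map f with hB
  have hBn : B.Normal := by
    refine ⟨?_⟩
    rintro _ ⟨a, ha, rfl⟩ y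
    obtain ⟨g, rfl⟩ := hfs y
    obtain ⟨o, ho, n, hnX, hnR, he⟩ := F.frattini g.2
    have e : g = (⟨o, oc_le t ho⟩ : X) * ⟨n, hnX⟩ := Subtype.ext he
    rw [e, map_mul, hfo ⟨o, oc_le t ho⟩ ho, one_mul, ← map_inv, ← map_mul, ← map_mul]
    exact mem_map_of_mem f (mem_subgroupOf.2 (hn n hnX hnR _ (mem_subgroupOf.1 ha)))
  have hBp : IsPGroup 2 ↥B := by
    refine Invol.isPGroup_of_coprime_elements fun y hy => ?_
    obtain ⟨a, ha, hay⟩ := y.2
    obtain ⟨k, hk⟩ := Invol.exists_pow_coprime (p := 2) a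
    have hcop : (orderOf (a ^ 2 ^ k : X)).Coprime 2 := hk
    have hcomm : ∀ r ∈ rad t P, ((a ^ 2 ^ k : X) : G) * r = r * ((a ^ 2 ^ k : X) : G) := by
      refine hodd _ ?_ ?_
      · rw [Subgroup.coe_pow]; exact pow_mem (mem_subgroupOf.1 ha) _
      · rw [orderOf_coe]; exact Nat.coprime_two_right.1 hcop
    have h1 : f (a ^ 2 ^ k) = 1 := by
      refine Invol.eq_one_of_coprime_of_mem hRp ?_ (Nat.Coprime.coprime_dvd_left (orderOf_map_dvd f _) hcop)
      refine Transfer.Transitivity.centralizer_pCore_quotient F.cons (mem_centralizer_iff.2 fun q hq => ?_)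
      obtain ⟨x, rfl⟩ := hfs q
      obtain ⟨r, hr, o, ho, he⟩ := F.rad_sup (x := (x : G)) ⟨x, hq, rfl⟩
      have e : x = (⟨r, F.le hr.1⟩ : X) * ⟨o, oc_le t ho⟩ := Subtype.ext he.symm
      rw [e, map_mul, hfo ⟨o, oc_le t ho⟩ ho, mul_one, ← map_mul, ← map_mul]
      exact congrArg f (Subtype.ext (hcomm r hr).symm)
    have h2 : y ^ 2 ^ k = 1 := Subtype.ext (by rw [Subgroup.coe_pow, ← hay, ← map_pow, h1, Subgroup.coe_one])
    exact orderOf_eq_one_iff.1 (Nat.eq_one_of_dvd_coprimes (hy.pow_right k) dvd_rfl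
      (orderOf_dvd_of_pow_eq_one h2))
  intro a ha
  refine ⟨⟨a, (hA a ha).1⟩, ?_, rfl⟩
  exact Grp.le_pCore hBn hBp (mem_map_of_mem f (mem_subgroupOf.2 ha))

end Cfsg.Agent.Transfer.NoEight
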