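import Cfsg.Agent.Lib.Transfer.NoEight.DuoSwap
import Cfsg.Agent.Lib.Transfer.NoEight.StableChain

/-!
# Case A with fusion: `W` and `W'` lie in `O_{2',2}(C(z))`

An invariant `D` between `U` and `R ∩ T₀ ∩ WW'` makes `W` and `W'` stabilise a chain in `R`.
-/

set_option autoImplicit false
set_option linter.unusedSectionVars false
set_option linter.style.haveILetI false

namespace Cfsg.Agent.Transfer.NoEight

open Subgroup CoreConsumers.Disc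

universe u

variable {G : Type u} [Group G] [Finite G]

/-- An element of odd order moving `x` by an element of 2-power order commuting with both fixes it. -/
theorem stable_odd {a x : G} (ha : Odd (orderOf a)) {b : G} (hb : a * x * a⁻¹ = b * x) (hab : a * b = b * a)
    {k : ℕ} (hk : b ^ 2 ^ k = 1) : b = 1 := by
  have hn : ∀ n : ℕ, a ^ n * x * (a ^ n)⁻¹ = b ^ n * x := by
    intro n
    induction n with
    | zero => simp
    | succ n ih =>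
      rw [show a ^ (n + 1) * x * (a ^ (n + 1))⁻¹ = a * (a ^ n * x * (a ^ n)⁻¹) * a⁻¹ by group, ih,
        ← conj_mul, mul_inv_eq_iff_eq_mul.2 ((show Commute a b from hab).pow_right n).eq, hb, ← mul_assoc,
        ← pow_succ]
  have h1 := hn (orderOf a)
  rw [pow_orderOf_eq_one, inv_one, mul_one, one_mul] at h1
  have h2 : b ^ orderOf a = 1 := mul_eq_right.1 h1.symm
  exact orderOf_eq_one_iff.1 (Nat.eq_one_of_dvd_coprimes (Nat.Coprime.pow_right k (Nat.coprime_two_right.2 ha))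
    (orderOf_dvd_of_pow_eq_one h2) (orderOf_dvd_of_pow_eq_one hk))

namespace Hyp

variable {c : Hyp G}

theorem CaseA.R0_conj (hA : c.CaseA) {n x : G} (hn : n ∈ centralizer ({c.z} : Set G))
    (hnR : n ∈ normalizer (c.R : Set G)) (hx : x ∈ c.R) (hxT : x ∈ c.T0) :
    n * x * n⁻¹ ∈ c.R ∧ n * x * n⁻¹ ∈ c.T0 := by
  have h1 := (mem_normalizer_iff.1 hnR x).1 hx
  refine ⟨h1, c.mem_T0.2 ⟨c.R_le h1, ?_⟩⟩
  have h2 : n⁻¹ * c.u * n ∈ c.U := by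
    have := (mem_normalizer_iff.1 (inv_mem (hA n hn hnR)) c.u).1 c.uU
    rwa [inv_inv] at this
  have h3 := conj_comm (g := n) (c.T0_comm hxT h2)
  rwa [show n * (n⁻¹ * c.u * n) * n⁻¹ = c.u by group] at h3

namespace Duo

variable (d : Duo c)

/-- The diagonal element `[w, r]` for a swap `r`. -/
theorem diag {r : G} (hr : r ∈ c.T0) (hs : d.Swap r) {w : G} (hw : w ∈ d.W) :
    br w r ∈ d.Q ∧ br r (br w r) ∈ c.U := by
  obtain ⟨v, hv, hve⟩ : ∃ v, v ∈ d.W' ∧ v = r * w * r⁻¹ := ⟨_, hs.1 w hw, rfl⟩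
  have hwi : w⁻¹ = w := inv_eq_of_mul_eq_one_right (d.sq hw)
  have hbr : br w r = w * v := by rw [hve, hwi]; group
  have hrr : r * r ∈ d.Q := d.fix_T0 (c.T0.mul_mem hr hr) (d.swap_mul hs hs)
  obtain ⟨b, hb, hbe⟩ : ∃ b, b ∈ c.U ∧ b = br (r * r) w := ⟨_, d.br_QQ hrr (d.W_le_Q hw), rfl⟩
  refine ⟨hbr ▸ d.Q.mul_mem (d.W_le_Q hw) (d.W'_le_Q hv), ?_⟩
  have hrv : r * v * r⁻¹ = b * w := by rw [hve, hbe]; group
  have e : br r (br w r) = b * br v w := by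
    rw [hbr, show r * (w * v) * r⁻¹ * (w * v)⁻¹ = (r * w * r⁻¹) * (r * v * r⁻¹) * (w * v)⁻¹ by group, hrv, ← hve,
      show v * (b * w) * (w * v)⁻¹ = (v * b) * (w * v⁻¹ * w⁻¹) by group, c.T0_comm (d.W'_T0 hv) hb]
    group
  rw [e]
  exact c.U.mul_mem hb (d.br_QQ (d.W'_le_Q hv) (d.W_le_Q hw))

theorem diag_U {r : G} (hr : r ∈ c.T0) (hs : d.Swap r) {w : G} (hw : w ∈ d.W) (h : br w r ∈ c.U) : w ∈ c.U := by
  have hv : r * w * r⁻¹ ∈ c.U := by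
    refine d.inter ?_ (hs.1 w hw)
    rw [show r * w * r⁻¹ = w⁻¹ * (br w r) * (r * w * w * r⁻¹) by group, mul_assoc r w w, d.sq hw, mul_one,
      mul_inv_cancel, mul_one]
    exact d.W.mul_mem (d.W.inv_mem hw) (d.U_W h)
  have h1 := c.conj_of_T0 (c.T0.inv_mem hr) hv
  rw [show r⁻¹ * (r * w * r⁻¹) * r⁻¹⁻¹ = w by group] at h1
  exact h1 ▸ hv

theorem sq_Q {x : G} (hx : x ∈ d.Q) : x * x ∈ c.U := by
  obtain ⟨w, hw, v, hv, rfl⟩ := d.mem_Q hx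
  have e : w * v * (w * v) = br w v := by
    rw [inv_eq_of_mul_eq_one_right (d.sq hw), inv_eq_of_mul_eq_one_right (d.sq' hv)]; group
  rw [e]
  exact d.br_mem hw hv

/-- An invariant subgroup between `U` and `R ∩ Q` receiving the commutators of `W` and `W'` with `R ∩ T₀`. -/
theorem exists_mid : ∃ D : Subgroup G, D ≤ d.Q ∧
    (∀ n ∈ centralizer ({c.z} : Set G), n ∈ normalizer (c.R : Set G) → ∀ x ∈ D, n * x * n⁻¹ ∈ D) ∧
    (∀ w, w ∈ d.W ∨ w ∈ d.W' → ∀ s ∈ c.R, s ∈ c.T0 → br w s ∈ D) := by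
  have hbW : ∀ w, w ∈ d.W ∨ w ∈ d.W' → w ∈ d.Q := fun w hw => hw.elim d.W_le_Q d.W'_le_Q
  by_cases hR0 : c.R ⊓ c.T0 ≤ d.Q
  · refine ⟨c.R ⊓ c.T0, hR0, fun n hn hnR x hx => d.caseA.R0_conj hn hnR hx.1 hx.2, fun w hw s hs hsT => ?_⟩
    have hb := d.br_QQ (hbW w hw) (hR0 ⟨hs, hsT⟩)
    exact ⟨c.U_le_R hb, c.UleT0 hb⟩
  obtain ⟨r, hr, hrQ⟩ := SetLike.not_le_iff_exists.1 hR0
  obtain ⟨hrR, hrT⟩ : r ∈ c.R ∧ r ∈ c.T0 := hr
  have hswap : ∀ {s}, s ∈ c.T0 → s ∉ d.Q → d.Swap s := fun hs hsQ =>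
    d.not_Q_swap hs (fun y hy => d.Q_normal (c.T0_le hs) hy) hsQ
  have hs := hswap hrT hrQ
  have hs' : d.symm.Swap r := ⟨hs.2, hs.1⟩
  let D : Subgroup G :=
    { carrier := {x | x ∈ d.Q ∧ br r x ∈ c.U}
      one_mem' := ⟨d.Q.one_mem, by rw [br_eq_one.2 (by simp)]; exact c.U.one_mem⟩
      mul_mem' := by
        rintro x y ⟨hx, hx'⟩ ⟨hy, hy'⟩
        exact ⟨d.Q.mul_mem hx hy, by rw [c.br_mul_right (d.Q_le hx) hy']; exact c.U.mul_mem hx' hy'⟩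
      inv_mem' := by
        rintro x ⟨hx, hx'⟩
        refine ⟨d.Q.inv_mem hx, ?_⟩
        have h4 := c.br_mul_right (a := r) (d := x) (c.T0.inv_mem (d.Q_le hx)) hx'
        rw [inv_mul_cancel, br_eq_one.2 (by simp : r * 1 = 1 * r)] at h4
        rw [eq_inv_of_mul_eq_one_left h4.symm]
        exact c.U.inv_mem hx' }
  have hD : ∀ x, x ∈ D ↔ x ∈ d.Q ∧ br r x ∈ c.U := fun x => Iff.rfl
  have hUD : ∀ a ∈ c.U, a ∈ D := fun a ha => (hD a).2 ⟨d.W_le_Q (d.U_W ha), by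
    rw [br_eq_one.2 (c.T0_comm hrT ha)]; exact one_mem _⟩
  have hdiag : ∀ w, w ∈ d.W ∨ w ∈ d.W' → br w r ∈ D := by
    rintro w (hw | hw)
    · exact (hD _).2 (d.diag hrT hs hw)
    · have h1 := d.symm.diag hrT hs' hw
      exact (hD _).2 ⟨d.Q_symm ▸ h1.1, h1.2⟩
  -- elements of `D`
  have hform : ∀ x ∈ D, ∃ w ∈ d.W, ∃ a ∈ c.U, x = br w r * a := by
    intro x hx
    obtain ⟨hxQ, hxr⟩ := (hD x).1 hx
    obtain ⟨w, hw, v, hv, rfl⟩ := d.mem_Q hxQ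
    obtain ⟨v₁, hv₁, hv₁e⟩ : ∃ v₁, v₁ ∈ d.W' ∧ v₁ = r * w * r⁻¹ := ⟨_, hs.1 w hw, rfl⟩
    obtain ⟨w₁, hw₁, hw₁e⟩ : ∃ w₁, w₁ ∈ d.W ∧ w₁ = r * v * r⁻¹ := ⟨_, hs.2 v hv, rfl⟩
    obtain ⟨b, hb, hbe⟩ : ∃ b, b ∈ c.U ∧ b = br r (w * v) := ⟨_, hxr, rfl⟩
    have hbr := d.br_QQ (d.W'_le_Q hv₁) (d.W_le_Q hw₁)
    have h0 : v₁ * w₁ = b * (w * v) := by rw [hv₁e, hw₁e, hbe]; group
    have h1 : w * v = w₁ * v₁ * (b * br v₁ w₁) := by
      rw [← c.T0_comm (c.T0.mul_mem (d.W_T0 hw₁) (d.W'_T0 hv₁)) (c.U.mul_mem hb hbr) |>.symm,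
        show b * br v₁ w₁ * (w₁ * v₁) = b * (v₁ * w₁) by group, h0, ← mul_assoc b b, c.U_sq hb, one_mul]
    obtain ⟨-, hv'⟩ := d.decomp hw hw₁ hv hv₁ (c.U.mul_mem hb hbr) h1
    refine ⟨w, hw, _, hv', ?_⟩
    rw [show br w r = w * (r * w⁻¹ * r⁻¹) by group, inv_eq_of_mul_eq_one_right (d.sq hw), ← hv₁e]
    group
  have hDR : ∀ x ∈ D, x ∈ c.R ∧ x ∈ c.T0 := fun x hx => by
    obtain ⟨w, hw, a, ha, rfl⟩ := hform x hx
    refine ⟨c.R.mul_mem ?_ (c.U_le_R ha), c.T0.mul_mem (d.Q_le (d.diag hrT hs hw).1) (c.UleT0 ha)⟩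
    exact c.R.mul_mem (c.R_normal (c.T0_le (d.W_T0 hw)) hrR) (c.R.inv_mem hrR)
  -- `D` is abelian
  have hab : ∀ x ∈ D, ∀ y ∈ D, x * y = y * x := by
    intro x hx y hy
    obtain ⟨w, hw, a, ha, rfl⟩ := hform x hx
    obtain ⟨w₂, hw₂, a₂, ha₂, rfl⟩ := hform y hy
    obtain ⟨v, hv, hve⟩ : ∃ v, v ∈ d.W' ∧ v = r * w * r⁻¹ := ⟨_, hs.1 w hw, rfl⟩
    obtain ⟨v₂, hv₂, hv₂e⟩ : ∃ v₂, v₂ ∈ d.W' ∧ v₂ = r * w₂ * r⁻¹ := ⟨_, hs.1 w₂ hw₂, rfl⟩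
    have e1 : br w r = w * v := by rw [hve, inv_eq_of_mul_eq_one_right (d.sq hw)]; group
    have e2 : br w₂ r = w₂ * v₂ := by rw [hv₂e, inv_eq_of_mul_eq_one_right (d.sq hw₂)]; group
    have hrr : r * r ∈ d.Q := d.fix_T0 (c.T0.mul_mem hrT hrT) (d.swap_mul hs hs)
    obtain ⟨b, hb, hbe⟩ : ∃ b, b ∈ c.U ∧ b = br (r * r) w₂ := ⟨_, d.br_QQ hrr (d.W_le_Q hw₂), rfl⟩
    have hrv : r * v₂ * r⁻¹ = b * w₂ := by rw [hv₂e, hbe]; group
    have q1 : br v w₂ ∈ c.U := d.br_QQ (d.W'_le_Q hv) (d.W_le_Q hw₂)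
    have q2 : br w v₂ ∈ c.U := d.br_QQ (d.W_le_Q hw) (d.W'_le_Q hv₂)
    have q3 : br w v₂ = br v w₂ := by
      have h1 := c.conj_of_T0 hrT q2
      rw [show r * br w v₂ * r⁻¹ = br (r * w * r⁻¹) (r * v₂ * r⁻¹) by group, hrv, ← hve,
        c.br_mul_right (c.UleT0 hb) q1, br_eq_one.2 (c.T0_comm (d.W'_T0 hv) hb), one_mul] at h1
      exact h1.symm
    have h2 : br (w * v) (w₂ * v₂) = 1 := by
      have i1 : br v (w₂ * v₂) = br v w₂ := by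
        have e : br v v₂ = 1 := br_eq_one.2 (elemAb_comm d.h'.elem hv hv₂)
        rw [c.br_mul_right (d.W_T0 hw₂) (by rw [e]; exact one_mem _), e, mul_one]
      have i2 : br w (w₂ * v₂) = br w v₂ := by
        rw [c.br_mul_right (d.W_T0 hw₂) q2, br_eq_one.2 (d.wcomm hw hw₂), one_mul]
      rw [c.br_mul_left (d.W_T0 hw) (i1 ▸ q1), i1, i2, q3, c.U_sq q1]
    have hT1 : w * v ∈ c.T0 := c.T0.mul_mem (d.W_T0 hw) (d.W'_T0 hv)
    have hT2 : w₂ * v₂ ∈ c.T0 := c.T0.mul_mem (d.W_T0 hw₂) (d.W'_T0 hv₂)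
    rw [e1, e2]
    have h3 : Commute (w * v) (w₂ * v₂) := br_eq_one.1 h2
    have h4 : Commute (w * v) a₂ := c.T0_comm hT1 ha₂
    have h5 : Commute a (w₂ * v₂) := (c.T0_comm hT2 ha).symm
    have h6 : Commute a a₂ := elemAb_comm c.four.elem ha ha₂
    exact ((h3.mul_right h4).mul_left (h5.mul_right h6)).eq
  have hDQ : ∀ x ∈ D, x ∈ d.Q := fun x hx => ((hD x).1 hx).1
  -- `D` is normalised by `R ∩ T₀`
  have hnorm : ∀ s ∈ c.R, s ∈ c.T0 → ∀ x ∈ D, s * x * s⁻¹ ∈ D := by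
    have hQn : ∀ q ∈ d.Q, ∀ x ∈ D, q * x * q⁻¹ ∈ D := fun q hq x hx => by
      rw [conj_eq_br]
      exact D.mul_mem (hUD _ (d.br_QQ hq (hDQ x hx))) hx
    intro s hsR hsT x hx
    by_cases hsQ : s ∈ d.Q
    · exact hQn s hsQ x hx
    · have hq : r⁻¹ * s ∈ d.Q := d.fix_T0 (c.T0.mul_mem (c.T0.inv_mem hrT) hsT)
        (d.swap_mul (d.swap_inv (c.T0_le hrT) hs) (hswap hsT hsQ))
      obtain ⟨x', hx', hx'e⟩ : ∃ x', x' ∈ D ∧ x' = r⁻¹ * s * x * (r⁻¹ * s)⁻¹ := ⟨_, hQn _ hq x hx, rfl⟩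
      rw [show s * x * s⁻¹ = r * x' * r⁻¹ by rw [hx'e]; group, conj_eq_br]
      exact D.mul_mem (hUD _ ((hD x').1 hx').2) hx'
  refine ⟨D, hDQ, fun n hn hnR x hx => ?_, fun w hw s hsR hsT => ?_⟩
  · -- invariance
    have hnU := d.caseA n hn hnR
    obtain ⟨y, hye⟩ : ∃ y, y = n * x * n⁻¹ := ⟨_, rfl⟩
    rw [← hye]
    obtain ⟨hyR, hyT⟩ : y ∈ c.R ∧ y ∈ c.T0 := hye ▸ d.caseA.R0_conj hn hnR (hDR x hx).1 (hDR x hx).2
    have hcom : ∀ x' ∈ D, y * (n * x' * n⁻¹) = n * x' * n⁻¹ * y := fun x' hx' => by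
      rw [hye]; exact conj_comm (hab x hx x' hx')
    have hy2 : y * y ∈ c.U := by
      rw [hye, conj_mul]; exact (mem_normalizer_iff.1 hnU _).1 (d.sq_Q (hDQ x hx))
    have hnotU : ∀ x' ∈ D, x' ∉ c.U → n * x' * n⁻¹ ∉ c.U := fun x' _ hx' e =>
      hx' ((mem_normalizer_iff.1 hnU x').2 e)
    have hyQ : y ∈ d.Q := by
      by_contra hyQ
      obtain ⟨f, hf, hf1, hfp⟩ : ∃ f ∈ d.F, f ≠ 1 ∧ f ≠ d.p := by
        obtain ⟨g, hg, hgF⟩ := d.h.four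
        refine ⟨g * c.u * g⁻¹, hgF ▸ conj_mem_map c.uU, fun e => c.u1 (conj_eq_one_iff.1 e), fun e => c.uz ?_⟩
        exact conj_inj (e.trans hg.symm)
      have hF : ∀ {a}, a ∈ d.F → a ≠ 1 → br a r ∉ c.U := fun {a} ha ha1 e =>
        ha1 (mem_bot.1 (d.h.disj ▸ (⟨d.diag_U hrT hs (mem_sup_right ha) e, ha⟩ : a ∈ c.U ⊓ d.F)))
      have hd1 : br d.p r ∈ D := hdiag _ (Or.inl d.p_W)
      have hd2 : br f r ∈ D := hdiag _ (Or.inl (mem_sup_right hf))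
      have hd12 : br d.p r * br f r ∉ c.U := fun e => by
        refine hF (d.F.mul_mem d.h.four.mem hf) (fun e1 => hfp ?_) ?_
        · rw [eq_inv_of_mul_eq_one_right e1, inv_eq_of_mul_eq_one_right (d.h.four.two d.h.four.mem)]
        rw [show br (d.p * f) r = br d.p (br f r) * (br f r * br d.p r) by group,
          ← hab _ hd1 _ hd2]
        exact c.U.mul_mem (d.br_QQ (d.W_le_Q d.p_W) (hDQ _ hd2)) e
      have hsy := hswap hyT hyQ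
      have key : ∀ x' ∈ D, x' ∉ c.U → n * x' * n⁻¹ ∈ d.Q → False := fun x' hx' hx'U hQ =>
        hnotU x' hx' hx'U (d.swap_fix hyT hsy hy2 hQ (hcom x' hx'))
      by_cases h1 : n * br d.p r * n⁻¹ ∈ d.Q
      · exact key _ hd1 (hF d.h.four.mem d.h.four.ne_one) h1
      by_cases h2 : n * br f r * n⁻¹ ∈ d.Q
      · exact key _ hd2 (hF hf hf1) h2
      refine key _ (D.mul_mem hd1 hd2) hd12 ?_
      have t1 := (d.caseA.R0_conj hn hnR (hDR _ hd1).1 (hDR _ hd1).2).2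
      have t2 := (d.caseA.R0_conj hn hnR (hDR _ hd2).1 (hDR _ hd2).2).2
      rw [← conj_mul]
      exact d.fix_T0 (c.T0.mul_mem t1 t2) (d.swap_mul (hswap t1 h1) (hswap t2 h2))
    obtain ⟨r₀, hr₀R, hr₀T, hr₀e⟩ : ∃ r₀, r₀ ∈ c.R ∧ r₀ ∈ c.T0 ∧ r₀ = n⁻¹ * r * n := by
      have h1 := d.caseA.R0_conj (inv_mem hn) (inv_mem hnR) hrR hrT
      rw [inv_inv] at h1
      exact ⟨_, h1.1, h1.2, rfl⟩
    have hyy : y * (r * y * r⁻¹) = r * y * r⁻¹ * y := by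
      have h1 := hcom _ (hnorm r₀ hr₀R hr₀T x hx)
      rwa [show n * (r₀ * x * r₀⁻¹) * n⁻¹ = r * (n * x * n⁻¹) * r⁻¹ by rw [hr₀e]; group, ← hye] at h1
    obtain ⟨w, hw, v, hv, rfl⟩ := d.mem_Q hyQ
    refine (hD _).2 ⟨hyQ, ?_⟩
    obtain ⟨w₂, hw₂, hw₂e⟩ : ∃ w₂, w₂ ∈ d.W ∧ w₂ = r⁻¹ * v * r := by
      have := (d.swap_inv (c.T0_le hrT) hs).2 v hv
      rw [inv_inv] at this
      exact ⟨_, this, rfl⟩
    obtain ⟨v₂, hv₂, hv₂e⟩ : ∃ v₂, v₂ ∈ d.W' ∧ v₂ = r * w * r⁻¹ := ⟨_, hs.1 w hw, rfl⟩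
    have hrr : r * r ∈ d.Q := d.fix_T0 (c.T0.mul_mem hrT hrT) (d.swap_mul hs hs)
    obtain ⟨b, hb, hbe⟩ : ∃ b, b ∈ c.U ∧ b = br (r * r) w₂ := ⟨_, d.br_QQ hrr (d.W_le_Q hw₂), rfl⟩
    have hrv : r * v * r⁻¹ = b * w₂ := by rw [hbe, hw₂e]; group
    have hbT : b * w₂ ∈ c.T0 := c.T0.mul_mem (c.UleT0 hb) (d.W_T0 hw₂)
    have hbv : ∀ {v'}, v' ∈ d.W' → br v' (b * w₂) = br v' w₂ := fun {v'} hv' => by
      rw [c.br_mul_right (c.UleT0 hb) (d.br_QQ (d.W'_le_Q hv') (d.W_le_Q hw₂)),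
        br_eq_one.2 (c.T0_comm (d.W'_T0 hv') hb), one_mul]
    have hbw : ∀ {w'}, w' ∈ d.W → br w' (b * w₂) = 1 := fun {w'} hw' =>
      br_eq_one.2 (d.wcomm hw' (d.W.mul_mem (d.U_W hb) hw₂))
    have qU : ∀ {a b : G}, a ∈ d.Q → b ∈ d.Q → br a b ∈ c.U := fun ha hb => d.br_QQ ha hb
    have e1 : br v w₂ = br w v₂ := by
      have h0 : br (w * v) (v₂ * (b * w₂)) = 1 := br_eq_one.2 (by
        rw [hv₂e, ← hrv, conj_mul]; exact hyy)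
      have i1 : br v (v₂ * (b * w₂)) = br v w₂ := by
        rw [c.br_mul_right (d.W'_T0 hv₂) (by rw [hbv hv]; exact qU (d.W'_le_Q hv) (d.W_le_Q hw₂)), hbv hv,
          br_eq_one.2 (elemAb_comm d.h'.elem hv hv₂), one_mul]
      have i2 : br w (v₂ * (b * w₂)) = br w v₂ := by
        rw [c.br_mul_right (d.W'_T0 hv₂) (by rw [hbw hw]; exact one_mem _), hbw hw, mul_one]
      rw [c.br_mul_left (d.W_T0 hw) (i1 ▸ qU (d.W'_le_Q hv) (d.W_le_Q hw₂)), i1, i2] at h0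
      rw [eq_inv_of_mul_eq_one_left h0, c.U_inv (qU (d.W_le_Q hw) (d.W'_le_Q hv₂))]
    have e2 : br w v = br v₂ w₂ := by
      have h1 := c.conj_of_T0 hrT (qU (d.W_le_Q hw) (d.W'_le_Q hv))
      rw [show r * br w v * r⁻¹ = br (r * w * r⁻¹) (r * v * r⁻¹) by group, hrv, ← hv₂e, hbv hv₂] at h1
      exact h1.symm
    have h0 : br (w * w₂) (v₂ * v) = 1 := by
      have q1 := qU (d.W_le_Q hw₂) (d.W'_le_Q hv)
      have q2 := qU (d.W_le_Q hw) (d.W'_le_Q hv)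
      have q3 := qU (d.W_le_Q hw) (d.W'_le_Q hv₂)
      have q4 := qU (d.W_le_Q hw₂) (d.W'_le_Q hv₂)
      rw [c.br_mul_left (d.W_T0 hw) (qU (d.W_le_Q hw₂) (d.Q.mul_mem (d.W'_le_Q hv₂) (d.W'_le_Q hv))),
        c.br_mul_right (d.W'_T0 hv₂) q1, c.br_mul_right (d.W'_T0 hv₂) q2,
        c.br_comm (qU (d.W'_le_Q hv) (d.W_le_Q hw₂)), e1, c.br_comm (qU (d.W'_le_Q hv₂) (d.W_le_Q hw₂)), ← e2,
        mul_assoc, ← mul_assoc (br w v₂) (br w v₂), c.U_sq q3, one_mul, c.U_sq q2]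
    obtain ⟨a, ha, hwa, hva⟩ : ∃ a ∈ c.U, w₂ = w * a ∧ v = v₂ * a := by
      rcases d.eq_U_of_comm (d.W.mul_mem hw hw₂) (d.W'.mul_mem hv₂ hv) (br_eq_one.1 h0) with q | q
      · have e : w₂ = w * (w * w₂) := by rw [← mul_assoc, d.sq hw, one_mul]
        refine ⟨_, q, e, ?_⟩
        calc v = r * w₂ * r⁻¹ := by rw [hw₂e]; group
          _ = (r * w * r⁻¹) * (r * (w * w₂) * r⁻¹) := by rw [conj_mul, ← e]
          _ = v₂ * (w * w₂) := by rw [← hv₂e, c.conj_of_T0 hrT q]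
      · have e : v = v₂ * (v₂ * v) := by rw [← mul_assoc, d.sq' hv₂, one_mul]
        refine ⟨_, q, ?_, e⟩
        have h1 := c.conj_of_T0 (c.T0.inv_mem hrT) q
        rw [inv_inv] at h1
        calc w₂ = r⁻¹ * v * r := hw₂e
          _ = r⁻¹ * (v₂ * (v₂ * v)) * r := by rw [← e]
          _ = (r⁻¹ * v₂ * r) * (r⁻¹ * (v₂ * v) * r) := by group
          _ = w * (v₂ * v) := by rw [h1, hv₂e]; group
    have hfin : br r (w * v) = b * br v₂ w := by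
      rw [show br r (w * v) = (r * w * r⁻¹) * (r * v * r⁻¹) * (w * v)⁻¹ by group, ← hv₂e, hrv, hwa, hva,
        show v₂ * (b * (w * a)) * (w * (v₂ * a))⁻¹ = (v₂ * b) * (w * v₂⁻¹ * w⁻¹) by group,
        c.T0_comm (d.W'_T0 hv₂) hb]
      group
    rw [hfin]
    exact c.U.mul_mem hb (qU (d.W'_le_Q hv₂) (d.W_le_Q hw))
  · by_cases hsQ : s ∈ d.Q
    · exact hUD _ (d.br_QQ (hbW w hw) hsQ)
    · have hq : r⁻¹ * s ∈ d.Q := d.fix_T0 (c.T0.mul_mem (c.T0.inv_mem hrT) hsT)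
        (d.swap_mul (d.swap_inv (c.T0_le hrT) hs) (hswap hsT hsQ))
      have hb := d.br_QQ (hbW w hw) hq
      rw [show s = r * (r⁻¹ * s) by group, c.br_mul_right hrT hb]
      exact D.mul_mem (hdiag w hw) (hUD _ hb)

/-- `W` and `W'` lie in `R`. -/
theorem le_R {w : G} (hw : w ∈ d.W ∨ w ∈ d.W') : w ∈ c.R := by
  obtain ⟨D, hDQ, hDn, hDb⟩ := d.exists_mid
  let N : Subgroup G := centralizer ({c.z} : Set G) ⊓ normalizer (c.R : Set G)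
  have hN : ∀ {a}, a ∈ N → a ∈ centralizer ({c.z} : Set G) ∧ a ∈ normalizer (c.R : Set G) := fun h => h
  let A : Subgroup G :=
    { carrier := {a | a ∈ N ∧ (∀ b ∈ c.U, a * b = b * a) ∧ (∀ s ∈ c.R, br a s ∈ c.T0) ∧
        (∀ s ∈ c.R, s ∈ c.T0 → br a s ∈ D) ∧ ∀ x ∈ D, br a x ∈ c.U}
      one_mem' := ⟨N.one_mem, fun b _ => by simp, fun s _ => by rw [br_eq_one.2 (by simp)]; exact one_mem _,
        fun s _ _ => by rw [br_eq_one.2 (by simp)]; exact one_mem _,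
        fun x _ => by rw [br_eq_one.2 (by simp)]; exact one_mem _⟩
      mul_mem' := by
        rintro a b ⟨ha, ha1, ha2, ha3, ha4⟩ ⟨hb, hb1, hb2, hb3, hb4⟩
        have e : ∀ s, br (a * b) s = a * br b s * a⁻¹ * br a s := fun s => by group
        refine ⟨N.mul_mem ha hb, fun q hq => ?_, fun s hs => ?_, fun s hs hsT => ?_, fun x hx => ?_⟩
        · rw [mul_assoc, hb1 q hq, ← mul_assoc, ha1 q hq, mul_assoc]
        · rw [e]
          refine c.T0.mul_mem ((d.caseA.R0_conj (hN ha).1 (hN ha).2 ?_ (hb2 s hs)).2) (ha2 s hs)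
          exact c.R.mul_mem ((mem_normalizer_iff.1 (hN hb).2 s).1 hs) (c.R.inv_mem hs)
        · rw [e]; exact D.mul_mem (hDn a (hN ha).1 (hN ha).2 _ (hb3 s hs hsT)) (ha3 s hs hsT)
        · rw [e, mul_inv_eq_iff_eq_mul.2 (ha1 _ (hb4 x hx))]
          exact c.U.mul_mem (hb4 x hx) (ha4 x hx)
      inv_mem' := by
        rintro a ⟨ha, ha1, ha2, ha3, ha4⟩
        have e : ∀ s, br a⁻¹ s = a⁻¹ * (br a s)⁻¹ * a⁻¹⁻¹ := fun s => by group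
        have hai : a⁻¹ ∈ N := N.inv_mem ha
        refine ⟨hai, fun q hq => ?_, fun s hs => ?_, fun s hs hsT => ?_, fun x hx => ?_⟩
        · exact ((show Commute a q from ha1 q hq).inv_left).eq
        · rw [e]
          refine (d.caseA.R0_conj (hN hai).1 (hN hai).2 ?_ (c.T0.inv_mem (ha2 s hs))).2
          exact c.R.inv_mem (c.R.mul_mem ((mem_normalizer_iff.1 (hN ha).2 s).1 hs) (c.R.inv_mem hs))
        · rw [e]; exact hDn _ (hN hai).1 (hN hai).2 _ (D.inv_mem (ha3 s hs hsT))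
        · have h0 := c.U.inv_mem (ha4 x hx)
          rw [e, mul_inv_eq_iff_eq_mul.2 ((show Commute a _ from ha1 _ h0).inv_left).eq]
          exact h0 }
  have hA : ∀ a, a ∈ A ↔ a ∈ N ∧ (∀ b ∈ c.U, a * b = b * a) ∧ (∀ s ∈ c.R, br a s ∈ c.T0) ∧
      (∀ s ∈ c.R, s ∈ c.T0 → br a s ∈ D) ∧ ∀ x ∈ D, br a x ∈ c.U := fun a => Iff.rfl
  have hle : A ≤ upper c.z := by
    refine Frame.le_upper_of_odd_comm c.frameZ (fun a ha => ((hA a).1 ha).1) ?_ ?_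
    · intro n hn hnR a ha
      obtain ⟨haN, ha1, ha2, ha3, ha4⟩ := (hA a).1 ha
      have hnN : n ∈ N := ⟨hn, hnR⟩
      have hni := hN (N.inv_mem hnN)
      have hnU := d.caseA n hn hnR
      have e : ∀ s, br (n * a * n⁻¹) s = n * br a (n⁻¹ * s * n⁻¹⁻¹) * n⁻¹ := fun s => by group
      refine (hA _).2 ⟨N.mul_mem (N.mul_mem hnN haN) (N.inv_mem hnN), fun b hb => ?_, fun s hs => ?_,
        fun s hs hsT => ?_, fun x hx => ?_⟩
      · have h1 := conj_comm (g := n) (ha1 _ ((mem_normalizer_iff.1 (inv_mem hnU) b).1 hb))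
        rwa [show n * (n⁻¹ * b * n⁻¹⁻¹) * n⁻¹ = b by group] at h1
      · rw [e]
        have hs' := (mem_normalizer_iff.1 hni.2 s).1 hs
        exact (d.caseA.R0_conj hn hnR (c.R.mul_mem ((mem_normalizer_iff.1 (hN haN).2 _).1 hs') (c.R.inv_mem hs'))
          (ha2 _ hs')).2
      · rw [e]
        have hs' := d.caseA.R0_conj hni.1 hni.2 hs hsT
        exact hDn n hn hnR _ (ha3 _ hs'.1 hs'.2)
      · rw [e]
        exact (mem_normalizer_iff.1 hnU _).1 (ha4 _ (hDn _ hni.1 hni.2 x hx))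
    · intro a ha hodd r hr
      obtain ⟨haN, ha1, ha2, ha3, ha4⟩ := (hA a).1 ha
      have h2 : ∀ {b : G}, b ∈ c.S → ∃ k : ℕ, b ^ 2 ^ k = 1 := fun {b} hb => by
        obtain ⟨k, hk⟩ := c.S_isPGroup ⟨b, hb⟩
        exact ⟨k, congrArg Subtype.val hk⟩
      have hstep : ∀ {x}, br a x ∈ c.S → a * br a x = br a x * a → a * x = x * a := fun {x} hx hc => by
        obtain ⟨k, hk⟩ := h2 hx
        exact br_eq_one.1 (stable_odd hodd (conj_eq_br a x) hc hk)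
      have hD1 : ∀ x ∈ D, a * x = x * a := fun x hx =>
        hstep (c.UleS (ha4 x hx)) (ha1 _ (ha4 x hx))
      have hR0 : ∀ s ∈ c.R, s ∈ c.T0 → a * s = s * a := fun s hs hsT =>
        hstep (c.T0_le (d.Q_le (hDQ (ha3 s hs hsT)))) (hD1 _ (ha3 s hs hsT))
      have hrR : r ∈ c.R := hr
      refine hstep (c.T0_le (ha2 r hrR)) (hR0 _ ?_ (ha2 r hrR))
      exact c.R.mul_mem ((mem_normalizer_iff.1 (hN haN).2 r).1 hrR) (c.R.inv_mem hrR)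
  have hwS : w ∈ c.S := c.T0_le (hw.elim d.W_T0 d.W'_T0)
  have hwT : w ∈ c.T0 := hw.elim d.W_T0 d.W'_T0
  have hwN : w ∈ N := ⟨c.frameZ.le hwS, mem_normalizer_iff.2 fun s =>
    ⟨fun hs => c.R_normal hwS hs, fun hs => by simpa [mul_assoc] using c.R_normal (inv_mem hwS) hs⟩⟩
  have hwQ : w ∈ d.Q := hw.elim d.W_le_Q d.W'_le_Q
  refine ⟨hwS, hle ((hA w).2 ⟨hwN, fun b hb => c.T0_comm hwT hb, fun s hs => ?_, hDb w hw,
    fun x hx => d.br_QQ hwQ (hDQ hx)⟩)⟩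
  rw [show br w s = w * (s * w⁻¹ * s⁻¹) by group]
  exact c.T0.mul_mem hwT (c.T0_normal (c.R_le hs) (c.T0.inv_mem hwT))

end Duo

end Hyp

end Cfsg.Agent.Transfer.NoEight
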