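import Cfsg.Agent.Lib.Transfer.NoEight.Duo

/-!
# Case A with fusion: `T` permutes the two groups of order sixteen

Every pair has one of the two as its group, and no conjugate of `z` lies outside `T₀`.
-/

set_option autoImplicit false
set_option linter.unusedSectionVars false
set_option linter.style.haveILetI false

namespace Cfsg.Agent.Transfer.NoEight

open Subgroup CoreConsumers.Disc

universe u

variable {G : Type u} [Group G] [Finite G]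

namespace Hyp

variable {c : Hyp G}

theorem S_norm (c : Hyp G) {x : G} (hx : x ∈ c.S) :
    x ∈ normalizer (c.T0 : Set G) ∧ x ∈ normalizer (c.U : Set G) :=
  ⟨mem_normalizer_iff.2 fun y =>
    ⟨fun hy => c.T0_normal hx hy, fun hy => by simpa [mul_assoc] using c.T0_normal (inv_mem hx) hy⟩,
  mem_normalizer_iff.2 fun y =>
    ⟨fun hy => c.Unormal hx hy, fun hy => by simpa [mul_assoc] using c.Unormal (inv_mem hx) hy⟩⟩

/-- An element of `U` fixed by an element outside `T₀` is `1` or `z`. -/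
theorem fixed_U (c : Hyp G) {q a : G} (hq : q ∈ c.S) (hqT : q ∉ c.T0) (ha : a ∈ c.U)
    (h : q * a * q⁻¹ = a) : a = 1 ∨ a = c.z := by
  rcases c.Ucases ha with r | r | r | r
  · exact Or.inl r
  · exact Or.inr r
  · rw [r, c.out hq hqT] at h
    exact absurd h c.zu_ne_u
  · rw [r, ← conj_mul, c.out hq hqT, c.zc hq, mul_inv_cancel_right, ← mul_assoc, c.z2, one_mul] at h
    exact absurd h.symm c.zu_ne_u

/-- In case A a conjugate of `z` outside `T₀` is not carried to `z` with `z` carried into `T₀`. -/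
theorem CaseA.moves_z (hA : c.CaseA) {q : G} (hq : q ∈ c.S) (hqT : q ∉ c.T0) {g : G}
    (hgq : g * q * g⁻¹ = c.z) (hz : g * c.z * g⁻¹ ∈ c.T0) : False := by
  have hF : c.IsFour q (c.U.map (MulAut.conj g⁻¹).toMonoidHom) := ⟨g⁻¹, by rw [← hgq]; group, rfl⟩
  refine hqT (c.mem_T0.2 ⟨hq, ?_⟩)
  refine hA.symm hF c.isFour_self (fun f hf => ?_) (fun f hf => c.Unormal hq hf) c.uU
  rw [mem_map_conj, inv_inv] at hf
  exact (conj_comm_iff (g := g)).1 (c.T0_comm hz hf)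

namespace Duo

variable (d : Duo c)

/-- `x` normalises `W`. -/
def Fix (x : G) : Prop := ∀ w ∈ d.W, x * w * x⁻¹ ∈ d.W

/-- `x` exchanges `W` and `W'`. -/
def Swap (x : G) : Prop := (∀ w ∈ d.W, x * w * x⁻¹ ∈ d.W') ∧ ∀ v ∈ d.W', x * v * x⁻¹ ∈ d.W

theorem p_notU : d.p ∉ c.U := fun e =>
  d.h.four.ne_one (mem_bot.1 (d.h.disj ▸ (⟨e, d.h.four.mem⟩ : d.p ∈ c.U ⊓ d.F)))

theorem p_W : d.p ∈ d.W := mem_sup_right d.h.four.mem

theorem swap_not_fix {x : G} (hx : x ∈ c.S) (h : d.Swap x) : ¬ d.Fix x := fun hf => by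
  refine d.p_notU ?_
  have h1 := c.Unormal (inv_mem hx) (d.inter (hf _ d.p_W) (h.1 _ d.p_W))
  rwa [show x⁻¹ * (x * d.p * x⁻¹) * x⁻¹⁻¹ = d.p by group] at h1

theorem fix_mul {x y : G} (hx : d.Fix x) (hy : d.Fix y) : d.Fix (x * y) := fun w hw => by
  rw [show x * y * w * (x * y)⁻¹ = x * (y * w * y⁻¹) * x⁻¹ by group]; exact hx _ (hy w hw)

theorem swap_mul {x y : G} (hx : d.Swap x) (hy : d.Swap y) : d.Fix (x * y) := fun w hw => by
  rw [show x * y * w * (x * y)⁻¹ = x * (y * w * y⁻¹) * x⁻¹ by group]; exact hx.2 _ (hy.1 w hw)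

theorem br_QQ {x y : G} (hx : x ∈ d.Q) (hy : y ∈ d.Q) : br x y ∈ c.U := by
  have h1 : ∀ w ∈ d.W, ∀ y ∈ d.Q, br w y ∈ c.U := fun w hw y hy => by
    obtain ⟨w', hw', v', hv', rfl⟩ := d.mem_Q hy
    rw [c.br_mul_right (d.W_T0 hw') (d.br_mem hw hv'), br_eq_one.2 (d.wcomm hw hw'), one_mul]
    exact d.br_mem hw hv'
  have h2 : ∀ v ∈ d.W', ∀ y ∈ d.Q, br v y ∈ c.U := fun v hv y hy => by
    obtain ⟨w', hw', v', hv', rfl⟩ := d.mem_Q hy
    have e : br v v' = 1 := br_eq_one.2 (elemAb_comm d.h'.elem hv hv')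
    rw [c.br_mul_right (d.W_T0 hw') (by rw [e]; exact one_mem _), e, mul_one, c.br_comm (d.br_mem hw' hv)]
    exact d.br_mem hw' hv
  obtain ⟨w, hw, v, hv, rfl⟩ := d.mem_Q hx
  rw [c.br_mul_left (d.W_T0 hw) (h2 v hv y hy)]
  exact c.U.mul_mem (h2 v hv y hy) (h1 w hw y hy)

/-- A pair inside `Q` has `W` or `W'` as its group. -/
theorem pair_in_Q {q : G} {X : Subgroup G} (hX : c.Pair q X) (hle : X ≤ d.Q) : hX.W = d.W ∨ hX.W = d.W' := by
  obtain ⟨w, hw, v, hv, hwv⟩ := d.mem_Q (hle hX.four.mem)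
  have hq2 := hX.four.two hX.four.mem
  rw [← hwv] at hq2
  have hcomm : w * v = v * w := by
    calc w * v = (w * v)⁻¹ := (inv_eq_of_mul_eq_one_right hq2).symm
      _ = v⁻¹ * w⁻¹ := mul_inv_rev w v
      _ = v * w := by
        rw [inv_eq_of_mul_eq_one_right (d.sq hw), inv_eq_of_mul_eq_one_right (d.sq' hv)]
  rcases d.eq_U_of_comm hw hv hcomm with r | r
  · right
    have : q ∈ d.W' := hwv ▸ d.W'.mul_mem (d.U_W' r) hv
    exact (hX.meet_eq d.caseA d.h' hX.four.mem hX.four.ne_one this).symm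
  · left
    have : q ∈ d.W := hwv ▸ d.W.mul_mem hw (d.U_W r)
    exact (hX.meet_eq d.caseA d.h hX.four.mem hX.four.ne_one this).symm

/-- An element normalising `T₀`, `U` and `Q` fixes or exchanges the two groups. -/
theorem image {k : G} (hk : k ∈ normalizer (c.T0 : Set G)) (hkU : k ∈ normalizer (c.U : Set G))
    (hQ : ∀ x ∈ d.Q, k * x * k⁻¹ ∈ d.Q) : (d.Fix k ∧ d.symm.Fix k) ∨ d.Swap k := by
  have hW := d.h.conj_norm_W hk hkU
  have hW' := d.h'.conj_norm_W hk hkU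
  have h1 := d.pair_in_Q (d.h.conj_norm hk hkU) (by
    rintro _ ⟨f, hf, rfl⟩; exact hQ f (d.W_le_Q (mem_sup_right hf)))
  have h2 := d.pair_in_Q (d.h'.conj_norm hk hkU) (by
    rintro _ ⟨f, hf, rfl⟩; exact hQ f (d.W'_le_Q (mem_sup_right hf)))
  rw [hW] at h1
  rw [hW'] at h2
  have hne : d.W'.map (MulAut.conj k).toMonoidHom ≠ d.W.map (MulAut.conj k).toMonoidHom :=
    fun e => d.ne (map_injective (MulAut.conj k).injective e)
  rcases h1 with e1 | e1 <;> rcases h2 with e2 | e2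
  · exact absurd (e2.trans e1.symm) hne
  · exact Or.inl ⟨fun w hw => e1 ▸ conj_mem_map hw, fun v hv => e2.le (conj_mem_map (g := k) hv)⟩
  · exact Or.inr ⟨fun w hw => e1 ▸ conj_mem_map hw, fun v hv => e2 ▸ conj_mem_map hv⟩
  · exact absurd (e2.trans e1.symm) hne

theorem fix_T0 {x : G} (hx : x ∈ c.T0) (h : d.Fix x) : x ∈ d.Q := d.norm_le hx h

theorem not_Q_swap {x : G} (hx : x ∈ c.T0) (hQ : ∀ y ∈ d.Q, x * y * x⁻¹ ∈ d.Q) (hxQ : x ∉ d.Q) : d.Swap x :=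
  (d.image (c.S_norm (c.T0_le hx)).1 (c.S_norm (c.T0_le hx)).2 hQ).resolve_left fun h => hxQ (d.fix_T0 hx h.1)

/-- An element exchanging the groups with square in `U` centralises nothing of `Q ∖ U`. -/
theorem swap_fix {x y : G} (hx : x ∈ c.T0) (hs : d.Swap x) (hx2 : x * x ∈ c.U) (hy : y ∈ d.Q)
    (hxy : x * y = y * x) : y ∈ c.U := by
  obtain ⟨w, hw, v, hv, rfl⟩ := d.mem_Q hy
  obtain ⟨v₁, hv₁, hv₁e⟩ : ∃ v₁, v₁ ∈ d.W' ∧ v₁ = x * w * x⁻¹ := ⟨_, hs.1 w hw, rfl⟩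
  obtain ⟨w₁, hw₁, hw₁e⟩ : ∃ w₁, w₁ ∈ d.W ∧ w₁ = x * v * x⁻¹ := ⟨_, hs.2 v hv, rfl⟩
  have hfix : v₁ * w₁ = w * v := by
    rw [hv₁e, hw₁e, conj_mul, hxy, mul_inv_cancel_right]
  have hb : br v₁ w₁ ∈ c.U := d.br_QQ (d.W'_le_Q hv₁) (d.W_le_Q hw₁)
  have h1 : w * v = w₁ * v₁ * br v₁ w₁ := by
    rw [← c.T0_comm (c.T0.mul_mem (d.W_T0 hw₁) (d.W'_T0 hv₁)) hb |>.symm, ← hfix]
    group
  obtain ⟨-, hv'⟩ := d.decomp hw hw₁ hv hv₁ hb h1
  -- `x v₁ x⁻¹ = w`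
  have hxv₁ : x * v₁ * x⁻¹ = w := by
    rw [hv₁e, show x * (x * w * x⁻¹) * x⁻¹ = (x * x) * w * (x * x)⁻¹ by group,
      d.wcomm (d.U_W hx2) hw, mul_inv_cancel_right]
  have h2 : x * (v₁⁻¹ * v) * x⁻¹ = v₁⁻¹ * v := c.conj_of_T0 hx hv'
  have h3 : w₁ = w * (v₁⁻¹ * v) := by
    rw [hw₁e, show x * v * x⁻¹ = (x * v₁ * x⁻¹) * (x * (v₁⁻¹ * v) * x⁻¹) by group, hxv₁, h2]
  have h5 : br v₁ w = 1 := by
    obtain ⟨b, hb', hbe⟩ : ∃ b, b ∈ c.U ∧ b = v₁⁻¹ * v := ⟨_, hv', rfl⟩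
    have e1 : v = v₁ * b := by rw [hbe]; group
    rw [e1, h3, ← hbe] at hfix
    rw [← mul_assoc, ← mul_assoc] at hfix
    exact br_eq_one.2 (mul_right_cancel hfix)
  rcases d.eq_U_of_comm hw hv₁ (br_eq_one.1 h5).symm with r | r
  · refine c.U.mul_mem r ?_
    have : v₁ = w := by rw [hv₁e, c.conj_of_T0 hx r]
    have hv₁U : v₁ ∈ c.U := this ▸ r
    simpa using c.U.mul_mem hv₁U hv'
  · have hvU : v ∈ c.U := by simpa using c.U.mul_mem r hv'
    refine c.U.mul_mem ?_ hvU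
    have h6 := c.conj_of_T0 hx r
    rw [hxv₁] at h6
    exact h6 ▸ r

/-- A pair normalising `Q` has `W` or `W'` as its group. -/
theorem pair_norm {q : G} {X : Subgroup G} (hX : c.Pair q X) (hn : ∀ e ∈ X, ∀ y ∈ d.Q, e * y * e⁻¹ ∈ d.Q) :
    hX.W = d.W ∨ hX.W = d.W' := by
  by_cases hle : X ≤ d.Q
  · exact d.pair_in_Q hX hle
  exfalso
  obtain ⟨e, he, heQ⟩ := SetLike.not_le_iff_exists.1 hle
  have hswap : ∀ {y}, y ∈ X → y ∉ d.Q → d.Swap y := fun hy hyQ => d.not_Q_swap (hX.le hy) (hn _ hy) hyQ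
  obtain ⟨y, hy, hy1, hye⟩ : ∃ y ∈ X, y ≠ 1 ∧ y ≠ e := by
    obtain ⟨g, hg, hgX⟩ := hX.four
    by_cases hqe : q = e
    · refine ⟨g * c.u * g⁻¹, hgX ▸ conj_mem_map c.uU, fun r => c.u1 (conj_eq_one_iff.1 r), fun r => c.uz ?_⟩
      exact conj_inj ((r.trans hqe.symm).trans hg.symm)
    · exact ⟨q, hX.four.mem, hX.four.ne_one, hqe⟩
  obtain ⟨y', hy', hy'1, hy'Q⟩ : ∃ y' ∈ X, y' ≠ 1 ∧ y' ∈ d.Q := by
    by_cases hyQ : y ∈ d.Q
    · exact ⟨y, hy, hy1, hyQ⟩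
    refine ⟨e * y, X.mul_mem he hy, fun r => hye ?_,
      d.fix_T0 (c.T0.mul_mem (hX.le he) (hX.le hy)) (d.swap_mul (hswap he heQ) (hswap hy hyQ))⟩
    rw [eq_inv_of_mul_eq_one_right r, inv_eq_of_mul_eq_one_right (hX.four.two he)]
  have h1 := d.swap_fix (hX.le he) (hswap he heQ) (by rw [hX.four.two he]; exact one_mem _) hy'Q
    (elemAb_comm hX.four.elem he hy')
  exact hy'1 (mem_bot.1 (hX.disj ▸ (⟨h1, hy'⟩ : y' ∈ c.U ⊓ X)))

/-- `Q` is normal in `T`. -/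
theorem Q_normal {x y : G} (hx : x ∈ c.S) (hy : y ∈ d.Q) : x * y * x⁻¹ ∈ d.Q := by
  haveI : Fact (Nat.Prime 2) := ⟨Nat.prime_two⟩
  have hQS : d.Q ≤ c.S := d.Q_le.trans c.T0_le
  let T2 : Subgroup c.S := normalizer ((d.Q.subgroupOf c.S : Subgroup c.S) : Set c.S)
  suffices hT2 : T2 = ⊤ from
    (mem_normalizer_iff.1 (show (⟨x, hx⟩ : c.S) ∈ T2 from hT2 ▸ mem_top _) ⟨y, hQS hy⟩).1 hy
  by_contra hne
  haveI : Group.IsNilpotent c.S := c.S_isPGroup.isNilpotent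
  obtain ⟨g, hg, hg'⟩ := SetLike.exists_of_lt (normalizerCondition_of_isNilpotent T2 (lt_top_iff_ne_top.2 hne))
  have hn : ∀ e ∈ d.Q, ∀ y ∈ d.Q, (g : G) * e * (g : G)⁻¹ * y * ((g : G) * e * (g : G)⁻¹)⁻¹ ∈ d.Q := by
    intro e he y hy
    have h1 : (⟨e, hQS he⟩ : c.S) ∈ T2 := le_normalizer (show (⟨e, hQS he⟩ : c.S) ∈ d.Q.subgroupOf c.S from he)
    exact (mem_normalizer_iff.1 ((mem_normalizer_iff.1 hg _).1 h1) ⟨y, hQS hy⟩).1 hy
  have h1 := d.pair_norm (d.h.conj_T g.2) (by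
    rintro _ ⟨f, hf, rfl⟩ y hy; exact hn f (d.W_le_Q (mem_sup_right hf)) y hy)
  have h2 := d.pair_norm (d.h'.conj_T g.2) (by
    rintro _ ⟨f, hf, rfl⟩ y hy; exact hn f (d.W'_le_Q (mem_sup_right hf)) y hy)
  rw [d.h.conj_W g.2] at h1
  rw [d.h'.conj_W g.2] at h2
  have hle : d.Q.map (MulAut.conj (g : G)).toMonoidHom ≤ d.Q := by
    rw [Q, Subgroup.map_sup]
    refine sup_le ?_ ?_
    · rcases h1 with e | e <;> rw [e]
      exacts [le_sup_left, le_sup_right]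
    · rcases h2 with e | e <;> rw [e]
      exacts [le_sup_left, le_sup_right]
  have heq := eq_of_le_of_card_ge hle (by rw [card_map_of_injective (MulAut.conj (g : G)).injective])
  refine hg' (mem_normalizer_iff.2 fun w => ?_)
  show (w : G) ∈ d.Q ↔ (g : G) * w * (g : G)⁻¹ ∈ d.Q
  nth_rewrite 2 [← heq]
  rw [mem_map_conj, show (g : G)⁻¹ * ((g : G) * w * (g : G)⁻¹) * g = w by group]

theorem perm {x : G} (hx : x ∈ c.S) : (d.Fix x ∧ d.symm.Fix x) ∨ d.Swap x :=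
  d.image (c.S_norm hx).1 (c.S_norm hx).2 fun _ hy => d.Q_normal hx hy

theorem swap_inv {x : G} (hx : x ∈ c.S) (h : d.Swap x) : d.Swap x⁻¹ := by
  refine (d.perm (inv_mem hx)).resolve_left fun hf => ?_
  refine d.p_notU (d.inter d.p_W ?_)
  have h1 := hf.2 _ (h.1 _ d.p_W)
  rw [show x⁻¹ * (x * d.p * x⁻¹) * x⁻¹⁻¹ = d.p by group] at h1
  exact h1

/-- Every pair has `W` or `W'` as its group. -/
theorem pair_all {q : G} {X : Subgroup G} (hX : c.Pair q X) : hX.W = d.W ∨ hX.W = d.W' :=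
  d.pair_norm hX fun e he _ hy => d.Q_normal (c.T0_le (hX.le he)) hy

/-- An element normalising `T₀` and `U` fixes or exchanges the two groups. -/
theorem perm_norm {k : G} (hk : k ∈ normalizer (c.T0 : Set G)) (hkU : k ∈ normalizer (c.U : Set G)) :
    (d.Fix k ∧ d.symm.Fix k) ∨ d.Swap k := by
  have h1 := d.pair_all (d.h.conj_norm hk hkU)
  have h2 := d.pair_all (d.h'.conj_norm hk hkU)
  rw [d.h.conj_norm_W hk hkU] at h1
  rw [d.h'.conj_norm_W hk hkU] at h2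
  have hne : d.W'.map (MulAut.conj k).toMonoidHom ≠ d.W.map (MulAut.conj k).toMonoidHom :=
    fun e => d.ne (map_injective (MulAut.conj k).injective e)
  rcases h1 with e1 | e1 <;> rcases h2 with e2 | e2
  · exact absurd (e2.trans e1.symm) hne
  · exact Or.inl ⟨fun w hw => e1 ▸ conj_mem_map hw, fun v hv => e2.le (conj_mem_map (g := k) hv)⟩
  · exact Or.inr ⟨fun w hw => e1 ▸ conj_mem_map hw, fun v hv => e2 ▸ conj_mem_map hv⟩
  · exact absurd (e2.trans e1.symm) hne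

theorem exists_swap : ∃ x ∈ c.S, d.Swap x := by
  by_contra h
  push Not at h
  have := c.eight_normal (d.h.W_le.trans c.T0_le) d.h.elem fun x hx w hw =>
    ((d.perm hx).resolve_right (h x hx)).1 w hw
  rw [d.h.card_W] at this
  omega

/-- An involution outside `T₀` fixing `W` fixes an element of `W ∖ U`. -/
theorem exists_fixed {q : G} (hq : q ∈ c.S) (hqT : q ∉ c.T0) (hq2 : q * q = 1) (h : d.Fix q) :
    ∃ v ∈ d.W, v ∉ c.U ∧ q * v * q⁻¹ = v := by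
  obtain ⟨p₁, hp₁, hp₁e⟩ : ∃ p₁, p₁ ∈ d.W ∧ p₁ = q * d.p * q⁻¹ := ⟨_, h _ d.p_W, rfl⟩
  have hqp₁ : q * p₁ * q⁻¹ = d.p := by
    rw [hp₁e, show q * (q * d.p * q⁻¹) * q⁻¹ = (q * q) * d.p * (q * q)⁻¹ by group, hq2]; group
  by_cases ha : d.p * p₁ ∈ c.U
  · have hpp : d.p * d.p = 1 := d.sq d.p_W
    have hfix : q * (d.p * p₁) * q⁻¹ = d.p * p₁ := by
      rw [← conj_mul, ← hp₁e, hqp₁, d.wcomm hp₁ d.p_W]
    rcases c.fixed_U hq hqT ha hfix with r | r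
    · refine ⟨d.p, d.p_W, d.p_notU, ?_⟩
      rw [← hp₁e, eq_inv_of_mul_eq_one_right r, inv_eq_of_mul_eq_one_right hpp]
    · refine ⟨c.u * d.p, d.W.mul_mem (d.U_W c.uU) d.p_W, fun e => d.p_notU ?_, ?_⟩
      · simpa using c.U.mul_mem (c.U.inv_mem c.uU) e
      · have hp₁' : p₁ = c.z * d.p := by
          rw [← r, d.wcomm d.p_W hp₁, mul_assoc, hpp, mul_one]
        rw [← conj_mul, c.out hq hqT, ← hp₁e, hp₁', mul_assoc, ← mul_assoc c.u, ← c.zu, mul_assoc c.z c.u,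
          ← mul_assoc, c.z2, one_mul]
  · refine ⟨d.p * p₁, d.W.mul_mem d.p_W hp₁, ha, ?_⟩
    rw [← conj_mul, ← hp₁e, hqp₁, d.wcomm hp₁ d.p_W]

/-- An involution of `T ∖ T₀` centralises an element with square `z`. -/
theorem exists_root (d : Duo c) {q : G} (hq : q ∈ c.S) (hqT : q ∉ c.T0) (hq2 : q * q = 1) :
    ∃ r ∈ c.S, r * q = q * r ∧ r * r = c.z := by
  rcases d.perm hq with ⟨hf, hf'⟩ | hs
  · obtain ⟨v, hv, hvU, hvq⟩ := d.exists_fixed hq hqT hq2 hf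
    obtain ⟨v', hv', hv'U, hv'q⟩ := d.symm.exists_fixed hq hqT hq2 hf'
    have hfix : q * (v * v') * q⁻¹ = v * v' := by rw [← conj_mul, hvq, hv'q]
    refine ⟨v * v', c.T0_le (c.T0.mul_mem (d.W_T0 hv) (d.W'_T0 hv')), (mul_inv_eq_iff_eq_mul.1 hfix).symm, ?_⟩
    have hb : br v v' ∈ c.U := d.br_mem hv hv'
    have hsq : v * v' * (v * v') = br v v' := by
      rw [show br v v' = v * v' * v⁻¹ * v'⁻¹ from rfl, inv_eq_of_mul_eq_one_right (d.sq hv),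
        inv_eq_of_mul_eq_one_right (d.sq' hv')]
      group
    rw [hsq]
    refine (c.fixed_U hq hqT hb ?_).resolve_left fun e => ?_
    · rw [← hsq, ← conj_mul, hfix]
    · exact (d.eq_U_of_comm hv hv' (br_eq_one.1 e)).elim hvU hv'U
  · obtain ⟨v', hv', hv'e⟩ : ∃ v', v' ∈ d.W' ∧ v' = q * d.p * q⁻¹ := ⟨_, hs.1 _ d.p_W, rfl⟩
    have hqv' : q * v' * q⁻¹ = d.p := by
      rw [hv'e, show q * (q * d.p * q⁻¹) * q⁻¹ = (q * q) * d.p * (q * q)⁻¹ by group, hq2]; group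
    have hb : br d.p v' ∈ c.U := d.br_mem d.p_W hv'
    have hpp := d.sq d.p_W
    have hvv := d.sq' hv'
    have hsq : d.p * v' * (d.p * v') = br d.p v' := by
      rw [show br d.p v' = d.p * v' * d.p⁻¹ * v'⁻¹ from rfl, inv_eq_of_mul_eq_one_right hpp,
        inv_eq_of_mul_eq_one_right hvv]
      group
    have hconj : q * (d.p * v') * q⁻¹ = v' * d.p := by rw [← conj_mul, ← hv'e, hqv']
    have hbz : br d.p v' = c.z := by
      refine (c.fixed_U hq hqT hb ?_).resolve_left fun e => ?_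
      · rw [← hsq, ← conj_mul, hconj, hsq, ← c.br_comm hb, inv_eq_of_mul_eq_one_right hpp,
          inv_eq_of_mul_eq_one_right hvv]
        group
      · rcases d.eq_U_of_comm d.p_W hv' (br_eq_one.1 e) with r | r
        · exact d.p_notU r
        · refine d.p_notU ?_
          have h1 := c.Unormal hq r
          rwa [hqv'] at h1
    have hx : v' * d.p = c.z * (d.p * v') := by
      rw [← hbz, ← c.br_comm hb]; group
    obtain ⟨x, hxT, hxe⟩ : ∃ x, x ∈ c.T0 ∧ x = d.p * v' := ⟨_, c.T0.mul_mem (d.W_T0 d.p_W) (d.W'_T0 hv'), rfl⟩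
    refine ⟨c.u * x, c.T0_le (c.T0.mul_mem (c.UleT0 c.uU) hxT), (mul_inv_eq_iff_eq_mul.1 ?_).symm, ?_⟩
    · rw [hxe, ← conj_mul, c.out hq hqT, hconj, hx, mul_assoc, ← mul_assoc c.u c.z, ← c.zu, mul_assoc c.z c.u,
        ← mul_assoc, c.z2, one_mul]
    · rw [show c.u * x * (c.u * x) = c.u * (x * c.u) * x by group, c.T0_comm hxT c.uU, ← mul_assoc, c.u2,
        one_mul, hxe, hsq, hbz]

/-- No conjugate of `z` lies outside `T₀`. -/
theorem no_out (d : Duo c) {q : G} (hq : q ∈ c.S) (hz : ∃ g : G, g * c.z * g⁻¹ = q) : q ∈ c.T0 := by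
  by_contra hqT
  have hq2 : q * q = 1 := by
    obtain ⟨g₀, rfl⟩ := hz
    rw [conj_mul, c.z2, mul_one, mul_inv_cancel]
  obtain ⟨r, hr, hrq, hr2⟩ := d.exists_root hq hqT hq2
  obtain ⟨g, hgq, hgS⟩ := c.to_z hq hz
  refine d.caseA.moves_z hq hqT hgq ?_
  rw [← hr2, ← conj_mul]
  exact c.sq_mem (hgS r hr hrq)

end Duo

end Hyp

end Cfsg.Agent.Transfer.NoEight
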