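import Cfsg.Agent.Lib.Transfer.NoEight.Four
import Cfsg.Agent.Lib.Transfer.NoEight.StableChain
import Cfsg.Agent.Lib.Transfer.NoEightExtra.Main
import Cfsg.Agent.Lib.Spor.JTwoType.Disc.Entry
import Cfsg.Agent.Lib.Spor.JTwoType.BalanceTwo
import Cfsg.Agent.Lib.Spor.J2.Group
import Cfsg.Agent.Lib.Fus.J3Fusion.Iso

/-!
# The Janko entry and the extraspecial radical

Either an involution of `T` outside `T₀` has no involution of `T₀` other than `z` in its centraliser, and then the
group is a Janko group, or the extraspecial case outside case A is impossible.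
-/

set_option autoImplicit false
set_option linter.unusedSectionVars false
set_option linter.style.haveILetI false

namespace Cfsg.Agent.Transfer.NoEight

open Subgroup CoreConsumers.Disc

universe u

variable {G : Type u} [Group G] [Finite G]

namespace Hyp

variable (c : Hyp G)

theorem uz_comm : c.u * c.z = c.z * c.u := c.zu.symm

theorem hu_cases {g : G} (hg : g ∈ c.S) : g * c.u = c.u * g ∨ g * c.u = c.u * c.z * g := by
  rcases c.conj_u hg with h | h
  · exact Or.inl (mul_inv_eq_iff_eq_mul.1 h)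
  · exact Or.inr (by rw [c.uz_comm]; exact mul_inv_eq_iff_eq_mul.1 h)

/-- Every involution of `T` outside `T₀` commutes with an involution of `T₀` other than `z`. -/
def Conn : Prop :=
  ∀ v ∈ c.S, v * v = 1 → v * c.u ≠ c.u * v →
    ∃ y ∈ c.S, y * c.u = c.u * y ∧ y * v = v * y ∧ y * y = 1 ∧ y ≠ 1 ∧ y ≠ c.z

/-- Without the commuting condition the group is a Janko group. -/
theorem janko_or_conn : (Cfsg.IsJ2 G ∨ Cfsg.IsJ3 G) ∨ c.Conn := by
  classical
  haveI := c.simple
  by_cases hconn : c.Conn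
  · exact Or.inr hconn
  refine Or.inl ?_
  simp only [Conn, not_forall, not_exists, not_and] at hconn
  obtain ⟨x, hx, hx2, hxu, hy⟩ := hconn
  have hxu' : x * c.u = c.u * c.z * x := (c.hu_cases hx).resolve_left hxu
  have rank3 : ∃ t ∈ c.S, t * c.u = c.u * t ∧ t * t = 1 ∧
      ¬ (t = 1 ∨ t = c.z ∨ t = c.u ∨ t = c.u * c.z) := by
    obtain ⟨E, hES, hE, hE8⟩ := c.rank3
    by_contra hno
    push Not at hno
    have hsq : ∀ a ∈ E, a * a = 1 := fun a ha => elemAb_sq hE ha
    have hcomm : ∀ a ∈ E, ∀ b ∈ E, a * b = b * a := fun a ha b hb => elemAb_comm hE ha hb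
    have hsmall : ∀ a ∈ E, a * c.u = c.u * a → a = 1 ∨ a = c.z ∨ a = c.u ∨ a = c.u * c.z :=
      fun a ha hau => hno a (hES ha) hau (hsq a ha)
    have hbound : ∀ a b d e : G, ((E : Subgroup G) : Set G) ⊆ ({a, b, d, e} : Set G) → False := fun a b d e hle => by
      have h1 := Set.ncard_le_ncard hle (Set.toFinite _)
      rw [show ((E : Subgroup G) : Set G).ncard = Nat.card ↥E from (Nat.card_coe_set_eq _).symm] at h1
      have e1 := Set.ncard_insert_le a ({b, d, e} : Set G)
      have e2 := Set.ncard_insert_le b ({d, e} : Set G)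
      have e3 := Set.ncard_insert_le d ({e} : Set G)
      rw [Set.ncard_singleton] at e3
      omega
    by_cases hout0 : ∀ a ∈ E, a * c.u = c.u * a
    · exact hbound _ _ _ _ fun a ha => hsmall a ha (hout0 a ha)
    · push Not at hout0
      obtain ⟨e0, he0, he0u⟩ := hout0
      have h0 := (c.hu_cases (hES he0)).resolve_left he0u
      have hu_not : ∀ a ∈ E, a ≠ c.u ∧ a ≠ c.u * c.z := fun a ha => ⟨fun e => he0u (e ▸ hcomm e0 he0 a ha),
        fun e => by
          have h := hcomm e0 he0 a ha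
          rw [e, ← mul_assoc, mul_assoc c.u c.z e0, ← c.zc (hES he0), ← mul_assoc c.u e0 c.z] at h
          exact he0u (mul_right_cancel h)⟩
      refine hbound 1 c.z e0 (e0 * c.z) fun a ha => ?_
      by_cases hau : a * c.u = c.u * a
      · rcases hsmall a ha hau with h | h | h | h
        exacts [Or.inl h, Or.inr (Or.inl h), absurd h (hu_not a ha).1, absurd h (hu_not a ha).2]
      · have ha' := (c.hu_cases (hES ha)).resolve_left hau
        have hcu : e0 * a * c.u = c.u * (e0 * a) := by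
          rw [mul_assoc, ha', ← mul_assoc, ← mul_assoc, h0, mul_assoc (c.u * c.z) e0 c.z, c.zc (hES he0),
            ← mul_assoc (c.u * c.z) c.z e0, mul_assoc c.u c.z c.z, c.z2, mul_one, mul_assoc]
        have e : a = e0 * (e0 * a) := by rw [← mul_assoc, hsq e0 he0, one_mul]
        rcases hsmall _ (E.mul_mem he0 ha) hcu with h | h | h | h
        · rw [h, mul_one] at e; exact Or.inr (Or.inr (Or.inl e))
        · rw [h] at e; exact Or.inr (Or.inr (Or.inr e))
        · exact absurd h (hu_not _ (E.mul_mem he0 ha)).1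
        · exact absurd h (hu_not _ (E.mul_mem he0 ha)).2
  let d : Spor.JTwoType.Disc.Conf G :=
    { S := c.T, z := c.z, u := c.u, x := x, zS := c.zS, uS := c.uS, xS := hx, z2 := c.z2, u2 := c.u2, x2 := hx2,
      z1 := c.z1, u1 := c.u1, uz := c.uz, zc := fun g hg => c.zc hg, hu := fun g hg => c.hu_cases hg, xu := hxu',
      rank1 := fun y hyS hyu hyx hy2 => by
        by_contra h
        push Not at h
        exact h.2 (of_not_not (hy y hyS hyu hyx hy2 h.1))
      rank3 := rank3 }
  obtain ⟨s⟩ := Spor.JTwoType.Disc.Conf.exists_shape d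
  rcases (⟨d.S, s, inferInstance⟩ : Spor.JTwoType.Setting G).isoJ2_or_isoJ3 with h | h
  · obtain ⟨e⟩ := h
    exact Or.inl ⟨inferInstance, (Nat.card_congr e.toEquiv).trans J2Cert.card_J2⟩
  · obtain ⟨e⟩ := Fus.J3Fusion.exists_iso h
    exact Or.inr ⟨inferInstance, (Nat.card_congr e.toEquiv).symm.trans Spor.Cos.J3.card_eq⟩

/-- The normaliser of the radical in `C(z)`. -/
def NR : Subgroup G := centralizer ({c.z} : Set G) ⊓ normalizer (c.R : Set G)

theorem mem_NR {g : G} : g ∈ c.NR ↔ g ∈ centralizer ({c.z} : Set G) ∧ g ∈ normalizer (c.R : Set G) := Iff.rfl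

theorem S_le_NR : c.S ≤ c.NR := fun g hg => ⟨c.frameZ.le hg, mem_normalizer_iff.2 fun r =>
  ⟨fun hr => c.R_normal hg hr, fun hr => by simpa [mul_assoc] using c.R_normal (inv_mem hg) hr⟩⟩

/-- Conjugation on the radical. -/
def conjR : ↥c.NR →* MulAut ↥c.R :=
  MonoidHom.mk'
    (fun g =>
      { toFun := fun r => ⟨g * r * (g : G)⁻¹, (mem_normalizer_iff.1 g.2.2 _).1 r.2⟩
        invFun := fun r => ⟨(g : G)⁻¹ * r * g, by
          simpa using (mem_normalizer_iff.1 (c.NR.inv_mem g.2).2 _).1 r.2⟩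
        left_inv := fun r => Subtype.ext (by simp [mul_assoc])
        right_inv := fun r => Subtype.ext (by simp [mul_assoc])
        map_mul' := fun r s => Subtype.ext (by simp [mul_assoc]) })
    fun g h => MulEquiv.ext fun r => Subtype.ext (by simp [mul_assoc])

theorem conjR_apply (g : ↥c.NR) (r : ↥c.R) : ((c.conjR g r : ↥c.R) : G) = g * r * (g : G)⁻¹ := rfl

theorem exists_factor (g : ↥(centralizer ({c.z} : Set G))) :
    ∃ n : ↥c.NR, (g : G) * (n : G)⁻¹ ∈ oc c.z := by
  obtain ⟨o, ho, n, hn, hnR, he⟩ := c.frameZ.frattini g.2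
  exact ⟨⟨n, hn, hnR⟩, by rw [he, mul_inv_cancel_right]; exact ho⟩

/-- A factor in `N(R)` modulo the core. -/
noncomputable def factor (g : ↥(centralizer ({c.z} : Set G))) : ↥c.NR := (c.exists_factor g).choose

theorem factor_spec (g : ↥(centralizer ({c.z} : Set G))) : (g : G) * (c.factor g : G)⁻¹ ∈ oc c.z :=
  (c.exists_factor g).choose_spec

theorem conjR_factor {g : ↥(centralizer ({c.z} : Set G))} {n : ↥c.NR} (h : (g : G) * (n : G)⁻¹ ∈ oc c.z) :
    c.conjR (c.factor g) = c.conjR n := by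
  have h1 : (c.factor g : G) * (n : G)⁻¹ ∈ oc c.z := by
    have := mul_mem (inv_mem (c.factor_spec g)) h
    rwa [show ((g : G) * (c.factor g : G)⁻¹)⁻¹ * ((g : G) * (n : G)⁻¹) = (c.factor g : G) * (n : G)⁻¹ by group]
      at this
  refine MulEquiv.ext fun r => Subtype.ext ?_
  rw [conjR_apply, conjR_apply]
  have h2 := c.frameZ.core_comm h1 (c.NR.mul_mem (c.factor g).2 (c.NR.inv_mem n.2)).2
    ((mem_normalizer_iff.1 n.2.2 _).1 r.2)
  calc (c.factor g : G) * r * (c.factor g : G)⁻¹
      = ((c.factor g : G) * (n : G)⁻¹ * ((n : G) * r * (n : G)⁻¹)) * ((c.factor g : G) * (n : G)⁻¹)⁻¹ := by group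
    _ = _ := by rw [h2, mul_inv_cancel_right]

/-- The action of `C(z)` on the radical. -/
noncomputable def actR : ↥(centralizer ({c.z} : Set G)) →* MulAut ↥c.R :=
  MonoidHom.mk' (fun g => c.conjR (c.factor g)) fun g h => by
    refine (c.conjR_factor (n := c.factor g * c.factor h) ?_).trans (map_mul _ _ _)
    have h1 := oc_conj (c.factor g).2.1 (c.factor_spec h)
    have h2 := mul_mem (c.factor_spec g) h1
    simp only [Subgroup.coe_mul, mul_inv_rev]
    rwa [show (g : G) * (c.factor g : G)⁻¹ * ((c.factor g : G) * ((h : G) * (c.factor h : G)⁻¹) *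
      (c.factor g : G)⁻¹) = (g : G) * h * ((c.factor h : G)⁻¹ * (c.factor g : G)⁻¹) by group] at h2

theorem actR_NR {n : G} (hn : n ∈ c.NR) (r : ↥c.R) :
    ((c.actR ⟨n, hn.1⟩ r : ↥c.R) : G) = n * r * n⁻¹ := by
  show ((c.conjR (c.factor ⟨n, hn.1⟩) r : ↥c.R) : G) = _
  rw [c.conjR_factor (n := ⟨n, hn⟩) (by
    show n * n⁻¹ ∈ oc c.z
    rw [mul_inv_cancel]; exact one_mem _), conjR_apply]

/-- An element of `T` acting on the radical modulo `z` centrally in the automiser lies in the radical. -/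
theorem mem_R_of_central {t : G} (ht : t ∈ c.S)
    (h : ∀ m ∈ c.NR, ∀ r ∈ c.R, (t⁻¹ * m * t * m⁻¹) * r * (t⁻¹ * m * t * m⁻¹)⁻¹ * r⁻¹ ∈ ({1, c.z} : Set G)) :
    t ∈ c.R := by
  have hzR : c.z ∈ c.R := c.U_le_R c.zU
  have hzc : ∀ n ∈ c.NR, n * c.z = c.z * n := fun n hn => mem_centralizer_singleton_iff.1 hn.1
  have hpair : ∀ w, w ∈ ({1, c.z} : Set G) → ∀ n ∈ c.NR, n * w * n⁻¹ = w := by
    rintro w (rfl | rfl) n hn
    · simp
    · rw [hzc n hn, mul_inv_cancel_right]
  have hpm : ∀ w w', w ∈ ({1, c.z} : Set G) → w' ∈ ({1, c.z} : Set G) → w * w' ∈ ({1, c.z} : Set G) := by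
    rintro w w' (rfl | rfl) (rfl | rfl) <;> simp [c.z2]
  let K0 : Subgroup ↥c.NR :=
    { carrier := {n | ∀ r ∈ c.R, (n : G) * r * (n : G)⁻¹ * r⁻¹ ∈ ({1, c.z} : Set G)}
      one_mem' := fun r _ => by simp
      mul_mem' := fun {a b} ha hb r hr => by
        have h2 := hb r hr
        have h1 := ha _ ((mem_normalizer_iff.1 b.2.2 r).1 hr)
        have := hpm _ _ h1 h2
        simp only [Subgroup.coe_mul, mul_inv_rev]
        rwa [show (a : G) * b * r * ((b : G)⁻¹ * (a : G)⁻¹) * r⁻¹ =
          (a : G) * (b * r * (b : G)⁻¹) * (a : G)⁻¹ * (b * r * (b : G)⁻¹)⁻¹ * (b * r * (b : G)⁻¹ * r⁻¹) by group]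
      inv_mem' := fun {a} ha r hr => by
        have h1 := ha _ ((mem_normalizer_iff.1 (c.NR.inv_mem a.2).2 r).1 hr)
        simp only [InvMemClass.coe_inv, inv_inv] at h1 ⊢
        rcases h1 with e | e
        · left
          rw [show (a : G) * ((a : G)⁻¹ * r * a) * (a : G)⁻¹ * ((a : G)⁻¹ * r * a)⁻¹ =
            ((a : G)⁻¹ * r * a * r⁻¹)⁻¹ by group] at e
          exact inv_eq_one.1 e
        · right
          rw [show (a : G) * ((a : G)⁻¹ * r * a) * (a : G)⁻¹ * ((a : G)⁻¹ * r * a)⁻¹ =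
            ((a : G)⁻¹ * r * a * r⁻¹)⁻¹ by group] at e
          exact (inv_eq_iff_eq_inv.1 e).trans c.zi }
  haveI : K0.Normal := ⟨fun a ha g r hr => by
    have h1 := ha _ ((mem_normalizer_iff.1 (c.NR.inv_mem g.2).2 r).1 hr)
    have h2 := hpair _ h1 g g.2
    simp only [InvMemClass.coe_inv, inv_inv] at h1 h2
    simp only [Subgroup.coe_mul, InvMemClass.coe_inv]
    rw [← h2] at h1
    rwa [show (g : G) * ((a : G) * ((g : G)⁻¹ * r * g) * (a : G)⁻¹ * ((g : G)⁻¹ * r * g)⁻¹) * (g : G)⁻¹ =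
      (g : G) * a * (g : G)⁻¹ * r * ((g : G) * a * (g : G)⁻¹)⁻¹ * r⁻¹ by group] at h1⟩
  let π := QuotientGroup.mk' K0
  have hcen : ∀ y : ↥c.NR, π ⟨t, c.S_le_NR ht⟩ * π y = π y * π ⟨t, c.S_le_NR ht⟩ := by
    intro y
    have hmem : (⟨t, c.S_le_NR ht⟩ : ↥c.NR)⁻¹ * y * ⟨t, c.S_le_NR ht⟩ * y⁻¹ ∈ K0 := fun r hr => h y y.2 r hr
    have e := (QuotientGroup.eq_one_iff _).2 hmem
    change π ((⟨t, c.S_le_NR ht⟩ : ↥c.NR)⁻¹ * y * ⟨t, c.S_le_NR ht⟩ * y⁻¹) = 1 at e
    rw [map_mul, map_mul, map_mul, map_inv, map_inv, mul_inv_eq_one, mul_assoc, inv_mul_eq_iff_eq_mul] at e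
    exact e.symm
  let A : Subgroup G := ((zpowers (π ⟨t, c.S_le_NR ht⟩)).comap π).map c.NR.subtype
  have hA : A ≤ upper c.z := by
    refine c.frameZ.le_upper_of_odd_comm (A := A) ?_ ?_ ?_
    · rintro _ ⟨a, -, rfl⟩
      exact a.2
    · rintro n hn hnR _ ⟨a, ha, rfl⟩
      refine ⟨⟨n, hn, hnR⟩ * a * (⟨n, hn, hnR⟩ : ↥c.NR)⁻¹, ?_, rfl⟩
      obtain ⟨i, hi⟩ := mem_zpowers_iff.1 (mem_comap.1 ha)
      refine mem_comap.2 (mem_zpowers_iff.2 ⟨i, ?_⟩)
      have hc : Commute (π ⟨n, hn, hnR⟩) (π a) := by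
        rw [← hi]; exact (show Commute _ _ from (hcen ⟨n, hn, hnR⟩).symm).zpow_right i
      rw [map_mul, map_mul, map_inv, hc.eq, mul_inv_cancel_right, hi]
    · rintro _ ⟨a, ha, rfl⟩ hodd r hr
      obtain ⟨i, hi⟩ := mem_zpowers_iff.1 (mem_comap.1 ha)
      obtain ⟨k, hk⟩ := c.S_isPGroup ⟨t, ht⟩
      have hodd' : Odd (orderOf a) := by rwa [← orderOf_coe]
      have hπa : π a = 1 := by
        have h1 : (π a) ^ 2 ^ k = 1 := by
          rw [← hi, ← zpow_natCast, ← zpow_mul, mul_comm, zpow_mul, zpow_natCast, ← map_pow,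
            show (⟨t, c.S_le_NR ht⟩ : ↥c.NR) ^ 2 ^ k = 1 from
            Subtype.ext (by have := congrArg Subtype.val hk; simpa using this), map_one,
            one_zpow]
        have h2 : (orderOf (π a)).Coprime (2 ^ k) :=
          ((Nat.coprime_two_right.2 hodd').coprime_dvd_left (orderOf_map_dvd π a)).pow_right k
        exact orderOf_eq_one_iff.1 (Nat.eq_one_of_dvd_coprimes h2 dvd_rfl (orderOf_dvd_of_pow_eq_one h1))
      have h3 := (QuotientGroup.eq_one_iff a).1 hπa r hr
      obtain ⟨w, hw, hwe⟩ : ∃ w, w ∈ ({1, c.z} : Set G) ∧ (a : G) * r * (a : G)⁻¹ = w * r :=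
        ⟨_, h3, by group⟩
      have hpow : ∀ j : ℕ, (a : G) ^ j * r * ((a : G) ^ j)⁻¹ = w ^ j * r := by
        intro j
        induction j with
        | zero => simp
        | succ j ih =>
          have hwj : (a : G) * w ^ j = w ^ j * a := by
            have : Commute (a : G) w := by
              rcases hw with e | e
              · rw [e]; exact Commute.one_right _
              · rw [e]; exact hzc _ a.2
            exact (this.pow_right j).eq
          calc (a : G) ^ (j + 1) * r * ((a : G) ^ (j + 1))⁻¹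
              = a * ((a : G) ^ j * r * ((a : G) ^ j)⁻¹) * (a : G)⁻¹ := by rw [pow_succ']; group
            _ = w ^ j * ((a : G) * r * (a : G)⁻¹) := by rw [ih, ← mul_assoc, hwj]; group
            _ = w ^ (j + 1) * r := by rw [hwe, pow_succ, mul_assoc]
      have h4 := hpow (orderOf (a : G))
      rw [pow_orderOf_eq_one, inv_one, mul_one, one_mul, eq_comm, mul_eq_right] at h4
      have hw2 : w ^ 2 = 1 := by
        rcases hw with e | e <;> rw [e]
        · exact one_pow 2
        · rw [pow_two]; exact c.z2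
      have hw1 : w = 1 := orderOf_eq_one_iff.1 (Nat.eq_one_of_dvd_coprimes (Nat.coprime_two_right.2 hodd)
        (orderOf_dvd_of_pow_eq_one h4) (orderOf_dvd_of_pow_eq_one hw2))
      rw [hw1, one_mul] at hwe
      exact mul_inv_eq_iff_eq_mul.1 hwe
  exact ⟨ht, hA ⟨⟨t, c.S_le_NR ht⟩, mem_comap.2 (mem_zpowers _), rfl⟩⟩

/-- Outside case A the radical is not extraspecial of order 32. -/
theorem extra_false (hconn : c.Conn) (hA : ¬ c.CaseA) (hcard : Nat.card ↥c.R = 32)
    (hsq : ∀ r ∈ c.R, r * r = 1 ∨ r * r = c.z)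
    (hcomm : ∀ r ∈ c.R, ∀ s ∈ c.R, r * s * r⁻¹ * s⁻¹ = 1 ∨ r * s * r⁻¹ * s⁻¹ = c.z)
    (hcenter : ∀ r ∈ c.R, (∀ s ∈ c.R, r * s = s * r) → r = 1 ∨ r = c.z) : False := by
  classical
  have huR : c.u ∈ c.R := c.U_le_R c.uU
  have hzR : c.z ∈ c.R := c.U_le_R c.zU
  obtain ⟨x, hxS, hxu⟩ : ∃ x ∈ c.S, x * c.u ≠ c.u * x := by
    by_contra h
    push Not at h
    rcases hcenter c.u huR fun s hs => (h s (c.R_le hs)).symm with e | e
    exacts [c.u1 e, c.uz e]
  have hzz : ∀ {g : G}, g ∈ centralizer ({c.z} : Set G) → g * c.z * g⁻¹ = c.z := fun hg => by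
    rw [mem_centralizer_singleton_iff.1 hg, mul_inv_cancel_right]
  let E : NoEightExtra.Extra G :=
    { T := c.T, z := c.z, u := c.u, x := x, R := c.R
      zT := c.zS, uR := huR, xT := hxS, z2 := c.z2, u2 := c.u2, z1 := c.z1, u1 := c.u1, uz := c.uz
      hzc := fun g hg => c.zc hg
      hu := fun g hg => c.hu_cases hg
      xu := (c.hu_cases hxS).resolve_left hxu
      R_le := c.R_le
      R_card := hcard
      R_normal := fun t ht r hr => c.R_normal ht hr
      R_center := hcenter
      R_sq := hsq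
      R_comm := hcomm
      CR := fun t ht h => by
        have htR := c.frameZ.self_centralizing ht h
        exact hcenter t htR h
      act := c.actR
      act_T := fun g r hg => c.actR_NR (c.S_le_NR hg) r
      act_conj := fun g r => ⟨_, (c.factor g).2.1, rfl⟩
      mem_R := fun g hg r hr h => Frame.rad_fused hg hr h
      moveU := by
        simp only [CaseA, not_forall] at hA
        obtain ⟨n, hn, hnR, hnU⟩ := hA
        refine ⟨⟨n, hn⟩, fun h => hnU ?_⟩
        rw [c.actR_NR ⟨hn, hnR⟩] at h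
        have hnu : n * c.u * n⁻¹ ∈ c.U := by
          rcases h with h | h | h | h <;> rw [h]
          exacts [one_mem _, c.zU, c.uU, mul_mem c.uU c.zU]
        refine mem_normalizer_of_map_eq (eq_of_le_of_card_ge ?_
          (by rw [card_map_of_injective (MulAut.conj n).injective]))
        rintro _ ⟨a, ha, rfl⟩
        show n * a * n⁻¹ ∈ c.U
        rcases c.Ucases ha with e | e | e | e <;> rw [e]
        · simp
        · rw [hzz hn]; exact c.zU
        · exact hnu
        · rw [← conj_mul, hzz hn]; exact mul_mem c.zU hnu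
      moves := fun t ht htR => by
        by_contra h
        push Not at h
        refine htR (c.mem_R_of_central ht fun m hm r hr => ?_)
        have hr1 : m⁻¹ * r * m ∈ c.R := by
          simpa using (mem_normalizer_iff.1 (c.NR.inv_mem hm).2 r).1 hr
        have h0 := h ⟨m, hm.1⟩ ⟨m⁻¹ * r * m, hr1⟩
          ⟨t * (m⁻¹ * r * m) * t⁻¹, c.R_normal ht hr1⟩ rfl
        rw [c.actR_NR hm, c.actR_NR hm] at h0
        have e1 : t⁻¹ * m * t * m⁻¹ * r * (t⁻¹ * m * t * m⁻¹)⁻¹ * r⁻¹ =
            t⁻¹ * (m * (t * (m⁻¹ * r * m) * t⁻¹) * m⁻¹) * t * r⁻¹ := by group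
        rw [e1]
        rcases h0 with h0 | h0 <;> rw [h0]
        · left; group
        · right
          calc t⁻¹ * (t * (m * (m⁻¹ * r * m) * m⁻¹) * t⁻¹ * c.z) * t * r⁻¹ = r * (t⁻¹ * (c.z * t)) * r⁻¹ := by group
            _ = c.z := by rw [← c.zc ht, inv_mul_cancel_left, c.zc (c.R_le hr), mul_inv_cancel_right]
      noE8 := fun F hFT hF h8 hn => c.noEight F hFT hF h8 ⟨fun a ha g => hn g g.2 a ha⟩
      oneFour := fun v hv hv2 hn => by
        by_cases h1 : v = 1
        · exact Or.inl h1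
        by_cases hvz : v = c.z
        · exact Or.inr (Or.inl hvz)
        have hcz : v * c.z = c.z * v := c.zc hv
        let V : Subgroup G :=
          { carrier := ({1, c.z, v, c.z * v} : Set G)
            one_mem' := Or.inl rfl
            mul_mem' := by
              have e1 : c.z * (c.z * v) = v := by rw [← mul_assoc, c.z2, one_mul]
              have e2 : v * (c.z * v) = c.z := by rw [← mul_assoc, hcz, mul_assoc, hv2, mul_one]
              have e3 : c.z * v * c.z = v := by rw [mul_assoc, hcz, e1]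
              have e4 : c.z * v * v = c.z := by rw [mul_assoc, hv2, mul_one]
              have e5 : c.z * v * (c.z * v) = 1 := by rw [mul_assoc, e2, c.z2]
              rintro a b (rfl | rfl | rfl | rfl) (rfl | rfl | rfl | rfl) <;>
                simp [c.z2, hv2, hcz, e1, e2, e3, e4, e5]
            inv_mem' := by
              rintro a (rfl | rfl | rfl | rfl)
              · exact Or.inl inv_one
              · exact Or.inr (Or.inl c.zi)
              · exact Or.inr (Or.inr (Or.inl (inv_eq_of_mul_eq_one_right hv2)))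
              · refine Or.inr (Or.inr (Or.inr ?_))
                rw [mul_inv_rev, c.zi, inv_eq_of_mul_eq_one_right hv2]; exact hcz }
        have hVS : V ≤ c.S := by
          rintro a (rfl | rfl | rfl | rfl)
          exacts [one_mem _, c.zS, hv, mul_mem c.zS hv]
        have hzv1 : c.z * v ≠ 1 := fun e => hvz ((eq_inv_of_mul_eq_one_right e).trans c.zi)
        have hV4 : Nat.card ↥V = 4 := by
          rw [show Nat.card ↥V = (V : Set G).ncard from Nat.card_coe_set_eq _]
          show ({1, c.z, v, c.z * v} : Set G).ncard = 4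
          have n2 : c.z * v ≠ c.z := fun e => h1 (mul_eq_left.1 e)
          have n3 : c.z * v ≠ v := fun e => c.z1 (mul_eq_right.1 e)
          rw [Set.ncard_insert_of_notMem (by simp [c.z1.symm, Ne.symm h1, hzv1.symm]) (Set.toFinite _),
            Set.ncard_insert_of_notMem (by simp [Ne.symm hvz, n2.symm]) (Set.toFinite _), Set.ncard_pair n3.symm]
        have hVe : Cfsg.IsElementaryAbelian 2 V := elemAb_of
          (fun a ha b hb => by
            rcases ha with rfl | rfl | rfl | rfl <;> rcases hb with rfl | rfl | rfl | rfl <;>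
              simp [← mul_assoc, hcz] <;> simp [mul_assoc, hcz])
          (fun a ha => by
            rcases ha with rfl | rfl | rfl | rfl
            · exact one_mul 1
            · exact c.z2
            · exact hv2
            · rw [mul_assoc, ← mul_assoc v, hcz, mul_assoc c.z v v, hv2, mul_one, c.z2])
        have hVn : ∀ g ∈ c.S, ∀ a ∈ V, g * a * g⁻¹ ∈ V := by
          intro g hg a ha
          have hgz : g * c.z * g⁻¹ = c.z := by rw [c.zc hg, mul_inv_cancel_right]
          have hgv : g * v * g⁻¹ ∈ V := by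
            rcases hn g hg with e | e
            · exact Or.inr (Or.inr (Or.inl e))
            · exact Or.inr (Or.inr (Or.inr (e.trans hcz)))
          rcases ha with rfl | rfl | rfl | rfl
          · exact Or.inl (by group)
          · exact Or.inr (Or.inl hgz)
          · exact hgv
          · rw [← conj_mul, hgz]; exact mul_mem (Or.inr (Or.inl rfl)) hgv
        have hvU : v ∈ c.U := c.four_unique hVS hVe hV4 hVn ▸ (show v ∈ V from Or.inr (Or.inr (Or.inl rfl)))
        rw [c.uz_comm]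
        exact c.Ucases hvU
      conn := hconn }
  refine E.false c.no_index_two (c.exists_conj_ne c.zS c.z2 c.z1) ?_
  by_cases hF : c.Fused
  · left
    have hpres : ∀ g : G, g ∈ normalizer (c.T0 : Set G) → E.Pres g := fun g hg t ht htu =>
      c.mem_T0.1 ((mem_normalizer_iff.1 hg t).1 (c.mem_T0.2 ⟨ht, htu⟩))
    have hxn : x ∈ normalizer (c.T0 : Set G) := mem_normalizer_iff.2 fun r =>
      ⟨fun hr => c.T0_normal hxS hr, fun hr => by simpa [mul_assoc] using c.T0_normal (inv_mem hxS) hr⟩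
    obtain ⟨g, hg, -, hgz | hgz⟩ := hF.exists_norm
    · exact ⟨g, hgz, hpres g hg, hpres g⁻¹ (inv_mem hg)⟩
    · refine ⟨x * g, ?_, hpres _ (mul_mem hxn hg), hpres _ (inv_mem (mul_mem hxn hg))⟩
      show x * g * c.z * (x * g)⁻¹ = c.u
      have hxu' : x * c.u * x⁻¹ = c.z * c.u := by
        rcases c.conj_u hxS with e | e
        · exact absurd (mul_inv_eq_iff_eq_mul.1 e) hxu
        · exact e
      calc x * g * c.z * (x * g)⁻¹ = x * (g * c.z * g⁻¹) * x⁻¹ := by group
        _ = (x * c.z * x⁻¹) * (x * c.u * x⁻¹) := by rw [hgz]; group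
        _ = c.u := by rw [hzz (c.frameZ.le hxS), hxu', ← mul_assoc, c.z2, one_mul]
  · right
    refine ⟨fun ⟨g, hg⟩ => hF ⟨g, Or.inl hg⟩, fun k hk X hX hXC hzX => ⟨fun y hy => ?_, fun hkX => ?_⟩⟩
    · exact isolated hF c.uU c.u1 c.uz hX hXC hzX hy
    · exact value_unique hF c.uU c.u1 c.uz c.uU c.u1 c.uz
        (mul_inv_eq_iff_eq_mul.2 (mem_centralizer_singleton_iff.1 hk)) hX hXC hzX hkX

end Hyp

end Cfsg.Agent.Transfer.NoEight
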