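import Cfsg.Agent.Lib.Transfer.NoEight.Isolated

/-!
# When `C(z)` normalises `U` modulo its core: four-groups attached to the conjugates of `z`
-/

set_option autoImplicit false
set_option linter.unusedSectionVars false
set_option linter.style.haveILetI false

namespace Cfsg.Agent.Transfer.NoEight

open Subgroup CoreConsumers.Disc

universe u

variable {G : Type u} [Group G] [Finite G]

theorem mem_map_conj {H : Subgroup G} {g y : G} :
    y ∈ H.map (MulAut.conj g).toMonoidHom ↔ g⁻¹ * y * g ∈ H := by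
  constructor
  · rintro ⟨h, hh, rfl⟩
    simpa [mul_assoc] using hh
  · intro h
    exact ⟨_, h, by simp [mul_assoc]⟩

theorem conj_mem_map {H : Subgroup G} {g a : G} (ha : a ∈ H) :
    g * a * g⁻¹ ∈ H.map (MulAut.conj g).toMonoidHom := ⟨a, ha, by simp⟩

theorem conj_inj {g a b : G} (h : g * a * g⁻¹ = g * b * g⁻¹) : a = b :=
  mul_left_cancel (mul_right_cancel h)

theorem conj_comm {g a b : G} (h : a * b = b * a) :
    g * a * g⁻¹ * (g * b * g⁻¹) = g * b * g⁻¹ * (g * a * g⁻¹) := by rw [conj_mul, conj_mul, h]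

theorem conj_comm_iff {g a b : G} :
    g * a * g⁻¹ * (g * b * g⁻¹) = g * b * g⁻¹ * (g * a * g⁻¹) ↔ a * b = b * a :=
  ⟨fun h => conj_inj (g := g) (by rwa [conj_mul, conj_mul] at h), conj_comm⟩

/-- A 2-subgroup meets `O(C(t))` trivially. -/
theorem eq_of_div_oc {t a b : G} {P : Subgroup G} (hP : IsPGroup 2 P) (ha : a ∈ P) (hb : b ∈ P)
    (h : a * b⁻¹ ∈ oc t) : a = b := by
  obtain ⟨k, hk⟩ := hP ⟨_, mul_mem ha (inv_mem hb)⟩
  exact mul_inv_eq_one.1 (oc_two h (congrArg Subtype.val hk))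

namespace Hyp

variable (c : Hyp G)

/-- Case A. -/
def CaseA : Prop :=
  ∀ n ∈ centralizer ({c.z} : Set G), n ∈ normalizer (c.R : Set G) → n ∈ normalizer (c.U : Set G)

variable {c}

theorem UleC (c : Hyp G) : c.U ≤ centralizer ({c.z} : Set G) := fun a ha =>
  mem_centralizer_singleton_iff.2 (c.zc (c.UleS ha))

/-- In case A an element of `C(z)` moves `U` only by the core. -/
theorem CaseA.move (hA : c.CaseA) {g a : G} (hg : g ∈ centralizer ({c.z} : Set G)) (ha : a ∈ c.U) :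
    ∃ b ∈ c.U, g * a * g⁻¹ * b⁻¹ ∈ oc c.z := by
  obtain ⟨o, ho, n, hn, hnR, rfl⟩ := c.frameZ.frattini hg
  refine ⟨n * a * n⁻¹, (mem_normalizer_iff.1 (hA n hn hnR) a).1 ha, ?_⟩
  rw [show o * n * a * (o * n)⁻¹ * (n * a * n⁻¹)⁻¹ = o * ((n * a * n⁻¹) * o⁻¹ * (n * a * n⁻¹)⁻¹) by group]
  exact mul_mem ho (oc_conj (c.UleC ((mem_normalizer_iff.1 (hA n hn hnR) a).1 ha)) (inv_mem ho))

/-- In case A a 2-subgroup of `C(z)` containing `U` normalises it. -/
theorem CaseA.conj_mem_U (hA : c.CaseA) {g a : G} (hg : g ∈ centralizer ({c.z} : Set G)) (ha : a ∈ c.U)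
    {P : Subgroup G} (hP : IsPGroup 2 P) (hUP : c.U ≤ P) (hga : g * a * g⁻¹ ∈ P) : g * a * g⁻¹ ∈ c.U := by
  obtain ⟨b, hb, h⟩ := hA.move hg ha
  rw [eq_of_div_oc hP hga (hUP hb) h]
  exact hb

theorem CaseA.norm_U (hA : c.CaseA) {P : Subgroup G} (hP : IsPGroup 2 P)
    (hPC : P ≤ centralizer ({c.z} : Set G)) (hUP : c.U ≤ P) {g a : G} (hg : g ∈ P) (ha : a ∈ c.U) :
    g * a * g⁻¹ ∈ c.U :=
  hA.conj_mem_U (hPC hg) ha hP hUP (mul_mem (mul_mem hg (hUP ha)) (inv_mem hg))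

/-- `F` is a four-group attached to the conjugate `p` of `z`. -/
def IsFour (c : Hyp G) (p : G) (F : Subgroup G) : Prop :=
  ∃ g : G, g * c.z * g⁻¹ = p ∧ F = c.U.map (MulAut.conj g).toMonoidHom

theorem isFour_self (c : Hyp G) : c.IsFour c.z c.U := ⟨1, by group, by ext y; simp [mem_map_conj]⟩

theorem IsFour.conj {p : G} {F : Subgroup G} (h : c.IsFour p F) (k : G) :
    c.IsFour (k * p * k⁻¹) (F.map (MulAut.conj k).toMonoidHom) := by
  obtain ⟨g, rfl, rfl⟩ := h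
  refine ⟨k * g, by group, ?_⟩
  ext y
  simp only [mem_map_conj]
  rw [show (k * g)⁻¹ * y * (k * g) = g⁻¹ * (k⁻¹ * y * k) * g by group]

theorem IsFour.mem {p : G} {F : Subgroup G} (h : c.IsFour p F) : p ∈ F := by
  obtain ⟨g, rfl, rfl⟩ := h
  exact conj_mem_map c.zU

theorem IsFour.elem {p : G} {F : Subgroup G} (h : c.IsFour p F) : Cfsg.IsElementaryAbelian 2 F := by
  obtain ⟨g, -, rfl⟩ := h
  exact CoreConsumers.elemAb_map _ c.four.elem

theorem IsFour.card {p : G} {F : Subgroup G} (h : c.IsFour p F) : Nat.card F = 4 := by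
  obtain ⟨g, -, rfl⟩ := h
  rw [card_map_of_injective (MulAut.conj g).injective, c.card_U]

theorem IsFour.le_cent {p : G} {F : Subgroup G} (h : c.IsFour p F) : F ≤ centralizer ({p} : Set G) :=
  fun _ hf => mem_centralizer_singleton_iff.2 (elemAb_comm h.elem hf h.mem)

/-- A 2-subgroup of `C(p)` containing a four-group of `p` normalises it. -/
theorem IsFour.norm (hA : c.CaseA) {p : G} {F : Subgroup G} (h : c.IsFour p F) {P : Subgroup G}
    (hP : IsPGroup 2 P) (hPC : P ≤ centralizer ({p} : Set G)) (hFP : F ≤ P) {y f : G} (hy : y ∈ P)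
    (hf : f ∈ F) : y * f * y⁻¹ ∈ F := by
  obtain ⟨g, rfl, rfl⟩ := h
  rw [mem_map_conj] at hf ⊢
  set φ : G →* G := (MulAut.conj g⁻¹).toMonoidHom with hφ
  have hφ' : ∀ w, φ w = g⁻¹ * w * g := fun w => by simp [hφ]
  have h1 := hA.norm_U (P := P.map φ) (hP.map φ) ?_ ?_ (mem_map_of_mem φ hy) hf
  · rw [hφ'] at h1
    rw [show g⁻¹ * (y * f * y⁻¹) * g = g⁻¹ * y * g * (g⁻¹ * f * g) * (g⁻¹ * y * g)⁻¹ by group]
    exact h1
  · rintro _ ⟨w, hw, rfl⟩
    rw [mem_centralizer_singleton_iff, hφ']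
    calc g⁻¹ * w * g * c.z = g⁻¹ * (w * (g * c.z * g⁻¹)) * g := by group
      _ = g⁻¹ * (g * c.z * g⁻¹ * w) * g := by rw [mem_centralizer_singleton_iff.1 (hPC hw)]
      _ = c.z * (g⁻¹ * w * g) := by group
  · intro a ha
    exact ⟨g * a * g⁻¹, hFP (conj_mem_map ha), by rw [hφ']; group⟩

/-- The four-group of `p` in a 2-subgroup of `C(p)` is unique. -/
theorem IsFour.unique (hA : c.CaseA) {p : G} {F F' : Subgroup G} (h : c.IsFour p F) (h' : c.IsFour p F')
    {P : Subgroup G} (hP : IsPGroup 2 P) (hFP : F ≤ P) (hFP' : F' ≤ P) : F = F' := by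
  refine (eq_of_le_of_card_ge (fun y hy => ?_) (by rw [h.card, h'.card])).symm
  obtain ⟨g, rfl, rfl⟩ := h
  obtain ⟨g', hg', rfl⟩ := h'
  rw [mem_map_conj] at hy ⊢
  have hk : g⁻¹ * g' ∈ centralizer ({c.z} : Set G) := by
    rw [mem_centralizer_singleton_iff]
    calc g⁻¹ * g' * c.z = g⁻¹ * (g' * c.z * g'⁻¹) * g' := by group
      _ = c.z * (g⁻¹ * g') := by rw [hg']; group
  set φ : G →* G := (MulAut.conj g⁻¹).toMonoidHom with hφ
  have hφ' : ∀ w, φ w = g⁻¹ * w * g := fun w => by simp [hφ]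
  have h1 := hA.conj_mem_U hk hy (hP.map φ)
    (fun a ha => ⟨g * a * g⁻¹, hFP (conj_mem_map ha), by rw [hφ']; group⟩) ?_
  · rwa [show g⁻¹ * g' * (g'⁻¹ * y * g') * (g⁻¹ * g')⁻¹ = g⁻¹ * y * g by group] at h1
  · rw [show g⁻¹ * g' * (g'⁻¹ * y * g') * (g⁻¹ * g')⁻¹ = g⁻¹ * y * g by group]
    exact ⟨y, hFP' (mem_map_conj.2 hy), hφ' y⟩

/-- An element centralising one four-group of `p` centralises every one it normalises. -/
theorem IsFour.cent_transport (hA : c.CaseA) {p : G} {F F' : Subgroup G} (h : c.IsFour p F) (h' : c.IsFour p F')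
    {q : G} (hn : ∀ f ∈ F, q * f * q⁻¹ ∈ F) (hc : ∀ f ∈ F', q * f = f * q) {f : G} (hf : f ∈ F) :
    q * f = f * q := by
  obtain ⟨g, rfl, rfl⟩ := h
  obtain ⟨g', hg', rfl⟩ := h'
  obtain ⟨a, ha, rfl⟩ : ∃ a ∈ c.U, g * a * g⁻¹ = f := ⟨_, mem_map_conj.1 hf, by group⟩
  set s := g⁻¹ * q * g with hs
  have hk : g⁻¹ * g' ∈ centralizer ({c.z} : Set G) := by
    rw [mem_centralizer_singleton_iff]
    calc g⁻¹ * g' * c.z = g⁻¹ * (g' * c.z * g'⁻¹) * g' := by group
      _ = c.z * (g⁻¹ * g') := by rw [hg']; group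
  set k := g⁻¹ * g' with hk'
  have hsk : ∀ b ∈ c.U, s * (k * b * k⁻¹) = k * b * k⁻¹ * s := fun b hb => by
    have h1 := hc _ (conj_mem_map (g := g') hb)
    calc s * (k * b * k⁻¹) = g⁻¹ * (q * (g' * b * g'⁻¹)) * g := by rw [hs, hk']; group
      _ = g⁻¹ * (g' * b * g'⁻¹ * q) * g := by rw [h1]
      _ = k * b * k⁻¹ * s := by rw [hs, hk']; group
  have hsU : ∀ b ∈ c.U, s * b * s⁻¹ ∈ c.U := fun b hb => by
    have h1 := mem_map_conj.1 (hn _ (conj_mem_map (g := g) hb))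
    rwa [show g⁻¹ * (q * (g * b * g⁻¹) * q⁻¹) * g = s * b * s⁻¹ by rw [hs]; group] at h1
  have hsz : s ∈ centralizer ({c.z} : Set G) := by
    have h1 := hsk _ c.zU
    rw [mem_centralizer_singleton_iff.1 hk, mul_inv_cancel_right] at h1
    exact mem_centralizer_singleton_iff.2 h1
  -- every element of `U` is `k b k⁻¹` modulo the core
  let π : ↥c.U → ↥c.U := fun b => ⟨(hA.move hk b.2).choose, (hA.move hk b.2).choose_spec.1⟩
  have hπ : ∀ b : ↥c.U, k * (b : G) * k⁻¹ * (π b : G)⁻¹ ∈ oc c.z := fun b => (hA.move hk b.2).choose_spec.2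
  have hπi : Function.Injective π := by
    intro b b' e
    refine Subtype.ext (conj_inj (g := k) ?_)
    refine eq_of_div_oc (t := c.z) (P := c.U.map (MulAut.conj k).toMonoidHom)
      ((c.S_isPGroup.to_le c.UleS).map _) (conj_mem_map b.2) (conj_mem_map b'.2) ?_
    have h1 := mul_mem (hπ b) (inv_mem (hπ b'))
    rw [e] at h1
    rwa [show k * (b : G) * k⁻¹ * (π b' : G)⁻¹ * (k * (b' : G) * k⁻¹ * (π b' : G)⁻¹)⁻¹
      = k * (b : G) * k⁻¹ * (k * (b' : G) * k⁻¹)⁻¹ by group] at h1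
  obtain ⟨b, hb⟩ := Finite.surjective_of_injective hπi ⟨a, ha⟩
  set o := k * (b : G) * k⁻¹ * a⁻¹ with ho
  have hoc : o ∈ oc c.z := by
    have := hπ b
    rwa [hb] at this
  have hsa : s * a * s⁻¹ = a := by
    refine eq_of_div_oc (t := c.z) (c.S_isPGroup.to_le c.UleS) (hsU a ha) ha ?_
    rw [show s * a * s⁻¹ * a⁻¹ = s * o⁻¹ * s⁻¹ * (s * (k * (b : G) * k⁻¹) * s⁻¹ * a⁻¹) by rw [ho]; group,
      hsk b b.2, mul_inv_cancel_right]
    exact mul_mem (oc_conj hsz (inv_mem hoc)) hoc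
  have := mul_inv_eq_iff_eq_mul.1 hsa
  calc q * (g * a * g⁻¹) = g * (s * a) * g⁻¹ := by rw [hs]; group
    _ = g * a * g⁻¹ * q := by rw [this, hs]; group

/-- Conjugates of `z` have four-groups in every 2-subgroup of their centraliser, up to enlarging it. -/
theorem exists_four (c : Hyp G) {p : G} (hp : ∃ g : G, g * c.z * g⁻¹ = p) {P : Subgroup G}
    (hP : IsPGroup 2 P) (hPC : P ≤ centralizer ({p} : Set G)) :
    ∃ F : Subgroup G, c.IsFour p F ∧ ∃ Q : Subgroup G, IsPGroup 2 Q ∧ Q ≤ centralizer ({p} : Set G) ∧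
      P ≤ Q ∧ F ≤ Q := by
  haveI : Fact (Nat.Prime 2) := ⟨Nat.prime_two⟩
  obtain ⟨g, rfl⟩ := hp
  set f : G →* G := (MulAut.conj g⁻¹).toMonoidHom with hf
  have hf' : ∀ w, f w = g⁻¹ * w * g := fun w => by simp [hf]
  have hle : P.map f ≤ centralizer ({c.z} : Set G) := by
    rintro _ ⟨w, hw, rfl⟩
    rw [mem_centralizer_singleton_iff, hf']
    calc g⁻¹ * w * g * c.z = g⁻¹ * (w * (g * c.z * g⁻¹)) * g := by group
      _ = g⁻¹ * (g * c.z * g⁻¹ * w) * g := by rw [mem_centralizer_singleton_iff.1 (hPC hw)]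
      _ = c.z * (g⁻¹ * w * g) := by group
  obtain ⟨Q, hQ⟩ := c.frameZ.exists_sylow
  obtain ⟨k, hk⟩ := Invol.exists_conj_subset_sylow ((hP.map f).of_equiv (subgroupOfEquivOfLe hle).symm) Q
  have hkS : ∀ w ∈ P, (k : G) * (g⁻¹ * w * g) * (k : G)⁻¹ ∈ c.S := fun w hw => by
    have h : k * (⟨f w, hle (mem_map_of_mem f hw)⟩ : ↥(centralizer ({c.z} : Set G))) * k⁻¹ ∈
        (Q : Subgroup ↥(centralizer ({c.z} : Set G))) := hk _ (mem_map_of_mem f hw)
    rw [hQ] at h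
    have h' : (k : G) * f w * (k : G)⁻¹ ∈ c.S := h
    rwa [hf'] at h'
  set h := g * (k : G)⁻¹ with hh
  have hz : h * c.z * h⁻¹ = g * c.z * g⁻¹ := by
    have := mem_centralizer_singleton_iff.1 (inv_mem k.2)
    rw [hh, show g * (k : G)⁻¹ * c.z * (g * (k : G)⁻¹)⁻¹ = g * ((k : G)⁻¹ * c.z * (k : G)⁻¹⁻¹) * g⁻¹ by group,
      this, mul_inv_cancel_right]
  refine ⟨_, ⟨h, hz, rfl⟩, c.S.map (MulAut.conj h).toMonoidHom, c.S_isPGroup.map _, ?_, fun w hw => ?_,
    map_mono c.UleS⟩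
  · rintro _ ⟨s, hs, rfl⟩
    rw [mem_centralizer_singleton_iff, ← hz]
    exact conj_comm (g := h) (c.zc hs)
  · rw [mem_map_conj, show h⁻¹ * w * h = (k : G) * (g⁻¹ * w * g) * (k : G)⁻¹ by rw [hh]; group]
    exact hkS w hw

/-- The action of the other members of a four-group on a four-group normalised by it. -/
theorem IsFour.two_move {p : G} {F : Subgroup G} (h : c.IsFour p F) {a b : G}
    (ha : ∀ f ∈ F, a * f * a⁻¹ ∈ F) (hb : ∀ f ∈ F, b * f * b⁻¹ ∈ F) (hap : a * p = p * a) (hbp : b * p = p * b)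
    {f : G} (hf : f ∈ F) (hfa : a * f ≠ f * a) (hfb : b * f ≠ f * b) : a * b * f = f * (a * b) := by
  obtain ⟨g, rfl, rfl⟩ := h
  have hf1 : f ≠ 1 := fun e => hfa (by rw [e, one_mul, mul_one])
  have hfp : f ≠ g * c.z * g⁻¹ := fun e => hfa (e ▸ hap)
  have hmove : ∀ y, (∀ f ∈ c.U.map (MulAut.conj g).toMonoidHom, y * f * y⁻¹ ∈ c.U.map (MulAut.conj g).toMonoidHom) →
      y * (g * c.z * g⁻¹) = g * c.z * g⁻¹ * y → y * f ≠ f * y → y * f * y⁻¹ = g * c.z * g⁻¹ * f := by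
    intro y hy hyp hne
    have hfU := mem_map_conj.1 hf
    have h1 : g⁻¹ * f * g ≠ 1 := fun e => hf1 (by rw [show f = g * (g⁻¹ * f * g) * g⁻¹ by group, e]; group)
    have h2 : g⁻¹ * f * g ≠ c.z := fun e => hfp (by rw [← e]; group)
    rcases c.four.cases hfU h1 h2 (mem_map_conj.1 (hy f hf)) with e | e | e | e
    · exact absurd (conj_eq_one_iff.1 (show y * f * y⁻¹ = 1 by
        rw [show y * f * y⁻¹ = g * (g⁻¹ * (y * f * y⁻¹) * g) * g⁻¹ by group, e]; group)) hf1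
    · refine absurd ?_ hfp
      have e' : y * f * y⁻¹ = g * c.z * g⁻¹ := by rw [← e]; group
      refine conj_inj (g := y) ?_
      rw [e', hyp, mul_inv_cancel_right]
    · refine absurd (mul_inv_eq_iff_eq_mul.1 ?_) hne
      rw [show y * f * y⁻¹ = g * (g⁻¹ * (y * f * y⁻¹) * g) * g⁻¹ by group, e]; group
    · rw [show y * f * y⁻¹ = g * (g⁻¹ * (y * f * y⁻¹) * g) * g⁻¹ by group, e]; group
  have e1 := hmove b hb hbp hfb
  have e2 := hmove a ha hap hfa
  refine mul_inv_eq_iff_eq_mul.1 ?_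
  rw [show a * b * f * (a * b)⁻¹ = a * (b * f * b⁻¹) * a⁻¹ by group, e1, ← conj_mul, hap, mul_inv_cancel_right,
    e2, ← mul_assoc, conj_mul, c.z2, mul_one, mul_inv_cancel, one_mul]

/-- The fusion in `U` is transitive. -/
theorem Fused.transitive (hF : c.Fused) {a : G} (ha : a ∈ c.U) (ha1 : a ≠ 1) :
    ∃ h : G, h ∈ normalizer (c.T0 : Set G) ∧ h ∈ normalizer (c.U : Set G) ∧ h * c.z * h⁻¹ = a := by
  obtain ⟨g, hgT, hgU, hg⟩ := hF.exists_norm
  by_cases hT : c.S ≤ c.T0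
  · -- `U` central: the automiser has odd order
    have hT0 : c.T0 = c.S := le_antisymm c.T0_le hT
    rw [hT0] at hgT
    have hU3 : ∀ b ∈ c.U, g * b * g⁻¹ ∈ c.U := fun b hb => (mem_normalizer_iff.1 hgU b).1 hb
    obtain ⟨k, hk⟩ : ∃ k : ℕ, orderOf g = k ∧ True := ⟨_, rfl, trivial⟩
    have key : ∀ a', (a' = c.u ∧ g * c.z * g⁻¹ = c.u) ∨ (a' = c.z * c.u ∧ g * c.z * g⁻¹ = c.z * c.u) →
        g * a' * g⁻¹ ≠ c.z := by
      intro a' h' e
      have hzz : g * g * c.z * (g * g)⁻¹ = c.z := by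
        rw [show g * g * c.z * (g * g)⁻¹ = g * (g * c.z * g⁻¹) * g⁻¹ by group]
        rcases h' with ⟨r, r'⟩ | ⟨r, r'⟩ <;> rw [r', ← r] <;> exact e
      obtain ⟨j, m, hm, hjm⟩ := Nat.exists_eq_pow_mul_and_not_dvd (orderOf_pos g).ne' 2 (by norm_num)
      set y := g ^ m with hy
      have hy2 : y ^ 2 ^ j = 1 := by
        rw [hy, ← pow_mul, mul_comm, ← hjm, pow_orderOf_eq_one]
      have hyS : y ∈ c.S := by
        have hyn : y ∈ normalizer (c.S : Set G) := pow_mem hgT m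
        have hp : IsPGroup 2 ↥(c.S ⊔ zpowers y) :=
          c.S_isPGroup.to_sup_of_normal_left' (IsPGroup.of_card (n := (Nat.log 2 (orderOf y))) (by
            obtain ⟨i, -, hi⟩ := (Nat.dvd_prime_pow Nat.prime_two).1 (orderOf_dvd_of_pow_eq_one hy2)
            rw [Nat.card_zpowers, hi, Nat.log_pow one_lt_two])) (zpowers_le.2 hyn)
        exact (c.T.is_maximal' hp le_sup_left).le (mem_sup_right (mem_zpowers y))
      have h2 : g * c.z * g⁻¹ = c.z := by
        obtain ⟨i, rfl⟩ : ∃ i, m = 2 * i + 1 := ⟨m / 2, by omega⟩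
        have hfix : (g * g) ^ i * c.z * ((g * g) ^ i)⁻¹ = c.z := by
          have h3 : Commute (g * g) c.z := mul_inv_eq_iff_eq_mul.1 hzz
          rw [(h3.pow_left i).eq, mul_inv_cancel_right]
        have e1 : y = g * (g * g) ^ i := by rw [hy, pow_succ', pow_mul, pow_two]
        have h4 : y * c.z * y⁻¹ = c.z := by rw [c.zc hyS, mul_inv_cancel_right]
        rw [e1, show g * (g * g) ^ i * c.z * (g * (g * g) ^ i)⁻¹ =
          g * ((g * g) ^ i * c.z * ((g * g) ^ i)⁻¹) * g⁻¹ by group, hfix] at h4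
        exact h4
      rcases h' with ⟨-, r'⟩ | ⟨-, r'⟩ <;> rw [r'] at h2
      · exact c.uz h2
      · exact c.zu_ne_z h2
    rcases c.Ucases ha with r | r | r | r
    · exact absurd r ha1
    · exact ⟨1, one_mem _, one_mem _, by rw [r]; group⟩
    all_goals
      rcases hg with e | e
      · have hgg := hU3 _ c.uU
        rcases c.Ucases hgg with s | s | s | s
        · exact absurd (conj_eq_one_iff.1 s) c.u1
        · exact absurd s (key _ (Or.inl ⟨rfl, e⟩))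
        · exact absurd (conj_inj (e.trans s.symm)).symm c.uz
        · first
            | exact ⟨g, hT0 ▸ hgT, hgU, e.trans r.symm⟩
            | exact ⟨g * g, hT0 ▸ mul_mem hgT hgT, mul_mem hgU hgU, by
                rw [r, ← s, ← e]; group⟩
      · have hgg := hU3 _ (mul_mem c.zU c.uU)
        rcases c.Ucases hgg with s | s | s | s
        · exact absurd (conj_eq_one_iff.1 s) c.zu1
        · exact absurd s (key _ (Or.inr ⟨rfl, e⟩))
        · first
            | exact ⟨g, hT0 ▸ hgT, hgU, e.trans r.symm⟩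
            | exact ⟨g * g, hT0 ▸ mul_mem hgT hgT, mul_mem hgU hgU, by
                rw [r, ← s, ← e]; group⟩
        · exact absurd (conj_inj (e.trans s.symm)).symm c.zu_ne_z
  · obtain ⟨x, hx, hx'⟩ := SetLike.not_le_iff_exists.1 hT
    have hxT : x ∈ normalizer (c.T0 : Set G) := mem_normalizer_iff.2 fun y =>
      ⟨fun hy => c.T0_normal hx hy, fun hy => by simpa [mul_assoc] using c.T0_normal (inv_mem hx) hy⟩
    have hxU : x ∈ normalizer (c.U : Set G) := mem_normalizer_iff.2 fun y =>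
      ⟨fun hy => c.Unormal hx hy, fun hy => by simpa [mul_assoc] using c.Unormal (inv_mem hx) hy⟩
    have hxz : x * c.z * x⁻¹ = c.z := by rw [c.zc hx, mul_inv_cancel_right]
    have hxu := c.out hx hx'
    have hxzu : x * (c.z * c.u) * x⁻¹ = c.u := by
      rw [← conj_mul, hxz, hxu, ← mul_assoc, c.z2, one_mul]
    rcases c.Ucases ha with r | r | r | r
    · exact absurd r ha1
    · exact ⟨1, one_mem _, one_mem _, by rw [r]; group⟩
    all_goals
      rcases hg with e | e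
      · first
          | exact ⟨g, hgT, hgU, e.trans r.symm⟩
          | exact ⟨x * g, mul_mem hxT hgT, mul_mem hxU hgU, by rw [r, ← hxu, ← e]; group⟩
      · first
          | exact ⟨g, hgT, hgU, e.trans r.symm⟩
          | exact ⟨x * g, mul_mem hxT hgT, mul_mem hxU hgU, by rw [r, ← hxzu, ← e]; group⟩

/-- Every involution of a four-group is a conjugate of `z` with the same four-group, when `z` is fused in `U`. -/
theorem IsFour.all (hF : c.Fused) {p : G} {F : Subgroup G} (h : c.IsFour p F) {f : G} (hf : f ∈ F) (hf1 : f ≠ 1) :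
    c.IsFour f F := by
  obtain ⟨g, rfl, rfl⟩ := h
  have ha := mem_map_conj.1 hf
  obtain ⟨k, -, hkU, hk⟩ := hF.transitive ha fun e => hf1 (by
    rw [show f = g * (g⁻¹ * f * g) * g⁻¹ by group, e]; group)
  refine ⟨g * k, ?_, ?_⟩
  · rw [show g * k * c.z * (g * k)⁻¹ = g * (k * c.z * k⁻¹) * g⁻¹ by group, hk]; group
  · ext y
    simp only [mem_map_conj]
    rw [show (g * k)⁻¹ * y * (g * k) = k⁻¹ * (g⁻¹ * y * g) * k⁻¹⁻¹ by group]
    exact mem_normalizer_iff.1 (inv_mem hkU) _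

/-- The two four-groups of commuting conjugates `z`, `p`, where `p` centralises `U`, centralise each other. -/
theorem CaseA.claim (hA : c.CaseA) {p : G} (hp : p ∈ centralizer (c.U : Set G)) (hpU : p ∉ c.U)
    {F : Subgroup G} (hF : c.IsFour p F) {Q : Subgroup G} (hQ : IsPGroup 2 Q)
    (hQC : Q ≤ centralizer ({p} : Set G)) (hUQ : c.U ≤ Q) (hFQ : F ≤ Q) :
    (∀ a ∈ c.U, ∀ f ∈ F, a * f = f * a) ∧ c.U ⊓ F = ⊥ := by
  classical
  have hn : ∀ a ∈ c.U, ∀ f ∈ F, a * f * a⁻¹ ∈ F := fun a ha f hf => hF.norm hA hQ hQC hFQ (hUQ ha) hf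
  have hUp : ∀ a ∈ c.U, a * p = p * a := fun a ha => mem_centralizer_iff.1 hp a ha
  have h0 : ∀ v ∈ c.U, v ≠ 1 → v ∈ F → False := by
    intro v hvU hv1 hvF
    have hvp : v ≠ p := fun e => hpU (e ▸ hvU)
    obtain ⟨g, hgz, hgF⟩ := id hF
    have ha' : g⁻¹ * v * g ∈ c.U := mem_map_conj.1 (hgF ▸ hvF)
    have hga' : g * (g⁻¹ * v * g) * g⁻¹ = v := by group
    have ha'1 : g⁻¹ * v * g ≠ 1 := fun e => hv1 (by rw [← hga', e]; group)
    have ha'z : g⁻¹ * v * g ≠ c.z := fun e => hvp (by rw [← hga', e, hgz])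
    by_cases hfu : c.Fused
    · have h1 : c.IsFour v c.U := (c.isFour_self).all hfu hvU hv1
      have h2 : c.IsFour v F := hF.all hfu hvF hv1
      exact hpU ((h1.unique hA h2 hQ hUQ hFQ).symm ▸ hF.mem)
    by_cases hvz : v = c.z
    · exact hfu (c.fused_of (g := g⁻¹) ha' (by rw [hvz]; group) ha'z)
    let P := closure ((c.U : Set G) ∪ F)
    have hPC : P ≤ centralizer ({v} : Set G) := (closure_le _).2 (Set.union_subset
      (fun a ha => mem_centralizer_singleton_iff.2 (elemAb_comm c.four.elem ha hvU))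
      fun f hf => mem_centralizer_singleton_iff.2 (elemAb_comm hF.elem hf hvF))
    have hPQ : P ≤ Q := (closure_le _).2 (Set.union_subset hUQ hFQ)
    have h3 := value_unique hfu hvU hv1 hvz ha' ha'1 ha'z hga' (hQ.to_le hPQ) hPC
      (subset_closure (Or.inl c.zU)) (by rw [hgz]; exact subset_closure (Or.inr hF.mem))
    exact hpU (by rw [← hgz, h3]; exact c.zU)
  have hbot : c.U ⊓ F = ⊥ := (eq_bot_iff_forall _).2 fun v hv => by_contra fun hv1 => h0 v hv.1 hv1 hv.2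
  have hmove : ∀ a ∈ c.U, (∀ b ∈ c.U, ∀ f ∈ F, f * b * f⁻¹ ∈ c.U) → ∀ f ∈ F, a * f = f * a := by
    intro a ha hUn f hf
    refine mul_inv_eq_iff_eq_mul.1 (mul_inv_eq_one.1 ?_)
    by_contra hne
    refine h0 (a * f * a⁻¹ * f⁻¹) ?_ hne (mul_mem (hn a ha f hf) (inv_mem hf))
    rw [show a * f * a⁻¹ * f⁻¹ = a * (f * a⁻¹ * f⁻¹) by group]
    exact mul_mem ha (hUn _ (inv_mem ha) f hf)
  let P := closure ((c.U : Set G) ∪ F)
  have hPQ : P ≤ Q := (closure_le _).2 (Set.union_subset hUQ hFQ)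
  have hUP : c.U ≤ P := fun a ha => subset_closure (Or.inl ha)
  by_cases hzF : ∀ f ∈ F, c.z * f = f * c.z
  · have hPC : P ≤ centralizer ({c.z} : Set G) := (closure_le _).2 (Set.union_subset c.UleC
      fun f hf => mem_centralizer_singleton_iff.2 (hzF f hf).symm)
    refine ⟨fun a ha => hmove a ha fun b hb f hf => ?_, hbot⟩
    exact hA.norm_U (hQ.to_le hPQ) hPC hUP (subset_closure (Or.inr hf)) hb
  exfalso
  push Not at hzF
  obtain ⟨f, hf, hzf⟩ := hzF
  -- an element of `U` other than `z` centralises `F`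
  obtain ⟨v, hvU, hv1, hvz, hvF⟩ : ∃ v ∈ c.U, v ≠ 1 ∧ v ≠ c.z ∧ v * f = f * v := by
    by_cases huf : c.u * f = f * c.u
    · exact ⟨c.u, c.uU, c.u1, c.uz, huf⟩
    · exact ⟨c.z * c.u, mul_mem c.zU c.uU, c.zu1, c.zu_ne_z,
        hF.two_move (hn _ c.zU) (hn _ c.uU) (hUp _ c.zU) (hUp _ c.uU) hf hzf huf⟩
  have hfp : f ≠ p := fun e => hzf (e ▸ hUp _ c.zU)
  have hf1 : f ≠ 1 := fun e => hzf (by rw [e, mul_one, one_mul])
  have hvall : ∀ f' ∈ F, v * f' = f' * v := by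
    intro f' hf'
    obtain ⟨g, rfl, rfl⟩ := hF
    rcases c.four.cases (mem_map_conj.1 hf) (fun e => hf1 (by rw [show f = g * (g⁻¹ * f * g) * g⁻¹ by group, e]; group))
      (fun e => hfp (by rw [← e]; group)) (mem_map_conj.1 hf') with e | e | e | e
    · rw [show f' = g * (g⁻¹ * f' * g) * g⁻¹ by group, e]; group
    · rw [show f' = g * (g⁻¹ * f' * g) * g⁻¹ by group, e]; exact hUp v hvU
    · rw [show f' = g * (g⁻¹ * f' * g) * g⁻¹ by group, e, show g * (g⁻¹ * f * g) * g⁻¹ = f by group]; exact hvF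
    · rw [show f' = g * (g⁻¹ * f' * g) * g⁻¹ by group, e,
        show g * (c.z * (g⁻¹ * f * g)) * g⁻¹ = g * c.z * g⁻¹ * f by group, ← mul_assoc, hUp v hvU, mul_assoc, hvF,
        ← mul_assoc]
  have hPC : P ≤ centralizer ({v} : Set G) := (closure_le _).2 (Set.union_subset
    (fun a ha => mem_centralizer_singleton_iff.2 (elemAb_comm c.four.elem ha hvU))
    fun f' hf' => mem_centralizer_singleton_iff.2 (hvall f' hf').symm)
  by_cases hfu : c.Fused
  · have h1 : c.IsFour v c.U := (c.isFour_self).all hfu hvU hv1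
    exact hzf (hmove c.z c.zU (fun b hb f' hf' =>
      h1.norm hA (hQ.to_le hPQ) hPC hUP (subset_closure (Or.inr hf')) hb) f hf)
  · exact hzf (isolated hfu hvU hv1 hvz (hQ.to_le hPQ) hPC (hUP c.zU) (subset_closure (Or.inr hf))).symm

/-- The claim for an arbitrary pair. -/
theorem CaseA.claim_pair (hA : c.CaseA) {p₀ p : G} {F₀ F : Subgroup G} (h₀ : c.IsFour p₀ F₀)
    (hp : p ∈ centralizer (F₀ : Set G)) (hpF : p ∉ F₀) (hF : c.IsFour p F) {Q : Subgroup G} (hQ : IsPGroup 2 Q)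
    (hQC : Q ≤ centralizer ({p} : Set G)) (hF₀Q : F₀ ≤ Q) (hFQ : F ≤ Q) :
    (∀ a ∈ F₀, ∀ f ∈ F, a * f = f * a) ∧ F₀ ⊓ F = ⊥ := by
  obtain ⟨g, rfl, rfl⟩ := h₀
  set φ : G →* G := (MulAut.conj g⁻¹).toMonoidHom with hφ
  have hφ' : ∀ w, φ w = g⁻¹ * w * g := fun w => by simp [hφ]
  have h1 := hA.claim (p := g⁻¹ * p * g) (mem_centralizer_iff.2 fun a ha => by
      have e := mem_centralizer_iff.1 hp _ (conj_mem_map (g := g) ha)
      calc a * (g⁻¹ * p * g) = g⁻¹ * (g * a * g⁻¹ * p) * g := by group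
        _ = g⁻¹ * (p * (g * a * g⁻¹)) * g := by rw [e]
        _ = g⁻¹ * p * g * a := by group)
    (fun h => hpF (mem_map_conj.2 h)) (F := F.map φ)
    (by have := hF.conj g⁻¹; rwa [inv_inv] at this) (hQ.map φ)
    (by
      rintro _ ⟨w, hw, rfl⟩
      rw [mem_centralizer_singleton_iff, hφ']
      calc g⁻¹ * w * g * (g⁻¹ * p * g) = g⁻¹ * (w * p) * g := by group
        _ = g⁻¹ * p * g * (g⁻¹ * w * g) := by rw [mem_centralizer_singleton_iff.1 (hQC hw)]; group)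
    (fun a ha => ⟨g * a * g⁻¹, hF₀Q (conj_mem_map ha), by rw [hφ']; group⟩) (map_mono hFQ)
  refine ⟨fun a ha f hf => ?_, (eq_bot_iff_forall _).2 fun v hv => ?_⟩
  · have e := h1.1 _ (mem_map_conj.1 ha) _ (mem_map_of_mem φ hf)
    rw [hφ'] at e
    calc a * f = g * (g⁻¹ * a * g * (g⁻¹ * f * g)) * g⁻¹ := by group
      _ = f * a := by rw [e]; group
  · have e : g⁻¹ * v * g ∈ c.U ⊓ F.map φ := ⟨mem_map_conj.1 hv.1, hφ' v ▸ mem_map_of_mem φ hv.2⟩
    rw [h1.2, mem_bot] at e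
    rw [show v = g * (g⁻¹ * v * g) * g⁻¹ by group, e]
    group

/-- Centralising the four-group of each other is symmetric. -/
theorem CaseA.symm (hA : c.CaseA) {p₀ p : G} {F₀ F : Subgroup G} (h₀ : c.IsFour p₀ F₀) (hF : c.IsFour p F)
    (hc : ∀ f ∈ F₀, p * f = f * p) (hn : ∀ f ∈ F, p₀ * f * p₀⁻¹ ∈ F) {f : G} (hf : f ∈ F) :
    p₀ * f = f * p₀ := by
  by_cases hpF : p ∈ F₀
  · by_cases hfu : c.Fused
    · have h1 : c.IsFour p F₀ := h₀.all hfu hpF fun e => by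
        obtain ⟨g, hg, -⟩ := hF
        exact c.z1 (conj_eq_one_iff.1 (hg.trans e))
      exact hF.cent_transport hA h1 hn (fun x hx => elemAb_comm h₀.elem h₀.mem hx) hf
    · have hpp : p = p₀ := by
        obtain ⟨g, hg, -⟩ := hF
        obtain ⟨g₀, hg₀, rfl⟩ := h₀
        by_contra hne
        refine hfu (c.fused_of (g := g₀⁻¹ * g) (mem_map_conj.1 hpF) ?_ fun e => hne ?_)
        · rw [← hg]; group
        · rw [← hg₀, ← e]; group
      rw [← hpp]
      exact (mem_centralizer_singleton_iff.1 (hF.le_cent hf)).symm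
  · haveI : Fact (Nat.Prime 2) := ⟨Nat.prime_two⟩
    have hpc : p ∈ centralizer (F₀ : Set G) := mem_centralizer_iff.2 fun x hx => (hc x hx).symm
    have hP : IsPGroup 2 F₀ := Grp.elemAb_isPGroup h₀.elem
    obtain ⟨g, hg, -⟩ := id hF
    obtain ⟨F', hF', Q, hQ, hQC, hF₀Q, hF'Q⟩ := c.exists_four ⟨g, hg⟩ hP
      fun x hx => mem_centralizer_singleton_iff.2 (hc x hx).symm
    have h1 := (hA.claim_pair h₀ hpc hpF hF' hQ hQC hF₀Q hF'Q).1
    exact hF.cent_transport hA hF' hn (fun x hx => h1 p₀ h₀.mem x hx) hf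

end Hyp

end Cfsg.Agent.Transfer.NoEight
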