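import Cfsg.Agent.Lib.Transfer.NoEight.Core

/-!
# When `z` is not fused in `U`, it is isolated in the centraliser of the other involutions of `U`
-/

set_option autoImplicit false
set_option linter.unusedSectionVars false
set_option linter.style.haveILetI false

namespace Cfsg.Agent.Transfer.NoEight

open Subgroup CoreConsumers.Disc

universe u

variable {G : Type u} [Group G] [Finite G]

namespace Hyp

variable {c : Hyp G}

/-- `U = {1, z, a, z a}` for every `a ∈ U` other than `1`, `z`. -/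
theorem Ucases' (c : Hyp G) {a b : G} (ha : a ∈ c.U) (ha1 : a ≠ 1) (haz : a ≠ c.z) (hb : b ∈ c.U) :
    b = 1 ∨ b = c.z ∨ b = a ∨ b = c.z * a := c.four.cases ha ha1 haz hb

theorem fused_of (c : Hyp G) {a g : G} (ha : a ∈ c.U) (hg : g * c.z * g⁻¹ = a) (hne : a ≠ c.z) :
    c.Fused := by
  rcases c.Ucases ha with r | r | r | r
  · exact absurd (conj_eq_one_iff.1 (hg.trans r)) c.z1
  · exact absurd r hne
  · exact ⟨g, Or.inl (hg.trans r)⟩
  · exact ⟨g, Or.inr (hg.trans r)⟩

/-- An element of `U` other than `z` lies in every subgroup of index 2 of `T` when `z` is not fused. -/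
theorem mem_of_index_two (hF : ¬ c.Fused) (hT : ¬ c.S ≤ c.T0) {M : Subgroup G} (hM : M ≤ c.S)
    (hM2 : M.relIndex c.S = 2) : c.u ∈ M := by
  by_contra hu
  have hz : c.z ∈ M := by
    obtain ⟨x, hx, hx'⟩ := SetLike.not_le_iff_exists.1 hT
    haveI hn : (M.subgroupOf c.S).Normal := normal_of_index_eq_two hM2
    have hux : ∀ y : G, y ∈ c.S → y ∉ M → y * c.u ∈ M := fun y hy hy' => by
      have h := mul_mem_iff_of_index_two (H := M.subgroupOf c.S) hM2 (a := ⟨y, hy⟩) (b := ⟨c.u, c.uS⟩)
      exact h.2 (iff_of_false hy' hu)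
    have h1 : x * c.u * x⁻¹ * c.u⁻¹ ∈ M := by
      have h := mul_mem_iff_of_index_two (H := M.subgroupOf c.S) hM2
        (a := (⟨x * c.u * x⁻¹, mul_mem (mul_mem hx c.uS) (inv_mem hx)⟩ : c.S))
        (b := (⟨c.u, c.uS⟩ : c.S)⁻¹)
      refine h.2 (iff_of_false (fun hm => hu ?_) (fun hm => hu ?_))
      · have := hn.conj_mem ⟨_, _⟩ hm (⟨x, hx⟩ : c.S)⁻¹
        simpa [mem_subgroupOf, mul_assoc] using this
      · have := (M.subgroupOf c.S).inv_mem hm
        simpa [mem_subgroupOf] using this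
    rwa [c.out hx hx', mul_inv_cancel_right] at h1
  obtain ⟨g, hgM, hgS⟩ := c.extremal hM hM2 c.uS (fun g j h => by
    rw [pow_succ', pow_mul, pow_two, c.u2, one_pow, mul_one, mul_inv_cancel] at h ⊢
    exact one_mem _)
  obtain ⟨-, hU⟩ := c.normalizes_T0 (g := g) fun r hr => hgS r (c.T0_le hr) (c.mem_T0.1 hr).2
  have hgU := (mem_normalizer_iff.1 hU _).1 c.uU
  rcases c.Ucases hgU with e | e | e | e
  · exact c.u1 (conj_eq_one_iff.1 e)
  · refine hF ⟨g⁻¹, Or.inl ?_⟩
    rw [← e]; group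
  · exact hu (e ▸ hgM)
  · rw [e] at hgM
    exact hu (by simpa [← mul_assoc, c.z2] using mul_mem hz hgM)

set_option maxHeartbeats 4000000 in
/-- The heart: no element of `C(a)` moves `z` to another element of `T₀`. -/
theorem core_isolated (hF : ¬ c.Fused) {a k : G} (haU : a ∈ c.U) (ha1 : a ≠ 1) (haz : a ≠ c.z)
    (hk : k ∈ centralizer ({a} : Set G)) (hkT : k * c.z * k⁻¹ ∈ c.T0) : k * c.z * k⁻¹ = c.z := by
  classical
  haveI : Fact (Nat.Prime 2) := ⟨Nat.prime_two⟩
  have F := c.frameU hF haU ha1 haz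
  set X := centralizer ({a} : Set G) with hX
  set L := rad a c.T0 with hL
  have hcent : ∀ b ∈ c.U, b ∈ L := fun b hb =>
    F.self_centralizing (c.UleT0 hb) fun r hr => (c.T0_comm hr.1 hb).symm
  by_contra hkz
  set Γ := X ⊓ normalizer (L : Set G) with hΓ
  have hTΓ : c.T0 ≤ Γ := fun y hy => ⟨F.le hy, mem_normalizer_iff.2 fun r => ⟨fun hr => F.rad_conj hy hr,
    fun hr => by simpa [mul_assoc] using F.rad_conj (inv_mem hy) hr⟩⟩
  obtain ⟨n₀, hn₀, hn₀z⟩ : ∃ n ∈ Γ, n * c.z * n⁻¹ ≠ c.z := by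
    by_contra h
    push Not at h
    obtain ⟨o, ho, n, hn, hnN, he⟩ := F.frattini hk
    have hnz := h n ⟨hn, hnN⟩
    have e : k * c.z * k⁻¹ = o * c.z * o⁻¹ := by
      rw [he, show o * n * c.z * (o * n)⁻¹ = o * (n * c.z * n⁻¹) * o⁻¹ by group, hnz]
    have hzX : c.z ∈ X := F.le (c.UleT0 c.zU)
    have h1 : o * c.z * o⁻¹ * c.z⁻¹ ∈ oc a := by
      rw [show o * c.z * o⁻¹ * c.z⁻¹ = o * (c.z * o⁻¹ * c.z⁻¹) by group]
      exact mul_mem ho (oc_conj hzX (inv_mem ho))
    have h2 : o * c.z * o⁻¹ * c.z⁻¹ ∈ c.T0 := mul_mem (e ▸ hkT) (inv_mem (c.UleT0 c.zU))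
    obtain ⟨j, hj⟩ := F.pgroup ⟨_, h2⟩
    have h3 := oc_two h1 (congrArg Subtype.val hj)
    rw [mul_inv_eq_one] at h3
    exact hkz (e.trans h3)
  -- the orbit of `z`
  let Orb : Set G := {y | ∃ n ∈ Γ, y = n * c.z * n⁻¹}
  have hOL : ∀ y ∈ Orb, y ∈ L := by
    rintro _ ⟨n, hn, rfl⟩
    exact (mem_normalizer_iff.1 hn.2 _).1 (hcent _ c.zU)
  have hOc : ∀ y ∈ Orb, ∀ r ∈ L, y * r = r * y := by
    rintro _ ⟨n, hn, rfl⟩ r hr
    have h1 : n⁻¹ * r * n⁻¹⁻¹ ∈ L := (mem_normalizer_iff.1 (inv_mem hn.2) r).1 hr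
    have h2 := c.T0_comm h1.1 c.zU
    calc n * c.z * n⁻¹ * r = n * (c.z * (n⁻¹ * r * n⁻¹⁻¹)) * n⁻¹ := by group
      _ = n * ((n⁻¹ * r * n⁻¹⁻¹) * c.z) * n⁻¹ := by rw [h2]
      _ = r * (n * c.z * n⁻¹) := by group
  have hO2 : ∀ y ∈ Orb, y * y = 1 := by
    rintro _ ⟨n, -, rfl⟩
    rw [conj_mul, c.z2, mul_one, mul_inv_cancel]
  have hOΓ : ∀ g ∈ Γ, ∀ y ∈ Orb, g * y * g⁻¹ ∈ Orb := by
    rintro g hg _ ⟨n, hn, rfl⟩
    exact ⟨g * n, mul_mem hg hn, by group⟩
  have hzO : c.z ∈ Orb := ⟨1, one_mem _, by group⟩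
  -- the elements `y * a` are not conjugate to `z`
  have hOa : ∀ y ∈ Orb, ∀ g : G, g * c.z * g⁻¹ ≠ y * a := by
    rintro _ ⟨n, hn, rfl⟩ g hg
    refine hF (c.fused_of (g := n⁻¹ * g) (a := c.z * a) (mul_mem c.zU haU) ?_ fun e => ha1 (mul_eq_left.1 e))
    have hna : n * a = a * n := mem_centralizer_singleton_iff.1 hn.1
    calc n⁻¹ * g * c.z * (n⁻¹ * g)⁻¹ = n⁻¹ * (g * c.z * g⁻¹) * n := by group
      _ = c.z * (n⁻¹ * (a * n)) := by rw [hg]; group
      _ = c.z * a := by rw [← hna, inv_mul_cancel_left]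
  set V := closure (Orb ∪ (c.U : Set G)) with hV
  have hVT : V ≤ c.T0 := (closure_le _).2 (Set.union_subset (fun y hy => (hOL y hy).1) c.UleT0)
  have hVe : Cfsg.IsElementaryAbelian 2 V := elemAb_closure _
    (fun x hx y hy => by
      rcases hx with hx | hx <;> rcases hy with hy | hy
      · exact hOc x hx y (hOL y hy)
      · exact c.T0_comm (hOL x hx).1 hy
      · exact (c.T0_comm (hOL y hy).1 hx).symm
      · exact elemAb_comm c.four.elem hx hy)
    (fun x hx => hx.elim (hO2 x) fun hx => c.four.mul_self hx)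
  have hVn : ∀ g ∈ c.T0, ∀ y ∈ V, g * y * g⁻¹ ∈ V := fun g hg y hy => by
    induction hy using closure_induction with
    | mem x hx =>
      rcases hx with hx | hx
      · exact subset_closure (Or.inl (hOΓ g (hTΓ hg) x hx))
      · exact subset_closure (Or.inr (c.Unormal (c.T0_le hg) hx))
    | one => simp
    | mul x y _ _ ihx ihy => rw [← conj_mul]; exact mul_mem ihx ihy
    | inv x _ ih => rw [← conj_inv]; exact inv_mem ih
  have hUV : c.U ≤ V := fun b hb => subset_closure (Or.inr hb)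
  obtain ⟨w, hw⟩ : ∃ w, w = n₀ * c.z * n₀⁻¹ := ⟨_, rfl⟩
  have hwO : w ∈ Orb := ⟨n₀, hn₀, hw⟩
  have hwV : w ∈ V := subset_closure (Or.inl hwO)
  have hwU : w ∉ c.U := fun h => hF (c.fused_of h hw.symm (hw ▸ hn₀z))
  -- `T₀` is not `T`
  have hT : ¬ c.S ≤ c.T0 := fun h => hwU ((c.le_U (hVT.trans c.T0_le) hVe (fun g hg => hVn g (h hg)) hUV) ▸ hwV)
  obtain ⟨x, hxS, hx⟩ := SetLike.not_le_iff_exists.1 hT
  let f : G →* G := (MulAut.conj x).toMonoidHom
  have hf : ∀ y, f y = x * y * x⁻¹ := fun y => by simp [f]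
  set V' := V.map f with hV'
  have hV'T : V' ≤ c.T0 := by
    rintro _ ⟨y, hy, rfl⟩
    rw [hf]; exact c.T0_normal hxS (hVT hy)
  have hxx : ∀ y, f (f y) = x * x * y * (x * x)⁻¹ := fun y => by rw [hf, hf]; group
  have hffV : ∀ y ∈ V, f (f y) ∈ V := fun y hy => hxx y ▸ hVn _ (c.sq_mem hxS) y hy
  have hV'n : ∀ g ∈ c.T0, ∀ y ∈ V', g * y * g⁻¹ ∈ V' := by
    rintro g hg _ ⟨y, hy, rfl⟩
    refine ⟨x⁻¹ * g * x * y * (x⁻¹ * g * x)⁻¹, hVn _ ?_ y hy, ?_⟩
    · simpa using c.T0_normal (inv_mem hxS) hg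
    · rw [hf, hf]; group
  have hUV' : c.U ≤ V' := fun b hb => by
    refine ⟨x⁻¹ * b * x, hUV ?_, by rw [hf]; group⟩
    simpa using c.Unormal (inv_mem hxS) hb
  have hswap : ∀ g ∈ c.S, g ∉ c.T0 → ∀ y, (y ∈ V → g * y * g⁻¹ ∈ V') ∧ (y ∈ V' → g * y * g⁻¹ ∈ V) := by
    intro g hg hg' y
    have hgx : g * x ∈ c.T0 := c.out_mul hg hxS hg' hx
    have hxg : x⁻¹ * g ∈ c.T0 := c.out_mul (inv_mem hxS) hg (fun e => hx (inv_mem_iff.1 e)) hg'
    refine ⟨fun hy => ⟨_, hVn _ hxg y hy, by rw [hf]; group⟩, ?_⟩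
    rintro ⟨y, hy, rfl⟩
    have := hVn _ hgx y hy
    rw [hf]
    simpa [mul_assoc] using this
  have hinter : V ⊓ V' = c.U := by
    refine c.le_U (inf_le_left.trans (hVT.trans c.T0_le)) (Grp.elemAb_mono hVe inf_le_left) (fun g hg y hy => ?_)
      (le_inf hUV hUV')
    by_cases hgT : g ∈ c.T0
    · exact ⟨hVn g hgT y hy.1, hV'n g hgT y hy.2⟩
    · exact ⟨(hswap g hg hgT y).2 hy.2, (hswap g hg hgT y).1 hy.1⟩
  -- commutators
  have hxa : x * a * x⁻¹ = c.z * a := by
    rcases c.four.conj_cases haU ha1 haz hxS with e | e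
    · refine absurd (c.mem_T0.2 ⟨hxS, ?_⟩) hx
      exact (c.four.commute_all haU ha1 haz hxS (mul_inv_eq_iff_eq_mul.1 e) c.uU).eq
    · exact e
  have hkey : ∀ y ∈ Orb, ∀ y₂ ∈ Orb, y * f y₂ * y⁻¹ * (f y₂)⁻¹ = 1 ∨ y * f y₂ * y⁻¹ * (f y₂)⁻¹ = c.z := by
    intro y hy y₂ hy₂
    have hyV : y ∈ V := subset_closure (Or.inl hy)
    have hy'V : f y₂ ∈ V' := mem_map_of_mem f (subset_closure (Or.inl hy₂))
    set y' := f y₂ with hy'
    set k' := y * y' * y⁻¹ * y'⁻¹ with hk'
    have hyi : y⁻¹ = y := inv_eq_of_mul_eq_one_right (hO2 y hy)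
    have hkU : k' ∈ c.U := by
      rw [← hinter, hk']
      refine ⟨?_, V'.mul_mem (hV'n y (hVT hyV) _ hy'V) (V'.inv_mem hy'V)⟩
      rw [show y * y' * y⁻¹ * y'⁻¹ = y * (y' * y⁻¹ * y'⁻¹) by group]
      exact V.mul_mem hyV (hVn y' (hV'T hy'V) _ (V.inv_mem hyV))
    rcases c.Ucases' haU ha1 haz hkU with e | e | e | e
    · exact Or.inl e
    · exact Or.inr e
    · exfalso
      obtain ⟨n, hn, he⟩ := hOΓ y' (hTΓ (hV'T hy'V)) y hy
      refine hOa y hy n ?_
      rw [← he, ← e, hk']
      calc y' * y * y'⁻¹ = (y * y) * (y' * y⁻¹ * y'⁻¹) := by rw [hO2 y hy, one_mul, hyi]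
        _ = y * (y * y' * y⁻¹ * y'⁻¹) := by group
    · exfalso
      obtain ⟨n, -, hn⟩ := id hy₂
      refine hOa y₂ hy₂ (x⁻¹ * y * x * n) ?_
      have hc : y * y' * y⁻¹ = k' * y' := by rw [hk']; group
      calc x⁻¹ * y * x * n * c.z * (x⁻¹ * y * x * n)⁻¹
          = x⁻¹ * (y * (x * (n * c.z * n⁻¹) * x⁻¹) * y⁻¹) * x := by group
        _ = x⁻¹ * (k' * y') * x := by rw [← hn, ← hf, ← hy', hc]
        _ = x⁻¹ * (x * a * x⁻¹) * (x * y₂ * x⁻¹) * x := by rw [e, ← hxa, hy', hf]; group
        _ = a * y₂ := by group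
        _ = y₂ * a := (c.T0_comm (hOL y₂ hy₂).1 haU).symm
  -- `[V, V'] ≤ ⟨z⟩`
  let Com : G → G → Prop := fun p q => p * q = q * p ∨ p * q = c.z * (q * p)
  have hzT : ∀ p ∈ c.T0, p * c.z = c.z * p := fun p hp => c.T0_comm hp c.zU
  have hmul : ∀ p q r, p ∈ c.T0 → q ∈ c.T0 → r ∈ c.T0 → Com p r → Com q r → Com (p * q) r := by
    intro p q r hp hq hr h1 h2
    rcases h1 with e1 | e1 <;> rcases h2 with e2 | e2
    · left; rw [mul_assoc, e2, ← mul_assoc, e1, mul_assoc]
    · right; rw [mul_assoc, e2, ← mul_assoc p, hzT p hp, mul_assoc c.z, ← mul_assoc p, e1, mul_assoc]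
    · right; rw [mul_assoc, e2, ← mul_assoc, e1, mul_assoc, mul_assoc]
    · left
      rw [mul_assoc, e2, ← mul_assoc p, hzT p hp, mul_assoc c.z, ← mul_assoc p, e1, mul_assoc c.z (r * p),
        ← mul_assoc c.z c.z, c.z2, one_mul, mul_assoc]
  have hsymm : ∀ p q, Com p q → Com q p := fun p q h => h.elim (fun e => Or.inl e.symm) fun e => Or.inr (by
    rw [e, ← mul_assoc, c.z2, one_mul])
  have hinv : ∀ p : G, p * p = 1 → p⁻¹ = p := fun p h => inv_eq_of_mul_eq_one_right h
  have hgen : ∀ s ∈ Orb ∪ (c.U : Set G), ∀ y' ∈ V', Com s y' := by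
    intro s hs y' hy'
    obtain ⟨y₂, hy₂, rfl⟩ := hy'
    induction hy₂ using closure_induction with
    | mem t ht =>
      rcases hs with hs | hs
      · rcases ht with ht | ht
        · rcases hkey s hs t ht with e | e
          · exact Or.inl (mul_inv_eq_iff_eq_mul.1 (mul_inv_eq_one.1 e))
          · refine Or.inr ?_
            rw [← mul_assoc]
            exact mul_inv_eq_iff_eq_mul.1 (mul_inv_eq_iff_eq_mul.1 e)
        · exact Or.inl (c.T0_comm (hOL s hs).1 (by rw [hf]; exact c.Unormal hxS ht))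
      · exact Or.inl (c.T0_comm (hV'T (mem_map_of_mem f (subset_closure ht))) hs).symm
    | one => left; simp
    | mul t t' ht ht' iht iht' =>
      rw [map_mul]
      refine hsymm _ _ (hmul _ _ _ (hV'T (mem_map_of_mem f ht)) (hV'T (mem_map_of_mem f ht')) ?_
        (hsymm _ _ iht) (hsymm _ _ iht'))
      exact hs.elim (fun h => (hOL s h).1) fun h => c.UleT0 h
    | inv t ht ih => rwa [hinv t (elemAb_sq hVe ht)]
  have hCom : ∀ y ∈ V, ∀ y' ∈ V', Com y y' := by
    intro y hy y' hy'
    induction hy using closure_induction with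
    | mem s hs => exact hgen s hs y' hy'
    | one => left; simp
    | mul s t hs ht ihs iht => exact hmul _ _ _ (hVT hs) (hVT ht) (hV'T hy') ihs iht
    | inv s hs ih => rwa [hinv s (elemAb_sq hVe hs)]
  set B := V ⊔ V' with hB
  have hBT : B ≤ c.T0 := sup_le hVT hV'T
  have hV'e : Cfsg.IsElementaryAbelian 2 V' := CoreConsumers.elemAb_map _ hVe
  have hBcard : Nat.card B * 4 = Nat.card V * Nat.card V := by
    have h := Grp.card_sup_mul_card_inf (H := V) (N := V') fun g hg => mem_normalizer_iff.2 fun y =>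
      ⟨fun hy => hV'n g (hVT hg) y hy, fun hy => by simpa [mul_assoc] using hV'n g⁻¹ (inv_mem (hVT hg)) _ hy⟩
    rw [hinter, c.card_U, card_map_of_injective (MulAut.conj x).injective] at h
    exact h
  have hV8 : Nat.card V = 8 := by
    obtain ⟨j, hj⟩ := IsPGroup.iff_card.1 (c.S_isPGroup.to_le (hVT.trans c.T0_le))
    have h4 : 4 < Nat.card V := by
      rw [← c.card_U]
      by_contra h
      exact hwU ((eq_of_le_of_card_ge hUV (by omega)) ▸ hwV)
    rw [hj] at h4 ⊢
    by_contra hne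
    have hj4 : 4 ≤ j := by
      by_contra h
      interval_cases j <;> simp_all
    -- a section of rank five
    let BS : Subgroup c.S := B.subgroupOf c.S
    let Z : Subgroup BS := (zpowers c.z).comap (c.S.subtype.comp BS.subtype)
    have hmemZ : ∀ b : BS, b ∈ Z ↔ ((b : c.S) : G) = 1 ∨ ((b : c.S) : G) = c.z := fun b => by
      show ((b : c.S) : G) ∈ zpowers c.z ↔ _
      rw [mem_zpowers_iff]
      constructor
      · rintro ⟨i, hi⟩
        rcases Int.even_or_odd i with ⟨l, rfl⟩ | ⟨l, rfl⟩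
        · left; rw [← hi, zpow_add, ← (Commute.refl c.z).mul_zpow, c.z2, one_zpow]
        · right; rw [← hi, zpow_add, zpow_one, zpow_mul, zpow_two, c.z2, one_zpow, one_mul]
      · rintro (e | e)
        · exact ⟨0, by rw [e]; simp⟩
        · exact ⟨1, by rw [e]; simp⟩
    haveI hZn : Z.Normal := ⟨fun b hb g => by
      rw [hmemZ] at hb ⊢
      have e1 : (((g * b * g⁻¹ : BS) : c.S) : G) =
          ((g : c.S) : G) * ((b : c.S) : G) * ((g : c.S) : G)⁻¹ := rfl
      rcases hb with e | e <;> rw [e1, e]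
      · left; rw [mul_one, mul_inv_cancel]
      · right; rw [c.zc (g : c.S).2, mul_inv_cancel_right]⟩
    have hBcm : ∀ p ∈ B, (∀ q ∈ B, Com p q) ∧ (p * p = 1 ∨ p * p = c.z) := by
      intro p hp
      have hp' := hp
      rw [hB, sup_eq_closure] at hp'
      constructor
      · intro q hq
        have hq' := hq
        rw [hB, sup_eq_closure] at hq'
        have hstep : ∀ s ∈ (V : Set G) ∪ V', Com s q := by
          intro s hs
          clear hq
          induction hq' using closure_induction with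
          | mem t ht =>
            rcases hs with hs | hs <;> rcases ht with ht | ht
            · exact Or.inl (elemAb_comm hVe hs ht)
            · exact hCom s hs t ht
            · exact hsymm _ _ (hCom t ht s hs)
            · exact Or.inl (elemAb_comm hV'e hs ht)
          | one => left; simp
          | mul t t' ht ht' iht iht' =>
            rw [← sup_eq_closure] at ht ht'
            exact hsymm _ _ (hmul _ _ _ (hBT ht) (hBT ht') (hs.elim (fun h => hVT h) fun h => hV'T h)
              (hsymm _ _ iht) (hsymm _ _ iht'))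
          | inv t ht ih =>
            rcases ih with e | e
            · left; exact (show Commute s t from e).inv_right.eq
            · right
              rw [← sup_eq_closure] at ht
              calc s * t⁻¹ = t⁻¹ * (t * s) * t⁻¹ := by group
                _ = t⁻¹ * (c.z * (s * t)) * t⁻¹ := by rw [e, ← mul_assoc c.z c.z, c.z2, one_mul]
                _ = (t⁻¹ * c.z) * s := by group
                _ = c.z * (t⁻¹ * s) := by rw [hzT _ (inv_mem (hBT ht)), mul_assoc]
        clear hp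
        induction hp' using closure_induction with
        | mem s hs => exact hstep s hs
        | one => left; simp
        | mul s t hs ht ihs iht =>
          rw [← sup_eq_closure] at hs ht
          exact hmul _ _ _ (hBT hs) (hBT ht) (hBT hq) ihs iht
        | inv s hs ih =>
          rcases ih with e | e
          · left; exact (show Commute s q from e).inv_left.eq
          · right
            rw [← sup_eq_closure] at hs
            calc s⁻¹ * q = s⁻¹ * (q * s) * s⁻¹ := by group
              _ = s⁻¹ * (c.z * (s * q)) * s⁻¹ := by rw [e, ← mul_assoc c.z c.z, c.z2, one_mul]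
              _ = (s⁻¹ * c.z * s) * (q * s⁻¹) := by group
              _ = c.z * (q * s⁻¹) := by rw [hzT _ (inv_mem (hBT hs)), inv_mul_cancel_right]
      · have hCB : ∀ s t, s ∈ B → t ∈ B → Com s t := by
          intro s t hs ht
          have hs' := hs
          rw [hB, sup_eq_closure] at hs'
          have ht' := ht
          rw [hB, sup_eq_closure] at ht'
          clear hp hp' hs ht
          induction hs' using closure_induction with
          | mem s hs =>
            induction ht' using closure_induction with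
            | mem t ht =>
              rcases hs with hs | hs <;> rcases ht with ht | ht
              · exact Or.inl (elemAb_comm hVe hs ht)
              · exact hCom s hs t ht
              · exact hsymm _ _ (hCom t ht s hs)
              · exact Or.inl (elemAb_comm hV'e hs ht)
            | one => left; simp
            | mul t t' ht ht' iht iht' =>
              rw [← sup_eq_closure] at ht ht'
              exact hsymm _ _ (hmul _ _ _ (hBT ht) (hBT ht') (hs.elim (fun h => hVT h) fun h => hV'T h)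
                (hsymm _ _ iht) (hsymm _ _ iht'))
            | inv t ht ih =>
              rw [← sup_eq_closure] at ht
              rcases ih with e | e
              · left; exact (show Commute s t from e).inv_right.eq
              · right
                calc s * t⁻¹ = t⁻¹ * (t * s) * t⁻¹ := by group
                  _ = t⁻¹ * (c.z * (s * t)) * t⁻¹ := by rw [e, ← mul_assoc c.z c.z, c.z2, one_mul]
                  _ = (t⁻¹ * c.z) * s := by group
                  _ = c.z * (t⁻¹ * s) := by rw [hzT _ (inv_mem (hBT ht)), mul_assoc]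
          | one => left; simp
          | mul s t₁ hs ht₁ ihs iht =>
            rw [← sup_eq_closure] at hs ht₁ ht'
            exact hmul _ _ _ (hBT hs) (hBT ht₁) (hBT ht') ihs iht
          | inv s hs ih =>
            rw [← sup_eq_closure] at hs
            rcases ih with e | e
            · left; exact (show Commute s t from e).inv_left.eq
            · right
              calc s⁻¹ * t = s⁻¹ * (t * s) * s⁻¹ := by group
                _ = s⁻¹ * (c.z * (s * t)) * s⁻¹ := by rw [e, ← mul_assoc c.z c.z, c.z2, one_mul]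
                _ = (s⁻¹ * c.z * s) * (t * s⁻¹) := by group
                _ = c.z * (t * s⁻¹) := by rw [hzT _ (inv_mem (hBT hs)), inv_mul_cancel_right]
        clear hp
        induction hp' using closure_induction with
        | mem s hs => exact Or.inl (hs.elim (fun h => elemAb_sq hVe h) fun h => elemAb_sq hV'e h)
        | one => exact Or.inl (one_mul 1)
        | mul s t hs ht ihs iht =>
          rw [← sup_eq_closure] at hs ht
          have hzs : ∀ q ∈ B, q * c.z = c.z * q := fun q hq => hzT q (hBT hq)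
          have hzz : ∀ q : G, (q = 1 ∨ q = c.z) → ∀ q' : G, (q' = 1 ∨ q' = c.z) → q * q' = 1 ∨ q * q' = c.z := by
            rintro q (rfl | rfl) q' (rfl | rfl)
            exacts [Or.inl (one_mul 1), Or.inr (one_mul _), Or.inr (mul_one _), Or.inl c.z2]
          have hss : ∀ q : G, (q = 1 ∨ q = c.z) → ∀ v ∈ B, v * q = q * v := by
            rintro q (rfl | rfl) v hv
            · simp
            · exact hzs v hv
          rcases hCB t s ht hs with e | e
          · rw [show s * t * (s * t) = s * (t * s) * t by group, e,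
              show s * (s * t) * t = (s * s) * (t * t) by group]
            exact hzz _ ihs _ iht
          · rw [show s * t * (s * t) = s * (t * s) * t by group, e, ← mul_assoc s c.z, hzs s hs,
              show c.z * s * (s * t) * t = c.z * ((s * s) * (t * t)) by group]
            exact hzz _ (Or.inr rfl) _ (hzz _ ihs _ iht)
        | inv s hs ih =>
          rw [show s⁻¹ * s⁻¹ = (s * s)⁻¹ by group]
          rcases ih with e | e <;> rw [e]
          · left; simp
          · right; exact c.zi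
    let π := QuotientGroup.mk' Z
    have hsec := c.sectional BS Z ⊤ ⟨⟨fun p q => by
      obtain ⟨p, -⟩ := p
      obtain ⟨q, -⟩ := q
      refine Subtype.ext ?_
      obtain ⟨p, rfl⟩ := QuotientGroup.mk'_surjective Z p
      obtain ⟨q, rfl⟩ := QuotientGroup.mk'_surjective Z q
      show π p * π q = π q * π p
      rw [← map_mul, ← map_mul]
      refine QuotientGroup.eq.2 ?_
      rw [hmemZ]
      obtain ⟨p', hp'⟩ : ∃ p' : G, p' = ((p : c.S) : G) := ⟨_, rfl⟩
      obtain ⟨q', hq'⟩ : ∃ q' : G, q' = ((q : c.S) : G) := ⟨_, rfl⟩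
      have e0 : ((((p * q)⁻¹ * (q * p) : BS) : c.S) : G) = (p' * q')⁻¹ * (q' * p') := by rw [hp', hq']; rfl
      have hpB : p' ∈ B := hp' ▸ p.2
      have hqB : q' ∈ B := hq' ▸ q.2
      rw [e0]
      rcases (hBcm _ hqB).1 _ hpB with e | e <;> rw [e]
      · left; exact inv_mul_cancel _
      · right
        rw [← mul_assoc, hzT _ (inv_mem (hBT (mul_mem hpB hqB))), inv_mul_cancel_right]⟩⟩
      (fun p _ => by
        obtain ⟨p, rfl⟩ := QuotientGroup.mk'_surjective Z p
        rw [← map_pow, QuotientGroup.mk'_apply, QuotientGroup.eq_one_iff, hmemZ]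
        simpa [pow_two] using (hBcm _ p.2).2)
    rw [card_top] at hsec
    have h2 : Nat.card BS = Nat.card (↥BS ⧸ Z) * Nat.card Z := card_eq_card_quotient_mul_card_subgroup Z
    have hBS : Nat.card BS = Nat.card B := Nat.card_congr (subgroupOfEquivOfLe (hBT.trans c.T0_le)).toEquiv
    have hZ : Nat.card Z ≤ 2 := by
      have : Nat.card (zpowers c.z) = 2 := by rw [Nat.card_zpowers, c.four.ord]
      rw [← this]
      refine Nat.card_le_card_of_injective (fun b => ⟨((b : BS) : c.S), b.2⟩) fun b b' e => ?_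
      exact Subtype.ext (Subtype.ext (Subtype.ext (congrArg (fun v : zpowers c.z => (v : G)) e)))
    have h3 : Nat.card B ≤ 32 := by
      rw [← hBS, h2]
      calc Nat.card (↥BS ⧸ Z) * Nat.card Z ≤ 16 * 2 := Nat.mul_le_mul (by simpa using hsec) hZ
        _ = 32 := rfl
    rw [hj] at hBcard
    have h4' := Nat.pow_le_pow_right two_pos hj4
    have h5 := Nat.mul_le_mul h4' h4'
    omega
  -- `|V| = 8`
  have hVw : ∀ y ∈ V, y ∈ c.U ∨ w * y ∈ c.U := by
    intro y hy
    by_contra h
    push Not at h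
    have hcl : closure ((c.U : Set G) ∪ {w}) = V := by
      refine eq_of_le_of_card_ge ((closure_le _).2 (Set.union_subset hUV (Set.singleton_subset_iff.2 hwV))) ?_
      rw [hV8]
      obtain ⟨j, hj⟩ := IsPGroup.iff_card.1 (c.S_isPGroup.to_le (show closure ((c.U : Set G) ∪ {w}) ≤ c.S from
        (closure_le _).2 (Set.union_subset c.UleS (Set.singleton_subset_iff.2 (c.T0_le (hVT hwV))))))
      rw [hj]
      by_contra hlt
      have : j ≤ 2 := by
        by_contra hj3
        exact hlt (le_trans (by norm_num) (Nat.pow_le_pow_right two_pos (show 3 ≤ j by omega)))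
      refine hwU ((eq_of_le_of_card_ge (fun b hb => subset_closure (Or.inl hb)) (H := c.U)
        (K := closure ((c.U : Set G) ∪ {w})) ?_) ▸ subset_closure (Or.inr rfl))
      rw [hj, c.card_U]
      exact le_trans (Nat.pow_le_pow_right two_pos this) (by norm_num)
    rw [← hcl] at hy
    suffices y ∈ c.U ∨ w * y ∈ c.U by rcases this with e | e; exacts [h.1 e, h.2 e]
    clear h
    induction hy using closure_induction with
    | mem s hs =>
      rcases hs with hs | hs
      · exact Or.inl hs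
      · right; rw [Set.mem_singleton_iff.1 hs, hO2 w hwO]; exact one_mem _
    | one => exact Or.inl (one_mem _)
    | mul s t hs ht ihs iht =>
      rw [hcl] at hs ht
      have hsw : s * w = w * s := elemAb_comm hVe hs hwV
      rcases ihs with hs' | hs' <;> rcases iht with ht' | ht'
      · exact Or.inl (mul_mem hs' ht')
      · right; rw [← mul_assoc, ← hsw, mul_assoc]; exact mul_mem hs' ht'
      · right; rw [← mul_assoc]; exact mul_mem hs' ht'
      · left
        have e : s * t = w * s * (w * t) := by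
          rw [← hsw, mul_assoc, ← mul_assoc w, hO2 w hwO, one_mul]
        rw [e]; exact mul_mem hs' ht'
    | inv s hs ih =>
      rw [hcl] at hs
      rwa [hinv s (elemAb_sq hVe hs)]
  obtain ⟨w', hw'⟩ : ∃ w', w' = f w := ⟨_, rfl⟩
  have hw'V : w' ∈ V' := by rw [hw']; exact mem_map_of_mem f hwV
  have hw'2 : w' * w' = 1 := elemAb_sq hV'e hw'V
  have hww' : w * w' = c.z * (w' * w) := by
    refine (hCom w hwV w' hw'V).resolve_left fun e => ?_
    have hVV' : ∀ p ∈ V, ∀ q ∈ V', p * q = q * p := by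
      rintro p hp _ ⟨q, hq, rfl⟩
      have hU1 : ∀ b ∈ c.U, ∀ r ∈ c.T0, r * b = b * r := fun b hb r hr => c.T0_comm hr hb
      have hpq : ∀ r, (r ∈ V → ∃ b ∈ c.U, r = b ∨ r = w * b) := fun r hr => by
        rcases hVw r hr with h | h
        · exact ⟨r, h, Or.inl rfl⟩
        · exact ⟨w * r, h, Or.inr (by rw [← mul_assoc, hO2 w hwO, one_mul])⟩
      obtain ⟨b, hb, hp'⟩ := hpq p hp
      obtain ⟨b', hb', hq'⟩ := hpq q hq
      have hfb : f b' ∈ c.U := by rw [hf]; exact c.Unormal hxS hb'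
      rcases hp' with rfl | rfl
      · exact (hU1 _ hb _ (hV'T (mem_map_of_mem f hq))).symm
      rcases hq' with rfl | rfl
      · exact hU1 _ hfb _ (hVT hp)
      · rw [map_mul, ← hw']
        have h1 : Commute w (f b') := hU1 _ hfb _ (hVT hwV)
        have h2 : Commute w' b := hU1 _ hb _ (hV'T hw'V)
        have h3 : Commute b (f b') := elemAb_comm c.four.elem hb hfb
        exact ((show Commute w w' from e).mul_right h1 |>.mul_left ((h2.symm).mul_right h3)).eq
    have hBe : Cfsg.IsElementaryAbelian 2 (closure ((V : Set G) ∪ V')) := elemAb_closure _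
      (fun p hp q hq => by
        rcases hp with hp | hp <;> rcases hq with hq | hq
        · exact elemAb_comm hVe hp hq
        · exact hVV' p hp q hq
        · exact (hVV' q hq p hp).symm
        · exact elemAb_comm hV'e hp hq)
      (fun p hp => hp.elim (fun h => elemAb_sq hVe h) fun h => elemAb_sq hV'e h)
    refine hwU ((c.le_U ((closure_le _).2 (Set.union_subset (hVT.trans c.T0_le) (hV'T.trans c.T0_le))) hBe
      (fun g hg y hy => ?_) (fun b hb => subset_closure (Or.inl (hUV hb)))) ▸ subset_closure (Or.inl hwV))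
    induction hy using closure_induction with
    | mem s hs =>
      by_cases hgT : g ∈ c.T0
      · exact subset_closure (hs.elim (fun h => Or.inl (hVn g hgT s h)) fun h => Or.inr (hV'n g hgT s h))
      · exact subset_closure (hs.elim (fun h => Or.inr ((hswap g hg hgT s).1 h))
          fun h => Or.inl ((hswap g hg hgT s).2 h))
    | one => simp
    | mul p q _ _ ihp ihq => rw [← conj_mul]; exact mul_mem ihp ihq
    | inv p _ ih => rw [← conj_inv]; exact inv_mem ih
  have hwconj : ∀ y ∈ c.T0, y * w * y⁻¹ = w ∨ y * w * y⁻¹ = c.z * w := by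
    intro y hy
    have hO : y * w * y⁻¹ ∈ Orb := hOΓ y (hTΓ hy) w hwO
    have hV1 : y * w * y⁻¹ ∈ V := hVn y hy w hwV
    have hwz : c.z * w ∈ Orb := by
      have h := hOΓ w' (hTΓ (hV'T hw'V)) w hwO
      rwa [show w' * w * w'⁻¹ = c.z * w by
        rw [mul_inv_eq_iff_eq_mul]
        calc w' * w = c.z * (c.z * (w' * w)) := by rw [← mul_assoc c.z c.z, c.z2, one_mul]
          _ = c.z * w * w' := by rw [← hww', mul_assoc]] at h
    have hcom : ∀ b ∈ c.U, w * b = b * w := fun b hb => c.T0_comm (hVT hwV) hb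
    rcases hVw _ hV1 with h | h
    · exfalso
      obtain ⟨n, -, hn⟩ := hO
      have h1 : y * w * y⁻¹ = c.z := by
        by_contra hne
        exact hF (c.fused_of h hn.symm hne)
      refine hwU ?_
      rw [show w = y⁻¹ * (y * w * y⁻¹) * y by group, h1]
      simpa using c.Unormal (inv_mem (c.T0_le hy)) c.zU
    · set b := w * (y * w * y⁻¹) with hb
      have e : y * w * y⁻¹ = w * b := by rw [hb, ← mul_assoc, hO2 w hwO, one_mul]
      obtain ⟨n, hn, hne⟩ := hO
      rcases c.Ucases' haU ha1 haz h with r | r | r | r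
      · left; rw [e, r, mul_one]
      · right; rw [e, r]; exact hcom _ c.zU
      · exfalso; exact hOa w hwO n (by rw [← hne, e, r])
      · exfalso
        refine hOa _ hwz n ?_
        rw [← hne, e, r, ← mul_assoc, hcom _ c.zU]
  have hw'conj : ∀ y ∈ c.T0, y * w' * y⁻¹ = w' ∨ y * w' * y⁻¹ = c.z * w' := by
    intro y hy
    have hy' : x⁻¹ * y * x ∈ c.T0 := by simpa using c.T0_normal (inv_mem hxS) hy
    have e : y * w' * y⁻¹ = x * (x⁻¹ * y * x * w * (x⁻¹ * y * x)⁻¹) * x⁻¹ := by rw [hw', hf]; group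
    rcases hwconj _ hy' with r | r <;> rw [e, r]
    · left; rw [hw', hf]
    · right; rw [hw', hf, ← conj_mul, c.zc hxS, mul_inv_cancel_right]
  set C := c.T0 ⊓ centralizer ({w} : Set G) ⊓ centralizer ({w'} : Set G) with hC
  have hmemC : ∀ y, y ∈ C ↔ y ∈ c.T0 ∧ y * w = w * y ∧ y * w' = w' * y := fun y => by
    simp only [hC, mem_inf, mem_centralizer_singleton_iff, and_assoc]
  have hw'T := hV'T hw'V
  have hwT := hVT hwV
  have hw'w : w' * w * w'⁻¹ = c.z * w := by
    rw [mul_inv_eq_iff_eq_mul]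
    calc w' * w = c.z * (c.z * (w' * w)) := by rw [← mul_assoc c.z c.z, c.z2, one_mul]
      _ = c.z * w * w' := by rw [← hww', mul_assoc]
  -- decomposition of `T₀`
  have hdec : ∀ y ∈ c.T0, ∃ d ∈ ({1, w, w', w' * w} : Set G), d⁻¹ * y ∈ C := by
    intro y hy
    obtain ⟨d₁, hd₁, hd₁c⟩ : ∃ d₁ ∈ ({1, w'} : Set G), d₁⁻¹ * y * w = w * (d₁⁻¹ * y) := by
      rcases hwconj y hy with e | e
      · exact ⟨1, Or.inl rfl, by simpa using mul_inv_eq_iff_eq_mul.1 e⟩
      · refine ⟨w', Or.inr rfl, mul_inv_eq_iff_eq_mul.1 ?_⟩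
        rw [show w'⁻¹ * y * w * (w'⁻¹ * y)⁻¹ = w'⁻¹ * (y * w * y⁻¹) * w' by group, e, ← hw'w]
        group
    have hy₁ : d₁⁻¹ * y ∈ c.T0 := by
      rcases hd₁ with rfl | rfl
      · simpa using hy
      · exact mul_mem (inv_mem hw'T) hy
    rcases hw'conj _ hy₁ with e | e
    · exact ⟨d₁, hd₁.elim (fun h => Or.inl h) (fun h => Or.inr (Or.inr (Or.inl h))),
        (hmemC _).2 ⟨hy₁, hd₁c, mul_inv_eq_iff_eq_mul.1 e⟩⟩
    · refine ⟨d₁ * w, ?_, ?_⟩
      · rcases hd₁ with rfl | rfl
        · simp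
        · right; right; right; rfl
      · rw [mul_inv_rev, mul_assoc, hinv w (hO2 w hwO)]
        refine (hmemC _).2 ⟨mul_mem hwT hy₁, by rw [mul_assoc, hd₁c], mul_inv_eq_iff_eq_mul.1 ?_⟩
        rw [show w * (d₁⁻¹ * y) * w' * (w * (d₁⁻¹ * y))⁻¹ = w * (d₁⁻¹ * y * w' * (d₁⁻¹ * y)⁻¹) * w⁻¹ by group,
          e, ← mul_assoc w, hzT w hwT, mul_assoc c.z w, hww', ← mul_assoc c.z c.z, c.z2, one_mul,
          mul_inv_cancel_right]
  set P := c.T0 ⊓ centralizer (V : Set G) with hP
  have hPmem : ∀ y, y ∈ P ↔ y ∈ c.T0 ∧ y * w = w * y := fun y => by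
    constructor
    · intro hy
      exact ⟨hy.1, (mem_centralizer_iff.1 hy.2 w hwV).symm⟩
    · rintro ⟨hy, hyw⟩
      refine ⟨hy, mem_centralizer_iff.2 fun v hv => ?_⟩
      rcases hVw v hv with h | h
      · exact (c.T0_comm hy h).symm
      · have e : v = w * (w * v) := by rw [← mul_assoc, hO2 w hwO, one_mul]
        rw [e, mul_assoc w, ← c.T0_comm hy h, ← mul_assoc, ← hyw, mul_assoc]
  -- an element normalising `P` moves `z` like `n₀`
  obtain ⟨m, hmP, hmz⟩ : ∃ m, (∀ y ∈ P, m * y * m⁻¹ ∈ P) ∧ m * c.z * m⁻¹ = w := by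
    have hΓV : ∀ g ∈ Γ, ∀ v ∈ V, g * v * g⁻¹ ∈ V := fun g hg v hv => by
      induction hv using closure_induction with
      | mem s hs =>
        rcases hs with hs | hs
        · exact subset_closure (Or.inl (hOΓ g hg s hs))
        · have ha' : g * a * g⁻¹ = a := by rw [mem_centralizer_singleton_iff.1 hg.1, mul_inv_cancel_right]
          have hz' : g * c.z * g⁻¹ ∈ V := subset_closure (Or.inl (hOΓ g hg _ hzO))
          rcases c.Ucases' haU ha1 haz hs with e | e | e | e <;> subst e
          · simp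
          · exact hz'
          · rw [ha']; exact hUV haU
          · rw [← conj_mul, ha']; exact mul_mem hz' (hUV haU)
      | one => simp
      | mul p q _ _ ihp ihq => rw [← conj_mul]; exact mul_mem ihp ihq
      | inv p _ ih => rw [← conj_inv]; exact inv_mem ih
    let K : Subgroup Γ := (centralizer (V : Set G)).subgroupOf Γ
    haveI hKn : K.Normal := ⟨fun k' hk' g => by
      refine mem_centralizer_iff.2 fun v hv => ?_
      have h1 : (g : G)⁻¹ * v * (g : G) * (k' : G) = (k' : G) * ((g : G)⁻¹ * v * (g : G)) := by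
        have h := mem_centralizer_iff.1 hk' _ (hΓV _ (inv_mem g.2) v hv)
        rwa [inv_inv] at h
      show v * ((g : G) * k' * (g : G)⁻¹) = (g : G) * k' * (g : G)⁻¹ * v
      calc v * ((g : G) * k' * (g : G)⁻¹) = g * ((g : G)⁻¹ * v * g * k') * (g : G)⁻¹ := by group
        _ = g * (k' * ((g : G)⁻¹ * v * g)) * (g : G)⁻¹ := by rw [h1]
        _ = _ := by group⟩
    let Q : Sylow 2 Γ := ⟨c.T0.subgroupOf Γ, F.pgroup.of_equiv (subgroupOfEquivOfLe hTΓ).symm,
      fun {Q} hQ hle => by
        have h := F.full (Q.map Γ.subtype) (fun y hy => ⟨⟨y, hTΓ hy⟩, hle hy, rfl⟩)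
          ((map_subtype_le Q).trans inf_le_left) (hQ.map _)
        conv_rhs => rw [← h]
        rw [subgroupOf, comap_map_eq_self_of_injective Γ.subtype_injective]⟩
    let PK : Sylow 2 K := (Q.isPGroup'.comap_subtype (K := K)).toSylow (Grp.sylow_inf_normal_relIndex Q K)
    have hsup := Sylow.normalizer_sup_eq_top PK
    obtain ⟨m, hm, k', hk', he⟩ := mem_sup_of_normal_right.1 (hsup.ge (mem_top (⟨n₀, hn₀⟩ : Γ)))
    refine ⟨m, fun y hy => ?_, ?_⟩
    · have hyK : (⟨y, hTΓ hy.1⟩ : Γ) ∈ K := hy.2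
      have h1 : (⟨y, hTΓ hy.1⟩ : Γ) ∈ (PK : Subgroup K).map K.subtype := ⟨⟨_, hyK⟩, hy.1, rfl⟩
      obtain ⟨⟨r, hrK⟩, hrQ, hre⟩ := (mem_normalizer_iff.1 hm _).1 h1
      have e : (r : G) = (m : G) * y * (m : G)⁻¹ := congrArg Subtype.val hre
      rw [← e]
      exact ⟨hrQ, hrK⟩
    · have e : n₀ = (m : G) * (k' : G) := (congrArg Subtype.val he).symm
      have hkz' : (k' : G) * c.z = c.z * (k' : G) := (mem_centralizer_iff.1 hk' _ (hUV c.zU)).symm
      rw [hw, e, mul_inv_rev, show (m : G) * (k' : G) * c.z * ((k' : G)⁻¹ * (m : G)⁻¹)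
        = (m : G) * ((k' : G) * c.z) * ((k' : G)⁻¹ * (m : G)⁻¹) by group, hkz']
      group
  have hCP : C ≤ P := fun y hy => (hPmem y).2 ⟨((hmemC y).1 hy).1, ((hmemC y).1 hy).2.1⟩
  have hCw : ∀ y ∈ P, y ∈ C ∨ w * y ∈ C := by
    intro y hy
    obtain ⟨hyT, hyw⟩ := (hPmem y).1 hy
    obtain ⟨d, hd, hdy⟩ := hdec y hyT
    have hdw : d * w = w * d := by
      have h1 := ((hmemC _).1 hdy).2.1
      have h3 : d * (d⁻¹ * y * w) = d * (w * (d⁻¹ * y)) := by rw [h1]
      rw [show d * (d⁻¹ * y * w) = y * w by group, hyw, show d * (w * (d⁻¹ * y)) = d * w * d⁻¹ * y by group] at h3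
      exact mul_inv_eq_iff_eq_mul.1 (mul_right_cancel h3).symm
    have hno : w' * w ≠ w * w' := fun e => c.z1 (by
      rw [← e] at hww'
      exact mul_eq_right.1 hww'.symm)
    rcases hd with e | e | e | e <;> rw [e] at hdy hdw
    · left; simpa using hdy
    · right; rwa [hinv w (hO2 w hwO)] at hdy
    · exact absurd hdw hno
    · exact absurd (mul_right_cancel (show w' * w * w = w * w' * w by rw [hdw, mul_assoc])) hno
  have hCsq : ∀ y ∈ P, y * y ∈ C := by
    intro y hy
    rcases hCw y hy with h | h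
    · exact mul_mem h h
    · have hcy : w * y = y * w := ((hPmem y).1 hy).2.symm
      have e : y * y = w * y * (w * y) := by
        rw [show w * y * (w * y) = w * (y * w) * y by group, ← hcy, show w * (w * y) * y = (w * w) * (y * y) by group,
          hO2 w hwO, one_mul]
      rw [e]; exact mul_mem h h
  have hCU : ∀ y ∈ C, y * y = 1 := by
    intro y hy
    by_contra hne
    let K : Subgroup G := closure {q | ∃ r ∈ P, r * r = q}
    have hKC : K ≤ C := (closure_le _).2 (by rintro _ ⟨r, hr, rfl⟩; exact hCsq r hr)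
    have hxC : ∀ g ∈ c.S, ∀ r ∈ C, g * r * g⁻¹ ∈ C := by
      have hT : ∀ g ∈ c.T0, ∀ r ∈ C, g * r * g⁻¹ ∈ C := by
        intro g hg r hr
        obtain ⟨hrT, hr1, hr2⟩ := (hmemC r).1 hr
        refine (hmemC _).2 ⟨mul_mem (mul_mem hg hrT) (inv_mem hg), ?_, ?_⟩
        · have hw1 := hwconj g⁻¹ (inv_mem hg)
          rw [inv_inv] at hw1
          have h2 : r * (g⁻¹ * w * g) = g⁻¹ * w * g * r := by
            rcases hw1 with q | q <;> rw [q]
            · exact hr1
            · rw [← mul_assoc, hzT r hrT, mul_assoc, hr1, mul_assoc]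
          calc g * r * g⁻¹ * w = g * (r * (g⁻¹ * w * g)) * g⁻¹ := by group
            _ = g * (g⁻¹ * w * g * r) * g⁻¹ := by rw [h2]
            _ = w * (g * r * g⁻¹) := by group
        · have hw1 := hw'conj g⁻¹ (inv_mem hg)
          rw [inv_inv] at hw1
          have h2 : r * (g⁻¹ * w' * g) = g⁻¹ * w' * g * r := by
            rcases hw1 with q | q <;> rw [q]
            · exact hr2
            · rw [← mul_assoc, hzT r hrT, mul_assoc, hr2, mul_assoc]
          calc g * r * g⁻¹ * w' = g * (r * (g⁻¹ * w' * g)) * g⁻¹ := by group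
            _ = g * (g⁻¹ * w' * g * r) * g⁻¹ := by rw [h2]
            _ = w' * (g * r * g⁻¹) := by group
      have hx' : ∀ r ∈ C, x * r * x⁻¹ ∈ C := by
        intro r hr
        obtain ⟨hrT, hr1, hr2⟩ := (hmemC r).1 hr
        have hcf : ∀ p, r * p = p * r → f r * f p = f p * f r := fun p h => by rw [← map_mul, h, map_mul]
        refine (hmemC _).2 ⟨c.T0_normal hxS hrT, ?_, ?_⟩
        · have h1 := hcf _ hr2
          rw [hf r, hw', hxx] at h1
          rcases hwconj _ (c.sq_mem hxS) with q | q <;> rw [q] at h1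
          · exact h1
          · rw [← mul_assoc, hzT _ (c.T0_normal hxS hrT), mul_assoc, mul_assoc c.z] at h1
            exact mul_left_cancel h1
        · have h1 := hcf _ hr1
          rwa [hf r, ← hw'] at h1
      intro g hg r hr
      by_cases hgT : g ∈ c.T0
      · exact hT g hgT r hr
      · have := hT _ (c.out_mul hg (inv_mem hxS) hgT fun e => hx (inv_mem_iff.1 e)) _ (hx' r hr)
        simpa [mul_assoc] using this
    let KC : Subgroup G := closure {q | ∃ r ∈ C, r * r = q}
    have hKK : KC ≤ K := closure_mono fun q ⟨r, hr, e⟩ => ⟨r, hCP hr, e⟩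
    haveI hKn : (KC.subgroupOf c.S).Normal := ⟨fun k' hk' g => by
      suffices ∀ q ∈ KC, (g : G) * q * (g : G)⁻¹ ∈ KC from this _ hk'
      intro q hq
      induction hq using closure_induction with
      | mem q hq =>
        obtain ⟨r, hr, rfl⟩ := hq
        exact subset_closure ⟨_, hxC g g.2 r hr, by rw [conj_mul]⟩
      | one => simp
      | mul p q _ _ ihp ihq => rw [← conj_mul]; exact mul_mem ihp ihq
      | inv p _ ih => rw [← conj_inv]; exact inv_mem ih⟩
    have hKS : KC ≤ c.S := hKK.trans (hKC.trans (inf_le_left.trans inf_le_left |>.trans c.T0_le))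
    haveI := c.S_isPGroup.isNilpotent
    obtain ⟨t, ⟨htK, htc⟩, ht1⟩ := (Subgroup.bot_or_exists_ne_one (KC.subgroupOf c.S ⊓ center c.S)).resolve_left
      (Grp.inf_center_ne_bot (KC.subgroupOf c.S) fun e => hne (by
        have hm : y * y ∈ KC := subset_closure ⟨y, hy, rfl⟩
        have hm' : (⟨y * y, hKS hm⟩ : c.S) ∈ KC.subgroupOf c.S := hm
        rw [e, mem_bot] at hm'
        exact congrArg (fun q : c.S => (q : G)) hm'))
    obtain ⟨i, hi⟩ := (IsPGroup.iff_orderOf.1 c.S_isPGroup) t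
    obtain ⟨l, rfl⟩ : ∃ l, i = l + 1 := ⟨i - 1, by
      rcases i with _ | i
      · exact absurd (orderOf_eq_one_iff.1 hi) ht1
      · rfl⟩
    set s := t ^ 2 ^ l with hs
    have hs1 : s ≠ 1 := fun e => by
      have := orderOf_dvd_of_pow_eq_one e
      rw [hi] at this
      exact absurd (Nat.le_of_dvd (by positivity) this) (by rw [pow_succ]; have := Nat.two_pow_pos l; omega)
    have hs2 : s * s = 1 := by rw [hs, ← pow_add, ← two_mul, ← pow_succ', ← hi, pow_orderOf_eq_one]
    have hsz : (s : G) = c.z := c.central_eq_z s.2 (congrArg Subtype.val hs2) (fun e => hs1 (Subtype.ext e))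
      (fun g hg => congrArg Subtype.val (mem_center_iff.1 ((center _).pow_mem htc _) (⟨g, hg⟩ : c.S))) hT
    have hzK : c.z ∈ K := by
      rw [← hsz]
      exact hKK ((KC.subgroupOf c.S).pow_mem htK _)
    have hwK : w ∈ K := by
      have hmK : ∀ q ∈ K, m * q * m⁻¹ ∈ K := fun q hq => by
        induction hq using closure_induction with
        | mem q hq =>
          obtain ⟨r, hr, rfl⟩ := hq
          exact subset_closure ⟨_, hmP r hr, by rw [conj_mul]⟩
        | one => simp
        | mul p q _ _ ihp ihq => rw [← conj_mul]; exact mul_mem ihp ihq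
        | inv p _ ih => rw [← conj_inv]; exact inv_mem ih
      rw [← hmz]; exact hmK _ hzK
    have h1 := ((hmemC w).1 (hKC hwK)).2.2
    exact c.z1 (by rw [← h1] at hww'; exact mul_eq_right.1 hww'.symm)
  -- `C = U`
  have hCleU : ∀ y ∈ C, y ∈ c.U := fun y hy => by
    obtain ⟨hyT, hy1, hy2⟩ := (hmemC y).1 hy
    refine c.omega_T0 hyT (hCU y hy) fun g hg => ?_
    obtain ⟨d, hd, hdg⟩ := hdec g hg
    have hyC : ∀ r ∈ C, r * y = y * r := fun r hr => by
      have h3 := hinv (r * y) (hCU _ (mul_mem hr hy))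
      rw [mul_inv_rev, hinv y (hCU y hy), hinv r (hCU r hr)] at h3
      exact h3.symm
    have hyd : d * y = y * d := by
      rcases hd with e | e | e | e <;> rw [e]
      · rw [one_mul, mul_one]
      · exact hy1.symm
      · exact hy2.symm
      · exact ((show Commute y w' from hy2).mul_right (show Commute y w from hy1)).symm.eq
    calc g * y = d * (d⁻¹ * g * y) := by group
      _ = d * y * (d⁻¹ * g) := by rw [hyC _ hdg]; group
      _ = y * g := by rw [hyd]; group
  set D : Subgroup G := closure {w, w'} with hD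
  have hDT : D ≤ c.T0 := (closure_le _).2 (by rintro q (e | e) <;> rw [e] <;> assumption)
  have hwD : w ∈ D := subset_closure (Or.inl rfl)
  have hw'D : w' ∈ D := subset_closure (Or.inr rfl)
  have hzD : c.z ∈ D := by
    have h3 : w * w' * (w' * w)⁻¹ = c.z := mul_inv_eq_iff_eq_mul.2 hww'
    rw [← h3]; exact mul_mem (mul_mem hwD hw'D) (inv_mem (mul_mem hw'D hwD))
  have hDform : ∀ q ∈ D, ∃ d ∈ ({1, w, w', w' * w} : Set G), q = d ∨ q = c.z * d := by
    intro q hq
    have hstep : ∀ q, (∃ d ∈ ({1, w, w', w' * w} : Set G), q = d ∨ q = c.z * d) → ∀ g ∈ ({w, w'} : Set G),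
        ∃ d ∈ ({1, w, w', w' * w} : Set G), q * g = d ∨ q * g = c.z * d := by
      have hww : w * w = 1 := hO2 w hwO
      have key : ∀ d ∈ ({1, w, w', w' * w} : Set G), ∀ g ∈ ({w, w'} : Set G),
          ∃ d' ∈ ({1, w, w', w' * w} : Set G), d * g = d' ∨ d * g = c.z * d' := by
        intro d hd g hg
        rcases hd with e | e | e | e <;> rcases hg with e' | e' <;> rw [e, e']
        · exact ⟨w, by simp, Or.inl (one_mul _)⟩
        · exact ⟨w', by simp, Or.inl (one_mul _)⟩
        · exact ⟨1, by simp, Or.inl hww⟩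
        · exact ⟨w' * w, by simp, Or.inr hww'⟩
        · exact ⟨w' * w, by simp, Or.inl rfl⟩
        · exact ⟨1, by simp, Or.inl hw'2⟩
        · exact ⟨w', by simp, Or.inl (by rw [mul_assoc, hww, mul_one])⟩
        · refine ⟨w, by simp, Or.inr ?_⟩
          rw [mul_assoc, hww', ← mul_assoc, hzT w' hw'T, mul_assoc, ← mul_assoc w' w' w, hw'2, one_mul]
      rintro q ⟨d, hd, hq | hq⟩ g hg <;> obtain ⟨d', hd', e | e⟩ := key d hd g hg <;> refine ⟨d', hd', ?_⟩
      · left; rw [hq, e]
      · right; rw [hq, e]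
      · right; rw [hq, mul_assoc, e]
      · left; rw [hq, mul_assoc, e, ← mul_assoc, c.z2, one_mul]
    induction hq using closure_induction_right with
    | one => exact ⟨1, by simp, Or.inl rfl⟩
    | mul_right q _ g hg ih => exact hstep q ih g hg
    | mul_inv_cancel q _ g hg ih =>
      have : g⁻¹ = g := hg.elim (fun e => e ▸ hinv w (hO2 w hwO)) fun e => e ▸ hinv w' hw'2
      rw [this]; exact hstep q ih g hg
  have huD : c.u ∉ D := fun h => by
    obtain ⟨d, hd, e⟩ := hDform _ h
    have hdU : d ∈ c.U := by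
      rcases e with e | e
      · exact e ▸ c.uU
      · rw [show d = c.z * (c.z * d) by rw [← mul_assoc, c.z2, one_mul], ← e]
        exact mul_mem c.zU c.uU
    rcases hd with r | r | r | r
    · rcases e with e | e <;> rw [r] at e
      · exact c.u1 e
      · rw [mul_one] at e; exact c.uz e
    · exact hwU (r ▸ hdU)
    · have h1 := c.T0_comm hwT (r ▸ hdU)
      rw [← h1] at hww'
      exact c.z1 (mul_eq_right.1 hww'.symm)
    · have h1 := c.T0_comm hwT (r ▸ hdU)
      rw [← mul_assoc] at h1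
      have h2 := mul_right_cancel h1
      rw [← h2] at hww'
      exact c.z1 (mul_eq_right.1 hww'.symm)
  have hT0D : ∀ g ∈ c.T0, g ∈ D ∨ c.u * g ∈ D := by
    intro g hg
    obtain ⟨d, hd, hdg⟩ := hdec g hg
    have hdD : d ∈ D := by
      rcases hd with e | e | e | e <;> rw [e]
      exacts [one_mem _, hwD, hw'D, mul_mem hw'D hwD]
    have hg' : g = d * (d⁻¹ * g) := by group
    have hud : ∀ q, c.u * (d * q) = d * (c.u * q) := fun q => by
      rw [← mul_assoc, ← (c.mem_T0.1 (hDT hdD)).2, mul_assoc]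
    rcases c.Ucases (hCleU _ hdg) with e | e | e | e
    · left; rw [hg', e, mul_one]; exact hdD
    · left; rw [hg', e]; exact mul_mem hdD hzD
    · right; rw [hg', hud, e, c.u2, mul_one]; exact hdD
    · right; rw [hg', hud, e, ← mul_assoc c.u, ← c.zu, mul_assoc, c.u2, mul_one]; exact mul_mem hdD hzD
  have hswapU : ∀ g ∈ c.S, g ∉ c.T0 → g * w * g⁻¹ ≠ c.z * w ∧ g * w' * g⁻¹ ≠ c.z * w' := by
    intro g hg hgT
    constructor <;> intro e
    · refine hwU ?_
      have h1 : c.z * w ∈ c.U := by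
        rw [← hinter]
        exact ⟨mul_mem (hUV c.zU) hwV, e ▸ (hswap g hg hgT w).1 hwV⟩
      rw [show w = c.z * (c.z * w) by rw [← mul_assoc, c.z2, one_mul]]
      exact mul_mem c.zU h1
    · refine hwU ?_
      have h1 : c.z * w' ∈ c.U := by
        rw [← hinter]
        exact ⟨e ▸ (hswap g hg hgT w').2 hw'V, mul_mem (hUV' c.zU) hw'V⟩
      have h2 : w' ∈ c.U := by
        rw [show w' = c.z * (c.z * w') by rw [← mul_assoc, c.z2, one_mul]]
        exact mul_mem c.zU h1
      rw [show w = x⁻¹ * w' * x⁻¹⁻¹ by rw [hw', hf]; group]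
      exact c.Unormal (inv_mem hxS) h2
  have hDn : ∀ g ∈ c.S, ∀ q ∈ D, g * q * g⁻¹ ∈ D := by
    have hgen : ∀ g ∈ c.S, g * w * g⁻¹ ∈ D ∧ g * w' * g⁻¹ ∈ D := by
      have hT : ∀ g ∈ c.T0, g * w * g⁻¹ ∈ D ∧ g * w' * g⁻¹ ∈ D := fun g hg =>
        ⟨(hwconj g hg).elim (fun e => by rw [e]; exact hwD) fun e => by rw [e]; exact mul_mem hzD hwD,
          (hw'conj g hg).elim (fun e => by rw [e]; exact hw'D) fun e => by rw [e]; exact mul_mem hzD hw'D⟩
      intro g hg
      by_cases hgT : g ∈ c.T0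
      · exact hT g hgT
      · have hgx : g * x⁻¹ ∈ c.T0 := c.out_mul hg (inv_mem hxS) hgT fun e => hx (inv_mem_iff.1 e)
        constructor
        · have := (hT _ hgx).2
          rw [hw', hf] at this
          simpa [mul_assoc] using this
        · have hgx' : g * x ∈ c.T0 := c.out_mul hg hxS hgT hx
          have := (hT _ hgx').1
          rw [show g * w' * g⁻¹ = g * x * w * (g * x)⁻¹ by rw [hw', hf]; group]
          exact this
    intro g hg q hq
    induction hq using closure_induction with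
    | mem q hq => exact hq.elim (fun e => e ▸ (hgen g hg).1) fun e => e ▸ (hgen g hg).2
    | one => simp
    | mul p q _ _ ihp ihq => rw [← conj_mul]; exact mul_mem ihp ihq
    | inv p _ ih => rw [← conj_inv]; exact inv_mem ih
  by_cases hα : ∃ g ∈ c.S, g ∉ c.T0 ∧ g * g ∈ D
  · obtain ⟨g, hgS, hgT, hgD⟩ := hα
    let M : Subgroup G :=
      { carrier := {y | y ∈ c.S ∧ (y ∈ D ∨ g⁻¹ * y ∈ D)}
        one_mem' := ⟨one_mem _, Or.inl (one_mem _)⟩
        mul_mem' := by
          rintro p q ⟨hp, hp'⟩ ⟨hq, hq'⟩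
          refine ⟨mul_mem hp hq, ?_⟩
          rcases hp' with hp' | hp' <;> rcases hq' with hq' | hq'
          · exact Or.inl (mul_mem hp' hq')
          · right
            rw [show g⁻¹ * (p * q) = g⁻¹ * p * g⁻¹⁻¹ * (g⁻¹ * q) by group]
            exact mul_mem (hDn _ (inv_mem hgS) p hp') hq'
          · right; rw [← mul_assoc]; exact mul_mem hp' hq'
          · left
            rw [show p * q = g * (g⁻¹ * p) * g⁻¹ * (g * g) * (g⁻¹ * q) by group]
            exact mul_mem (mul_mem (hDn g hgS _ hp') hgD) hq'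
        inv_mem' := by
          rintro p ⟨hp, hp'⟩
          refine ⟨inv_mem hp, hp'.imp inv_mem fun h => ?_⟩
          rw [show g⁻¹ * p⁻¹ = (g * g)⁻¹ * (g * (g⁻¹ * p)⁻¹ * g⁻¹) by group]
          exact mul_mem (inv_mem hgD) (hDn g hgS _ (inv_mem h)) }
    have hM : ∀ y, y ∈ M ↔ y ∈ c.S ∧ (y ∈ D ∨ g⁻¹ * y ∈ D) := fun y => Iff.rfl
    have huM : c.u ∉ M := fun h => by
      rcases ((hM _).1 h).2 with h | h
      · exact huD h
      · exact hgT (by simpa [mul_assoc] using mul_mem (c.UleT0 c.uU) (inv_mem (hDT h)))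
    refine huM (mem_of_index_two hF hT (fun y hy => ((hM y).1 hy).1)
      (index_eq_two_iff.2 ⟨⟨c.u, c.uS⟩, fun b => ?_⟩))
    simp only [mem_subgroupOf, coe_mul]
    by_cases hb : (b : G) ∈ M
    · exact Or.inr ⟨hb, fun e => huM (by simpa [← mul_assoc] using M.mul_mem (M.inv_mem hb) e)⟩
    · refine Or.inl ⟨(hM _).2 ⟨mul_mem b.2 c.uS, ?_⟩, hb⟩
      by_cases hbT : (b : G) ∈ c.T0
      · left
        rcases hT0D _ hbT with h | h
        · exact absurd ((hM _).2 ⟨b.2, Or.inl h⟩) hb
        · rwa [(c.mem_T0.1 hbT).2]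
      · right
        have hgb : g⁻¹ * (b : G) ∈ c.T0 := c.out_mul (inv_mem hgS) b.2 (fun e => hgT (inv_mem_iff.1 e)) hbT
        rcases hT0D _ hgb with h | h
        · exact absurd ((hM _).2 ⟨b.2, Or.inr h⟩) hb
        · rwa [← mul_assoc, (c.mem_T0.1 hgb).2]
  push Not at hα
  have hfour : ∀ r ∈ c.T0, r * r * (r * r) = 1 := by
    intro r hr
    have hsq : ∀ q ∈ D, q * q = 1 ∨ q * q = c.z := by
      intro q hq
      obtain ⟨d, hd, e⟩ := hDform q hq
      have hqq : q * q = d * d := by
        rcases e with e | e <;> rw [e]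
        rw [show c.z * d * (c.z * d) = c.z * (d * c.z) * d by group]
        rcases hd with r | r | r | r
        · rw [r, one_mul, mul_one, c.z2, one_mul]
        all_goals
          rw [hzT d (by rw [r]; first | exact hwT | exact hw'T | exact mul_mem hw'T hwT), ← mul_assoc, c.z2,
            one_mul]
      rw [hqq]
      rcases hd with r | r | r | r <;> rw [r]
      · left; exact one_mul 1
      · left; exact hO2 w hwO
      · left; exact hw'2
      · right
        rw [show w' * w * (w' * w) = w' * (w * w') * w by group, hww', ← mul_assoc, hzT w' hw'T,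
          show c.z * w' * (w' * w) * w = c.z * ((w' * w') * (w * w)) by group, hw'2, hO2 w hwO, mul_one, mul_one]
    have key : ∀ q ∈ D, q * q * (q * q) = 1 := fun q hq => (hsq q hq).elim (fun e => by rw [e, one_mul])
      fun e => by rw [e, c.z2]
    rcases hT0D r hr with h | h
    · exact key r h
    · have hru : c.u * r * (c.u * r) = r * r := by
        rw [show c.u * r * (c.u * r) = c.u * (r * c.u) * r by group, (c.mem_T0.1 hr).2, ← mul_assoc, c.u2, one_mul]
      rw [← hru]; exact key _ h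
  have height : ∀ g ∈ c.S, g ∉ c.T0 → g * g * (g * g) = c.z := by
    intro g hg hgT
    have hns := hα g hg hgT
    have hgg := c.sq_mem hg
    have hq : c.u * (g * g) ∈ D := (hT0D _ hgg).resolve_left hns
    obtain ⟨d, hd, e⟩ := hDform _ hq
    have hgu := c.out hg hgT
    have hfix : g * (c.u * (g * g)) * g⁻¹ = c.z * (c.u * (g * g)) := by
      rw [show g * (c.u * (g * g)) * g⁻¹ = g * c.u * g⁻¹ * (g * g) by group, hgu, mul_assoc]
    have hsq : g * g * (g * g) = d * d := by
      rw [show g * g * (g * g) = (c.u * c.u) * (g * g) * (g * g) by rw [c.u2, one_mul]]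
      rw [show c.u * c.u * (g * g) * (g * g) = c.u * (c.u * (g * g)) * (g * g) by group,
        show c.u * (c.u * (g * g)) = c.u * (g * g) * c.u by rw [mul_assoc c.u (g * g), (c.mem_T0.1 hgg).2],
        mul_assoc _ c.u]
      rcases e with e | e <;> rw [e]
      have hdT : d ∈ c.T0 := by
        rcases hd with r | r | r | r <;> rw [r]
        exacts [one_mem _, hwT, hw'T, mul_mem hw'T hwT]
      rw [show c.z * d * (c.z * d) = c.z * (d * c.z) * d by group, hzT d hdT, ← mul_assoc, c.z2, one_mul]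
    have hd' : g * d * g⁻¹ = c.z * d := by
      rcases e with e | e <;> rw [e] at hfix
      · exact hfix
      · rw [← conj_mul, c.zc hg, mul_inv_cancel_right] at hfix
        exact mul_left_cancel hfix
    rw [hsq]
    rcases hd with r | r | r | r <;> rw [r] at hd' ⊢
    · rw [mul_one, mul_inv_cancel] at hd'; exact absurd hd'.symm (by simpa using c.z1)
    · exact absurd hd' (hswapU g hg hgT).1
    · exact absurd hd' (hswapU g hg hgT).2
    · rw [show w' * w * (w' * w) = w' * (w * w') * w by group, hww', ← mul_assoc, hzT w' hw'T,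
        show c.z * w' * (w' * w) * w = c.z * ((w' * w') * (w * w)) by group, hw'2, hO2 w hwO, mul_one, mul_one]
  obtain ⟨g, hgT0, hgS⟩ := c.extremal c.T0_le (c.T0_relIndex hxS hx) hxS (fun h j hh => by
    by_contra hne
    have h1 := height _ hh hne
    rw [conj_mul, conj_mul, ← pow_add, ← pow_add] at h1
    have h2 : x ^ (2 ^ (j + 1) + 2 ^ (j + 1) + (2 ^ (j + 1) + 2 ^ (j + 1))) = 1 := by
      have h8 : x ^ 8 = 1 := by
        rw [show x ^ 8 = (x * x * (x * x)) * (x * x * (x * x)) by simp only [pow_succ, pow_zero, one_mul, mul_assoc],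
          height x hxS hx, c.z2]
      rw [show 2 ^ (j + 1) + 2 ^ (j + 1) + (2 ^ (j + 1) + 2 ^ (j + 1)) = 8 * 2 ^ j by ring, pow_mul, h8, one_pow]
    rw [h2, mul_one, mul_inv_cancel] at h1
    exact c.z1 h1.symm)
  have h4 := hfour _ hgT0
  rw [conj_mul, conj_mul, height x hxS hx, conj_eq_one_iff] at h4
  exact c.z1 h4

/-- A 2-subgroup of `C(a)` can be conjugated into `T₀` inside `C(a)`. -/
theorem into_T0 (hF : ¬ c.Fused) {a : G} (haU : a ∈ c.U) (ha1 : a ≠ 1) (haz : a ≠ c.z) {P : Subgroup G}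
    (hP : IsPGroup 2 P) (hPC : P ≤ centralizer ({a} : Set G)) :
    ∃ k ∈ centralizer ({a} : Set G), ∀ y ∈ P, k * y * k⁻¹ ∈ c.T0 := by
  haveI : Fact (Nat.Prime 2) := ⟨Nat.prime_two⟩
  obtain ⟨Q, hQ⟩ := (c.frameU hF haU ha1 haz).exists_sylow
  obtain ⟨k, hk⟩ := Invol.exists_conj_subset_sylow (hP.of_equiv (subgroupOfEquivOfLe hPC).symm) Q
  refine ⟨k, k.2, fun y hy => ?_⟩
  have h : k * (⟨y, hPC hy⟩ : ↥(centralizer ({a} : Set G))) * k⁻¹ ∈
      (Q : Subgroup ↥(centralizer ({a} : Set G))) := hk _ hy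
  rw [hQ] at h
  exact h

/-- A 2-subgroup of `C(a)` containing `z` centralises it. -/
theorem isolated (hF : ¬ c.Fused) {a : G} (haU : a ∈ c.U) (ha1 : a ≠ 1) (haz : a ≠ c.z) {P : Subgroup G}
    (hP : IsPGroup 2 P) (hPC : P ≤ centralizer ({a} : Set G)) (hz : c.z ∈ P) {x : G} (hx : x ∈ P) :
    x * c.z = c.z * x := by
  obtain ⟨k, hk, hkP⟩ := into_T0 hF haU ha1 haz hP hPC
  have hkz := core_isolated hF haU ha1 haz hk (hkP _ hz)
  have h1 := c.T0_comm (hkP _ hx) c.zU
  rw [← hkz] at h1
  refine (MulAut.conj k).injective ?_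
  simpa [mul_assoc] using h1

/-- The `z` of an involution conjugate to one in `U` other than `z` is determined in any 2-group. -/
theorem value_unique (hF : ¬ c.Fused) {a a' g : G} (haU : a ∈ c.U) (ha1 : a ≠ 1) (haz : a ≠ c.z)
    (ha'U : a' ∈ c.U) (ha'1 : a' ≠ 1) (ha'z : a' ≠ c.z) (hg : g * a' * g⁻¹ = a) {P : Subgroup G}
    (hP : IsPGroup 2 P) (hPC : P ≤ centralizer ({a} : Set G)) (hz : c.z ∈ P) (hp : g * c.z * g⁻¹ ∈ P) :
    g * c.z * g⁻¹ = c.z := by
  obtain ⟨k, hk, hkP⟩ := into_T0 hF haU ha1 haz hP hPC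
  have hkz := core_isolated hF haU ha1 haz hk (hkP _ hz)
  let φ : G →* G := (MulAut.conj (k * g)⁻¹).toMonoidHom
  have hφ : ∀ y, φ y = (k * g)⁻¹ * y * (k * g) := fun y => by simp [φ, mul_assoc]
  have hkg : k * g * a' * (k * g)⁻¹ = a := by
    rw [show k * g * a' * (k * g)⁻¹ = k * (g * a' * g⁻¹) * k⁻¹ by group, hg,
      mem_centralizer_singleton_iff.1 hk, mul_inv_cancel_right]
  have hφa : φ a = a' := by rw [hφ, ← hkg]; group
  have hQC : c.T0.map φ ≤ centralizer ({a'} : Set G) := by
    rintro _ ⟨y, hy, rfl⟩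
    rw [mem_centralizer_singleton_iff, ← hφa, ← map_mul, ← map_mul, c.T0_comm hy haU]
  obtain ⟨k', hk', hk'T⟩ := into_T0 hF ha'U ha'1 ha'z ((c.frameU hF haU ha1 haz).pgroup.map φ) hQC
  set m := k' * (k * g)⁻¹ with hm
  have hmT : ∀ y ∈ c.T0, m * y * m⁻¹ ∈ c.T0 := fun y hy => by
    have h := hk'T _ (mem_map_of_mem φ hy)
    rw [hφ] at h
    rwa [show m * y * m⁻¹ = k' * ((k * g)⁻¹ * y * (k * g)) * k'⁻¹ by rw [hm]; group]
  obtain ⟨-, hmU⟩ := c.normalizes_T0 fun y hy => c.T0_le (hmT y hy)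
  have hp' := hkP _ hp
  have e : m * (k * (g * c.z * g⁻¹) * k⁻¹) * m⁻¹ = k' * c.z * k'⁻¹ := by rw [hm]; group
  have hk'z := core_isolated hF ha'U ha'1 ha'z hk' (e ▸ hmT _ hp')
  rw [hk'z] at e
  have hpU : k * (g * c.z * g⁻¹) * k⁻¹ ∈ c.U :=
    (mem_normalizer_iff.1 hmU _).2 (e.symm ▸ c.zU)
  have h2 : k * (g * c.z * g⁻¹) * k⁻¹ = c.z := by
    by_contra hne
    exact hF (c.fused_of (g := k * g) hpU (by group) hne)
  exact mul_left_cancel (mul_right_cancel (h2.trans hkz.symm))

end Hyp

end Cfsg.Agent.Transfer.NoEight
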