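import Cfsg.Agent.Lib.Transfer.NoEight.Four
import Cfsg.Agent.Lib.Transfer.Local.Normed

/-!
# Case A: some conjugate of `z` outside `U` centralises `U`

Otherwise a conjugate `x ∉ T₀` has `T = C_T(x) U` and no square in `T₀` can be nontrivial, so `T` has order 8.
-/

set_option autoImplicit false
set_option linter.unusedSectionVars false
set_option linter.style.haveILetI false

namespace Cfsg.Agent.Transfer.NoEight

open Subgroup CoreConsumers.Disc

universe u

variable {G : Type u} [Group G] [Finite G]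

namespace Hyp

variable {c : Hyp G}

/-- A 2-subgroup of `C(z)` can be conjugated into `T` inside `C(z)`. -/
theorem into_S (c : Hyp G) {P : Subgroup G} (hP : IsPGroup 2 P) (hPC : P ≤ centralizer ({c.z} : Set G)) :
    ∃ k ∈ centralizer ({c.z} : Set G), ∀ y ∈ P, k * y * k⁻¹ ∈ c.S := by
  haveI : Fact (Nat.Prime 2) := ⟨Nat.prime_two⟩
  obtain ⟨Q, hQ⟩ := c.frameZ.exists_sylow
  obtain ⟨k, hk⟩ := Invol.exists_conj_subset_sylow (hP.of_equiv (subgroupOfEquivOfLe hPC).symm) Q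
  refine ⟨k, k.2, fun y hy => ?_⟩
  have h : k * (⟨y, hPC hy⟩ : ↥(centralizer ({c.z} : Set G))) * k⁻¹ ∈
      (Q : Subgroup ↥(centralizer ({c.z} : Set G))) := hk _ hy
  rw [hQ] at h
  exact h

/-- An element conjugating `x` into itself normalising `U` maps `U` onto `U`. -/
theorem CaseA.map_U (hA : c.CaseA) {k : G} (hk : k ∈ centralizer ({c.z} : Set G))
    (hkU : ∀ a ∈ c.U, k * a * k⁻¹ ∈ c.S) : c.U.map (MulAut.conj k).toMonoidHom = c.U := by
  refine eq_of_le_of_card_ge ?_ (by rw [card_map_of_injective (MulAut.conj k).injective])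
  rintro _ ⟨a, ha, rfl⟩
  exact hA.conj_mem_U hk ha c.S_isPGroup c.UleS (hkU a ha)

/-- No conjugate of `z` lies in `T₀ ∖ U`. -/
def NoPair (c : Hyp G) : Prop := ∀ p ∈ c.T0, (∃ g : G, g * c.z * g⁻¹ = p) → p ∈ c.U

/-- Then a conjugate of `z` centralising a four-group lies in it. -/
theorem NoPair.mem_four (hno : c.NoPair) (hA : c.CaseA) {y p : G} {F : Subgroup G} (h : c.IsFour y F)
    (hp : ∃ g : G, g * c.z * g⁻¹ = p) (hc : ∀ f ∈ F, p * f = f * p) : p ∈ F := by
  obtain ⟨g, rfl, rfl⟩ := h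
  obtain ⟨g₁, hg₁⟩ := hp
  set p' := g⁻¹ * p * g with hp'
  have hp2 : p * p = 1 := by rw [← hg₁, conj_mul, c.z2, mul_one, mul_inv_cancel]
  have hp'2 : p' * p' = 1 := by
    rw [hp', show g⁻¹ * p * g * (g⁻¹ * p * g) = g⁻¹ * (p * p) * g by group, hp2]; group
  have hcU : ∀ a ∈ c.U, p' * a = a * p' := fun a ha => by
    have h1 := hc _ (conj_mem_map (g := g) ha)
    calc p' * a = g⁻¹ * (p * (g * a * g⁻¹)) * g := by rw [hp']; group
      _ = g⁻¹ * (g * a * g⁻¹ * p) * g := by rw [h1]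
      _ = a * p' := by rw [hp']; group
  have hE := elemAb_closure (insert p' (c.U : Set G))
    (fun a ha b hb => by
      rcases ha with rfl | ha <;> rcases hb with rfl | hb
      · rfl
      · exact hcU b hb
      · exact (hcU a ha).symm
      · exact elemAb_comm c.four.elem ha hb)
    (fun a ha => by
      rcases ha with rfl | ha
      · exact hp'2
      · exact c.four.mul_self ha)
  haveI : Fact (Nat.Prime 2) := ⟨Nat.prime_two⟩
  obtain ⟨k, hk, hkS⟩ := c.into_S (Grp.elemAb_isPGroup hE) ((closure_le _).2 (Set.insert_subset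
    (mem_centralizer_singleton_iff.2 (hcU _ c.zU)) c.UleC))
  have hmap := hA.map_U hk fun a ha => hkS a (subset_closure (Set.mem_insert_of_mem _ ha))
  have hT : k * p' * k⁻¹ ∈ c.T0 := by
    refine c.mem_T0.2 ⟨hkS _ (subset_closure (Set.mem_insert _ _)), ?_⟩
    obtain ⟨b, hb, hbu⟩ := hmap.ge c.uU
    rw [← hbu]
    exact conj_comm (hcU b hb)
  have hU := hno _ hT ⟨k * g⁻¹ * g₁, by rw [hp', ← hg₁]; group⟩
  obtain ⟨b, hb, hbp⟩ := hmap.ge hU
  have hpb : b = p' := (MulAut.conj k).injective (show _ = _ from hbp.trans (by simp))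
  rw [hpb, hp'] at hb
  exact mem_map_conj.2 hb

/-- A conjugate of `z` outside `T₀` has `z` as no product of squares in its centraliser. -/
theorem NoPair.moves_z (hno : c.NoPair) (hA : c.CaseA) {q : G} (hq : q ∈ c.S) (hqT : q ∉ c.T0)
    {g : G} (hgq : g * q * g⁻¹ = c.z) (hz : g * c.z * g⁻¹ ∈ c.T0) : False := by
  have hzU := hno _ hz ⟨g, rfl⟩
  have hF : c.IsFour q (c.U.map (MulAut.conj g⁻¹).toMonoidHom) :=
    ⟨g⁻¹, by rw [← hgq]; group, rfl⟩
  have hzF : c.z ∈ c.U.map (MulAut.conj g⁻¹).toMonoidHom := by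
    rw [mem_map_conj, inv_inv]; exact hzU
  refine hqT (c.mem_T0.2 ⟨hq, ?_⟩)
  exact hA.symm hF c.isFour_self (fun f hf => elemAb_comm hF.elem hzF hf) (fun f hf => c.Unormal hq hf) c.uU

/-- An element centralising two of the involutions of a four-group centralises it. -/
theorem IsFour.cent_of_two {p : G} {F : Subgroup G} (h : c.IsFour p F) {a f : G} (hf : f ∈ F) (hf1 : f ≠ 1)
    (hfp : f ≠ p) (hap : a * p = p * a) (haf : a * f = f * a) {f' : G} (hf' : f' ∈ F) : a * f' = f' * a := by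
  obtain ⟨g, rfl, rfl⟩ := h
  have hfU := mem_map_conj.1 hf
  have h1 : g⁻¹ * f * g ≠ 1 := fun e => hf1 (by rw [show f = g * (g⁻¹ * f * g) * g⁻¹ by group, e]; group)
  have h2 : g⁻¹ * f * g ≠ c.z := fun e => hfp (by rw [← e]; group)
  rcases c.four.cases hfU h1 h2 (mem_map_conj.1 hf') with e | e | e | e <;>
    rw [show f' = g * (g⁻¹ * f' * g) * g⁻¹ by group, e]
  · simp
  · exact hap
  · rw [show g * (g⁻¹ * f * g) * g⁻¹ = f by group]; exact haf
  · rw [show g * (c.z * (g⁻¹ * f * g)) * g⁻¹ = g * c.z * g⁻¹ * f by group, ← mul_assoc, hap, mul_assoc, haf,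
      ← mul_assoc]

/-- Conjugates of `z` outside `T₀` are moved by `u` to their products with `z`. -/
theorem out_conj (c : Hyp G) {x : G} (hx : x ∈ c.S) (hxT : x ∉ c.T0) : c.u * x * c.u⁻¹ = x * c.z := by
  have h := c.out hx hxT
  rw [c.ui]
  calc c.u * x * c.u = c.u * (x * c.u * x⁻¹) * x := by group
    _ = c.u * (c.z * c.u) * x := by rw [h]
    _ = x * c.z := by rw [← mul_assoc c.u, ← c.zu, mul_assoc c.z, c.u2, mul_one, ← c.zc hx]

/-- Commuting conjugates of `z` outside `T₀` differ by `z`. -/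
theorem NoPair.commuting (hno : c.NoPair) (hA : c.CaseA) {x x' : G} (hx : x ∈ c.S) (hxT : x ∉ c.T0)
    (hxz : ∃ g : G, g * c.z * g⁻¹ = x) (hx' : x' ∈ c.S) (hx'T : x' ∉ c.T0)
    (hx'z : ∃ g : G, g * c.z * g⁻¹ = x') (hcx : x * x' = x' * x) : x' = x ∨ x' = x * c.z := by
  haveI : Fact (Nat.Prime 2) := ⟨Nat.prime_two⟩
  by_contra hne
  rw [not_or] at hne
  have conjz : ∀ {w : G}, w ∈ c.S → w ∉ c.T0 → (∃ g : G, g * c.z * g⁻¹ = w) → ∃ g : G, g * c.z * g⁻¹ = w * c.z :=
    fun hw hwT ⟨g, hg⟩ => ⟨c.u * g, by rw [← c.out_conj hw hwT, ← hg]; group⟩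
  have hyT : x * c.z ∉ c.T0 := fun h => hxT (by
    simpa [mul_assoc] using mul_mem h (inv_mem (c.UleT0 c.zU)))
  have hy : x * c.z ∈ c.S := mul_mem hx c.zS
  have hcy : ∀ {w : G}, w ∈ c.S → x * w = w * x → w * (x * c.z) = x * c.z * w := fun {w} hw e => by
    rw [← mul_assoc, ← e, mul_assoc, c.zc hw, mul_assoc]
  let P : Subgroup G := c.S ⊓ centralizer ({x * c.z} : Set G)
  have hP : ∀ {w : G}, w ∈ c.S → x * w = w * x → w ∈ P := fun hw e =>
    ⟨hw, mem_centralizer_singleton_iff.2 (hcy hw e)⟩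
  obtain ⟨F, hF, Q, hQ, hQC, hPQ, hFQ⟩ :=
    c.exists_four (conjz hx hxT hxz) (P := P) (c.S_isPGroup.to_le inf_le_left) inf_le_right
  have hnorm : ∀ {w : G}, w ∈ c.S → x * w = w * x → ∀ f ∈ F, w * f * w⁻¹ ∈ F := fun hw e f hf =>
    hF.norm hA hQ hQC hFQ (hPQ (hP hw e)) hf
  have hzx : x * c.z = c.z * x := c.zc hx
  have hzmove : ¬ ∀ f ∈ F, c.z * f = f * c.z := fun hall => hyT (c.mem_T0.2 ⟨hy,
    hA.symm hF c.isFour_self hall (fun f hf => c.Unormal hy hf) c.uU⟩)
  push Not at hzmove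
  obtain ⟨f, hf, hfz⟩ := hzmove
  have hf1 : f ≠ 1 := fun e => hfz (by rw [e, mul_one, one_mul])
  have hfy : f ≠ x * c.z := fun e => hfz (e ▸ hcy c.zS hzx)
  -- a commuting conjugate other than `x z` moves `f`
  have hmove : ∀ {w : G}, w ∈ c.S → w ∉ c.T0 → x * w = w * x → (∃ g : G, g * c.z * g⁻¹ = w) → w ≠ x * c.z →
      w * f ≠ f * w := by
    intro w hw hwT e hwz hwne hwf
    have hall : ∀ f' ∈ F, w * f' = f' * w := fun f' hf' => hF.cent_of_two hf hf1 hfy (hcy hw e) hwf hf'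
    have hwF := hno.mem_four hA hF hwz hall
    refine hfz (hF.cent_of_two hwF ?_ hwne (hcy c.zS hzx) (c.zc hw).symm hf)
    rintro rfl
    exact hwT (one_mem _)
  have hzw : x * (x' * c.z) = x' * c.z * x := by rw [← mul_assoc, hcx, mul_assoc, hzx, mul_assoc]
  have hx'zT : x' * c.z ∉ c.T0 := fun h => hx'T (by
    simpa [mul_assoc] using mul_mem h (inv_mem (c.UleT0 c.zU)))
  have h3 := hF.two_move (hnorm c.zS hzx) (hnorm (mul_mem hx' c.zS) hzw) (hcy c.zS hzx)
    (hcy (mul_mem hx' c.zS) hzw) hf hfz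
    (hmove (mul_mem hx' c.zS) hx'zT hzw (conjz hx' hx'T hx'z) fun e => hne.1 (mul_right_cancel e))
  refine hmove hx' hx'T hcx hx'z hne.2 ?_
  rwa [show c.z * (x' * c.z) = x' by rw [c.zc hx', ← mul_assoc, c.z2, one_mul]] at h3

/-- Some conjugate of `z` lies in `T ∖ T₀`. -/
theorem NoPair.exists_out (hno : c.NoPair) :
    ∃ x ∈ c.S, x ∉ c.T0 ∧ ∃ g : G, g * c.z * g⁻¹ = x := by
  by_cases hF : c.Fused
  · obtain ⟨a, ha, g, hgS, hgU⟩ := c.exists_fused_out
    have ha1 : a ≠ 1 := fun e => hgU (by rw [e, mul_one, mul_inv_cancel]; exact one_mem _)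
    obtain ⟨h, -, -, hh⟩ := hF.transitive ha ha1
    have hz : ∃ g' : G, g' * c.z * g'⁻¹ = g * a * g⁻¹ := ⟨g * h, by rw [← hh]; group⟩
    exact ⟨_, hgS, fun e => hgU (hno _ e hz), hz⟩
  · obtain ⟨g, hg, hne⟩ := c.exists_conj_ne c.zS c.z2 c.z1
    exact ⟨_, hg, fun e => hF (c.fused_of (hno _ e ⟨g, rfl⟩) rfl hne), g, rfl⟩

/-- The case without a pair is impossible. -/
theorem NoPair.false (hno : c.NoPair) (hA : c.CaseA) : False := by
  haveI : Fact (Nat.Prime 2) := ⟨Nat.prime_two⟩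
  obtain ⟨x, hx, hxT, g₀, hg₀⟩ := hno.exists_out
  obtain ⟨g, hgx, hgS⟩ := c.to_z hx ⟨g₀, hg₀⟩
  set φ : G →* G := (MulAut.conj g).toMonoidHom with hφ
  have hφ' : ∀ w, φ w = g * w * g⁻¹ := fun w => by simp [hφ]
  let K : Subgroup G := c.S ⊓ centralizer ({x} : Set G) ⊓ c.T0.comap φ
  have hzK : c.z ∉ K := fun h => hno.moves_z hA hx hxT hgx (hφ' c.z ▸ h.2)
  have hKle : ∀ {w}, w ∈ K → w ∈ c.S ∧ w * x = x * w := fun h => ⟨h.1.1, mem_centralizer_singleton_iff.1 h.1.2⟩
  have hsqK : ∀ r ∈ c.S, r * x = x * r → r * r ∈ K := fun r hr e =>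
    ⟨⟨mul_mem hr hr, mul_mem (mem_centralizer_singleton_iff.2 e) (mem_centralizer_singleton_iff.2 e)⟩, by
      show φ (r * r) ∈ c.T0
      rw [map_mul, hφ']
      exact c.sq_mem (hgS r hr e)⟩
  -- `T = C_T(x) U`
  let C' : Subgroup c.S := (centralizer ({x} : Set G)).subgroupOf c.S
  let U' : Subgroup c.S := c.U.subgroupOf c.S
  haveI hU'n : U'.Normal := ⟨fun a ha s => c.Unormal s.2 ha⟩
  haveI : Group.IsNilpotent c.S := c.S_isPGroup.isNilpotent
  have hall : C' ⊔ U' = ⊤ := by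
    by_contra hne
    have hlt := normalizerCondition_of_isNilpotent (C' ⊔ U') (lt_top_iff_ne_top.2 hne)
    obtain ⟨s, hs, hs'⟩ := SetLike.exists_of_lt hlt
    have hxC : (⟨x, hx⟩ : c.S) ∈ C' := mem_centralizer_singleton_iff.2 rfl
    obtain ⟨r, hr, a, ha, hra⟩ := mem_sup_of_normal_right.1
      ((mem_normalizer_iff.1 hs _).1 (mem_sup_left (T := U') hxC))
    have hra' : (r : G) * a = (s : G) * x * (s : G)⁻¹ := congrArg Subtype.val hra
    have hrx : (r : G) * x = x * r := mem_centralizer_singleton_iff.1 hr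
    have haU : (a : G) ∈ c.U := ha
    set x' := (s : G) * x * (s : G)⁻¹ with hx'
    have hx'S : x' ∈ c.S := mul_mem (mul_mem s.2 hx) (inv_mem s.2)
    have hx'T : x' ∉ c.T0 := fun h => hxT (by
      simpa [hx', mul_assoc] using c.T0_normal (inv_mem s.2) h)
    have hrT : (r : G) ∉ c.T0 := fun h => hx'T (hra' ▸ mul_mem h (c.UleT0 haU))
    have hx'2 : x' * x' = 1 := by
      rw [hx', conj_mul, ← hg₀, conj_mul, c.z2, mul_one, mul_inv_cancel, mul_one, mul_inv_cancel]
    have haz : (a : G) = 1 ∨ (a : G) = c.z := by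
      have e : (r : G) * r * ((r : G)⁻¹ * a * r * a) = 1 := by
        rw [show (r : G) * r * ((r : G)⁻¹ * a * r * a) = r * a * (r * a) by group, hra', hx'2]
      have hrU : (r : G)⁻¹ * c.u * r = c.z * c.u := by
        have := c.out (inv_mem r.2) fun h => hrT (inv_mem_iff.1 h)
        rwa [inv_inv] at this
      rcases c.Ucases haU with q | q | q | q
      · exact Or.inl q
      · exact Or.inr q
      all_goals
        exfalso
        refine hzK ?_
        have h5 : (r : G)⁻¹ * a * r * a = c.z := by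
          rw [q]
          first
            | rw [hrU, mul_assoc, c.u2, mul_one]
            | rw [show (r : G)⁻¹ * (c.z * c.u) * r = (r : G)⁻¹ * c.z * r * ((r : G)⁻¹ * c.u * r) by group, hrU,
                show (r : G)⁻¹ * c.z * r = c.z by rw [mul_assoc, ← c.zc r.2, inv_mul_cancel_left],
                ← mul_assoc c.z c.z, c.z2, one_mul, c.zu, ← mul_assoc, c.u2, one_mul]
        rw [h5] at e
        rw [show c.z = (r : G) * r by rw [eq_inv_of_mul_eq_one_left e, c.zi]]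
        exact hsqK r r.2 hrx
    have hcomm : x * x' = x' * x := by
      rw [← hra']
      rcases haz with q | q <;> rw [q]
      · rw [mul_one]; exact hrx.symm
      · rw [← mul_assoc, ← hrx, mul_assoc, c.zc hx, mul_assoc]
    have hx'z : ∃ g' : G, g' * c.z * g'⁻¹ = x' := ⟨s * g₀, by rw [hx', ← hg₀]; group⟩
    refine hs' ?_
    rcases hno.commuting hA hx hxT ⟨g₀, hg₀⟩ hx'S hx'T hx'z hcomm with e | e
    · exact mem_sup_left (show (s : G) ∈ centralizer ({x} : Set G) from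
        mem_centralizer_singleton_iff.2 (mul_inv_eq_iff_eq_mul.1 e))
    · have h1 : (⟨c.u, c.uS⟩ : c.S) * s ∈ C' := by
        show c.u * (s : G) ∈ centralizer ({x} : Set G)
        rw [mem_centralizer_singleton_iff]
        refine mul_inv_eq_iff_eq_mul.1 ?_
        rw [show c.u * (s : G) * x * (c.u * (s : G))⁻¹ = c.u * x' * c.u⁻¹ by rw [hx']; group, e,
          ← conj_mul, c.out_conj hx hxT, c.zc c.uS, mul_inv_cancel_right, mul_assoc, c.z2, mul_one]
      have h2 := (C' ⊔ U').mul_mem ((C' ⊔ U').inv_mem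
        (mem_sup_right (S := C') (show (⟨c.u, c.uS⟩ : c.S) ∈ U' from c.uU))) (mem_sup_left (T := U') h1)
      rwa [inv_mul_cancel_left] at h2
  -- squares of `T₀` lie in `K`
  have hsq0 : ∀ t ∈ c.T0, t * t ∈ K := by
    intro t ht
    obtain ⟨r, hr, a, ha, hra⟩ := mem_sup_of_normal_right.1 (hall.ge (mem_top (⟨t, c.T0_le ht⟩ : c.S)))
    have hra' : (r : G) * a = t := congrArg Subtype.val hra
    have haU : (a : G) ∈ c.U := ha
    have hrT : (r : G) ∈ c.T0 := by
      rw [show (r : G) = r * a * (a : G)⁻¹ by group, hra']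
      exact mul_mem ht (inv_mem (c.UleT0 haU))
    rw [← hra', show (r : G) * a * (r * a) = r * (a * r) * a by group, ← c.T0_comm hrT haU,
      show (r : G) * (r * a) * a = r * r * (a * a) by group, c.four.mul_self haU, mul_one]
    exact hsqK r r.2 (mem_centralizer_singleton_iff.1 hr)
  let D : Subgroup G := closure {w | ∃ t ∈ c.T0, t * t = w}
  have hDK : D ≤ K := (closure_le _).2 fun w ⟨t, ht, e⟩ => e ▸ hsq0 t ht
  have hDT : D ≤ c.T0 := (closure_le _).2 fun w ⟨t, ht, e⟩ => e ▸ mul_mem ht ht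
  have hsq1 : ∀ t ∈ c.T0, t * t = 1 := by
    by_contra h
    push Not at h
    obtain ⟨t, ht, hne⟩ := h
    haveI hDn : (D.subgroupOf c.S).Normal := ⟨fun a ha s => by
      show (s : G) * a * (s : G)⁻¹ ∈ D
      rw [mem_subgroupOf] at ha
      generalize (a : G) = b at ha ⊢
      induction ha using closure_induction with
      | mem w hw =>
        obtain ⟨t, ht, rfl⟩ := hw
        exact subset_closure ⟨_, c.T0_normal s.2 ht, by rw [conj_mul]⟩
      | one => simp
      | mul p q _ _ ihp ihq => rw [← conj_mul]; exact mul_mem ihp ihq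
      | inv p _ ih => rw [← conj_inv]; exact inv_mem ih⟩
    have htD : (⟨t * t, c.S.mul_mem (c.T0_le ht) (c.T0_le ht)⟩ : c.S) ∈ D.subgroupOf c.S :=
      subset_closure ⟨t, ht, rfl⟩
    have h2 : 2 ^ 1 ≤ Nat.card (D.subgroupOf c.S) := by
      rw [pow_one]
      exact (Subgroup.one_lt_card_iff_ne_bot _).2 fun e => by
        rw [e, mem_bot] at htD
        exact hne (congrArg Subtype.val htD)
    obtain ⟨L, hLn, hLD, hLc⟩ := RankTwo.exists_normal_card c.S_isPGroup (D.subgroupOf c.S) 1 h2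
    rw [pow_one] at hLc
    obtain ⟨⟨w, hw⟩, hw1'⟩ := (ne_bot_iff_exists_ne_one (H := L)).1 (fun e => by
      rw [e, Subgroup.card_bot] at hLc; omega)
    have hw1 : w ≠ 1 := fun e => hw1' (Subtype.ext e)
    haveI := hLn
    have hL : ∀ v ∈ L, v = 1 ∨ v = (w : c.S) := fun v hv => by
      obtain ⟨a, b, -, hab⟩ := Nat.card_eq_two_iff.1 hLc
      have h : ∀ q : L, q = a ∨ q = b := fun q => by simpa using hab.ge (Set.mem_univ q)
      have hw1' : (⟨w, hw⟩ : L) ≠ 1 := fun e => hw1 (congrArg Subtype.val e)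
      by_contra hc
      rw [not_or] at hc
      have hv1 : (⟨v, hv⟩ : L) ≠ 1 := fun e => hc.1 (congrArg Subtype.val e)
      have hvw : (⟨v, hv⟩ : L) ≠ ⟨w, hw⟩ := fun e => hc.2 (congrArg Subtype.val e)
      rcases h ⟨v, hv⟩ with p | p <;> rcases h ⟨w, hw⟩ with q | q <;> rcases h 1 with r | r
      all_goals first
        | exact hvw (p.trans q.symm)
        | exact hv1 (p.trans r.symm)
        | exact hw1' (q.trans r.symm)
    have hwD : (w : G) ∈ D := hLD hw
    have hwc : ∀ s ∈ c.S, s * (w : G) = (w : G) * s := fun s hs => by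
      rcases hL _ (Normal.conj_mem hLn _ hw ⟨s, hs⟩) with e | e
      · exact absurd (conj_eq_one_iff.1 e) hw1
      · exact mul_inv_eq_iff_eq_mul.1 (congrArg Subtype.val e)
    have hw2 : (w : G) * w = 1 := by
      rcases hL _ (mul_mem hw hw) with e | e
      · exact congrArg Subtype.val e
      · exact absurd (mul_eq_left.1 e) hw1
    have hwU := c.central_mem_U w.2 hw2 hwc
    have hwK := hDK hwD
    rcases c.Ucases hwU with e | e | e | e
    · exact hw1 (Subtype.ext e)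
    · exact hzK (e ▸ hwK)
    · exact hxT (c.mem_T0.2 ⟨hx, by rw [← e]; exact (hKle hwK).2.symm⟩)
    · refine hxT (c.mem_T0.2 ⟨hx, ?_⟩)
      have h1 := (hKle hwK).2
      rw [e, mul_assoc, ← mul_assoc x c.z, c.zc hx, mul_assoc c.z x] at h1
      exact (mul_left_cancel h1).symm
  -- `T₀ = U`
  have hE : Cfsg.IsElementaryAbelian 2 c.T0 := elemAb_of (fun a ha b hb => by
    have h1 := hsq1 _ (mul_mem ha hb)
    rw [← inv_eq_of_mul_eq_one_right (hsq1 a ha), ← inv_eq_of_mul_eq_one_right (hsq1 b hb)] at h1 ⊢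
    rw [mul_eq_one_iff_eq_inv] at h1
    rw [h1, mul_inv_rev, inv_inv, inv_inv, inv_eq_of_mul_eq_one_right (hsq1 a ha),
      inv_eq_of_mul_eq_one_right (hsq1 b hb)]) hsq1
  have hT0U := c.le_U c.T0_le hE (fun s hs t ht => c.T0_normal hs ht) c.UleT0
  have h8 : Nat.card c.S = 8 := by
    have h2 := relIndex_mul_relIndex ⊥ c.T0 c.S bot_le c.T0_le
    rw [relIndex_bot_left, relIndex_bot_left, c.T0_relIndex hx hxT, hT0U, c.card_U] at h2
    omega
  obtain ⟨F, hFS, hFe, hF8⟩ := c.rank3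
  have hFeq : F = c.S := eq_of_le_of_card_ge hFS (by rw [h8]; exact hF8)
  exact hxT (c.mem_T0.2 ⟨hx, elemAb_comm hFe (hFeq ▸ hx) (hFeq ▸ c.uS)⟩)

end Hyp

end Cfsg.Agent.Transfer.NoEight
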