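import Cfsg.Agent.Lib.Transfer.NoEight.NoPair

/-!
# Case A: the elementary subgroups `U × F` of order sixteen

Two of them meet in `U`; hence `z` is fused in `U`.
-/

set_option autoImplicit false
set_option linter.unusedSectionVars false
set_option linter.style.haveILetI false

namespace Cfsg.Agent.Transfer.NoEight

open Subgroup CoreConsumers.Disc
open scoped Pointwise

universe u

variable {G : Type u} [Group G] [Finite G]

theorem closure_two_comm {H K : Subgroup G} (hH : Cfsg.IsElementaryAbelian 2 H) (hK : Cfsg.IsElementaryAbelian 2 K)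
    (h : ∀ a ∈ H, ∀ f ∈ K, a * f = f * a) : Cfsg.IsElementaryAbelian 2 (H ⊔ K : Subgroup G) := by
  rw [sup_eq_closure]
  refine elemAb_closure _ (fun a ha b hb => ?_) fun a ha => ha.elim (elemAb_sq hH) (elemAb_sq hK)
  rcases ha with ha | ha <;> rcases hb with hb | hb
  exacts [elemAb_comm hH ha hb, h a ha b hb, (h b hb a ha).symm, elemAb_comm hK ha hb]

namespace Hyp

variable {c : Hyp G}

/-- `S` has no elementary subgroup of order more than 16. -/
theorem elem_card (c : Hyp G) {E : Subgroup G} (hES : E ≤ c.S) (hE : Cfsg.IsElementaryAbelian 2 E) :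
    Nat.card E ≤ 16 := by
  haveI := hE.1
  let H : Subgroup c.S := E.subgroupOf c.S
  have h := c.sectional H ⊥ ⊤ ⟨⟨fun p q => Subtype.ext (by
      obtain ⟨a, ha⟩ := QuotientGroup.mk'_surjective (⊥ : Subgroup H) (p : H ⧸ (⊥ : Subgroup H))
      obtain ⟨b, hb⟩ := QuotientGroup.mk'_surjective (⊥ : Subgroup H) (q : H ⧸ (⊥ : Subgroup H))
      show (p : H ⧸ (⊥ : Subgroup H)) * q = q * p
      rw [← ha, ← hb, ← map_mul, ← map_mul]
      exact congrArg _ (Subtype.ext (Subtype.ext (elemAb_comm hE a.2 b.2))))⟩⟩ fun p _ => by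
    obtain ⟨a, rfl⟩ := QuotientGroup.mk'_surjective (⊥ : Subgroup H) p
    rw [← map_pow, show a ^ 2 = 1 from Subtype.ext (Subtype.ext (by
      rw [pow_two]; exact elemAb_sq hE a.2)), map_one]
  rw [Subgroup.card_top, Nat.card_congr QuotientGroup.quotientBot.toEquiv,
    Nat.card_congr (subgroupOfEquivOfLe hES).toEquiv] at h
  exact h

theorem IsFour.two {p : G} {F : Subgroup G} (h : c.IsFour p F) {f : G} (hf : f ∈ F) : f * f = 1 :=
  elemAb_sq h.elem hf

theorem IsFour.ne_one {p : G} {F : Subgroup G} (h : c.IsFour p F) : p ≠ 1 := by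
  obtain ⟨g, rfl, -⟩ := h
  exact fun e => c.z1 (conj_eq_one_iff.1 e)

/-- A four-group of a conjugate `p` of `z` in `T₀`, meeting `U` trivially. -/
structure Pair (c : Hyp G) (p : G) (F : Subgroup G) : Prop where
  four : c.IsFour p F
  le : F ≤ c.T0
  disj : c.U ⊓ F = ⊥

namespace Pair

variable {p : G} {F : Subgroup G}

/-- The elementary subgroup of order 16. -/
abbrev W (_h : c.Pair p F) : Subgroup G := c.U ⊔ F

theorem comm (h : c.Pair p F) : ∀ a ∈ c.U, ∀ f ∈ F, a * f = f * a :=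
  fun _ ha _ hf => (c.T0_comm (h.le hf) ha).symm

theorem elem (h : c.Pair p F) : Cfsg.IsElementaryAbelian 2 h.W := closure_two_comm c.four.elem h.four.elem h.comm

theorem W_le (h : c.Pair p F) : h.W ≤ c.T0 := sup_le c.UleT0 h.le

theorem mem_W (h : c.Pair p F) {w : G} (hw : w ∈ h.W) : ∃ a ∈ c.U, ∃ f ∈ F, a * f = w := by
  have hn : F ≤ normalizer (c.U : Set G) := fun f hf => mem_normalizer_iff.2 fun a =>
    ⟨fun ha => by rw [c.T0_comm (h.le hf) ha, mul_inv_cancel_right]; exact ha, fun ha => by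
      have h1 := c.T0_comm (inv_mem (h.le hf)) ha
      rw [show a = f⁻¹ * (f * a * f⁻¹) * f by group, h1, mul_assoc, inv_mul_cancel, mul_one]; exact ha⟩
  have hw' : w ∈ ((c.U : Set G) * (F : Set G)) := by
    rw [← coe_mul_of_right_le_normalizer_left c.U F hn]; exact hw
  exact hw'

theorem card_W (h : c.Pair p F) : Nat.card h.W = 16 := by
  let φ : c.U × F → h.W := fun x => ⟨x.1.1 * x.2.1, mul_mem (mem_sup_left x.1.2) (mem_sup_right x.2.2)⟩
  have hb : Function.Bijective φ := ⟨by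
    rintro ⟨⟨a, ha⟩, ⟨f, hf⟩⟩ ⟨⟨a', ha'⟩, ⟨f', hf'⟩⟩ e
    have e' : a * f = a' * f' := congrArg Subtype.val e
    have h1 : a'⁻¹ * a = f' * f⁻¹ := by
      rw [show a'⁻¹ * a = a'⁻¹ * (a * f) * f⁻¹ by group, e']; group
    have h2 : a'⁻¹ * a ∈ c.U ⊓ F := ⟨c.U.mul_mem (c.U.inv_mem ha') ha, h1 ▸ F.mul_mem hf' (F.inv_mem hf)⟩
    rw [h.disj, mem_bot] at h2
    have h3 : a' = a := inv_mul_eq_one.1 h2
    subst h3
    have h4 : f = f' := mul_left_cancel e'
    subst h4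
    rfl, fun w => by
      obtain ⟨a, ha, f, hf, e⟩ := h.mem_W w.2
      exact ⟨⟨⟨a, ha⟩, ⟨f, hf⟩⟩, Subtype.ext e⟩⟩
  rw [← Nat.card_congr (Equiv.ofBijective φ hb), Nat.card_prod, c.card_U, h.four.card]

/-- `W` is self-centralising. -/
theorem mem_W_of_comm (h : c.Pair p F) {e : G} (he : e ∈ c.T0) (he2 : e * e = 1)
    (hc : ∀ f ∈ F, e * f = f * e) : e ∈ h.W := by
  have hcW : ∀ w ∈ h.W, e * w = w * e := fun w hw => by
    obtain ⟨a, ha, f, hf, rfl⟩ := h.mem_W hw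
    rw [← mul_assoc, c.T0_comm he ha, mul_assoc, hc f hf, mul_assoc]
  have hE := elemAb_closure (insert e (h.W : Set G))
    (fun a ha b hb => by
      rcases ha with rfl | ha <;> rcases hb with rfl | hb
      · rfl
      · exact hcW b hb
      · exact (hcW a ha).symm
      · exact elemAb_comm h.elem ha hb)
    (fun a ha => by
      rcases ha with rfl | ha
      · exact he2
      · exact elemAb_sq h.elem ha)
  have hle : h.W ≤ closure (insert e (h.W : Set G)) := fun w hw => subset_closure (Set.mem_insert_of_mem e hw)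
  have h16 := c.elem_card ((closure_le _).2 (Set.insert_subset (c.T0_le he) fun w hw => c.T0_le (h.W_le hw))) hE
  have := eq_of_le_of_card_ge hle (by rw [h.card_W]; exact h16)
  rw [this]
  exact subset_closure (Set.mem_insert _ _)

/-- In a 2-group centralising `f ∈ F#` the element `p` or the four-group of `f` is determined. -/
theorem meet_eq (h : c.Pair p F) (hA : c.CaseA) {p' : G} {F' : Subgroup G} (h' : c.Pair p' F') {f : G}
    (hf : f ∈ F) (hf1 : f ≠ 1) (hf' : f ∈ h'.W) : h'.W = h.W := by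
  haveI : Fact (Nat.Prime 2) := ⟨Nat.prime_two⟩
  have h0 : ∀ {q : G}, c.IsFour q F → q ∈ h'.W → h'.W = h.W := by
    intro q hq hqW
    have hqT : q ∈ c.T0 := h.le hq.mem
    have hqU : q ∉ c.U := fun e => hq.ne_one (mem_bot.1 (h.disj ▸ (⟨e, hq.mem⟩ : q ∈ c.U ⊓ F)))
    -- the four-group of `q` in `W'`
    obtain ⟨g, hg⟩ : ∃ g, g * c.z * g⁻¹ = q := ⟨hq.choose, hq.choose_spec.1⟩
    let P : Subgroup G := c.S ⊓ centralizer ({q} : Set G)
    obtain ⟨F₂, hF₂, Q, hQ, hQC, hPQ, hF₂Q⟩ :=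
      c.exists_four ⟨g, hg⟩ (P := P) (c.S_isPGroup.to_le inf_le_left) inf_le_right
    have hWP : h'.W ≤ P := fun w hw =>
      ⟨c.T0_le (h'.W_le hw), mem_centralizer_singleton_iff.2 (elemAb_comm h'.elem hw hqW)⟩
    have hWP' : h.W ≤ P := fun w hw =>
      ⟨c.T0_le (h.W_le hw), mem_centralizer_singleton_iff.2 (elemAb_comm h.elem hw (mem_sup_right hq.mem))⟩
    have hFF : F = F₂ := hq.unique hA hF₂ hQ (le_trans (le_trans le_sup_right hWP') hPQ) hF₂Q
    subst hFF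
    have hcF : ∀ f' ∈ F', ∀ a ∈ F, f' * a = a * f' := by
      intro f' hf2 a ha
      by_cases hqF' : q ∈ F'
      · obtain ⟨x, hx⟩ : ∃ x, x = p' := ⟨_, rfl⟩
        by_cases hfu : c.Fused
        · have h2 : c.IsFour q F' := h'.four.all hfu hqF' hq.ne_one
          exact elemAb_comm hq.elem (hq.unique hA h2 hQ hF₂Q (le_trans (le_trans le_sup_right hWP) hPQ) ▸ hf2) ha
        · have hqp : q = p' := by
            obtain ⟨g', hg', rfl⟩ := id h'.four
            by_contra hne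
            refine hfu (c.fused_of (g := g'⁻¹ * g) (mem_map_conj.1 hqF') ?_ fun e => hne ?_)
            · rw [← hg]; group
            · rw [← hg', ← e]; group
          subst hqp
          exact elemAb_comm hq.elem (hq.unique hA h'.four hQ hF₂Q (le_trans (le_trans le_sup_right hWP) hPQ) ▸ hf2) ha
      · exact (hA.claim_pair h'.four (mem_centralizer_iff.2 fun b hb => elemAb_comm h'.elem (mem_sup_right hb) hqW)
          hqF' hq hQ hQC (le_trans (le_trans le_sup_right hWP) hPQ) hF₂Q).1 f' hf2 a ha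
    refine (eq_of_le_of_card_ge (sup_le le_sup_left fun a ha => ?_) (by rw [h.card_W, h'.card_W])).symm
    exact h'.mem_W_of_comm (h.le ha) (elemAb_sq h.four.elem ha) fun f' hf' => (hcF f' hf' a ha).symm
  by_cases hfu : c.Fused
  · exact h0 (h.four.all hfu hf hf1) hf'
  by_cases hfp : f = p
  · exact h0 h.four (hfp ▸ hf')
  refine h0 h.four (h'.mem_W_of_comm (h.le h.four.mem) (elemAb_sq h.four.elem h.four.mem) fun f' hf'' => ?_)
  -- pull back to the centraliser of an element of `U`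
  obtain ⟨g, hg, hgF⟩ := h.four
  have hfU : g⁻¹ * f * g ∈ c.U := mem_map_conj.1 (hgF ▸ hf)
  set φ : G →* G := (MulAut.conj g⁻¹).toMonoidHom with hφ
  have hφ' : ∀ w, φ w = g⁻¹ * w * g := fun w => by simp [hφ]
  let P : Subgroup G := (c.S ⊓ centralizer ({f} : Set G)).map φ
  have hPC : P ≤ centralizer ({g⁻¹ * f * g} : Set G) := by
    rintro _ ⟨w, hw, rfl⟩
    rw [mem_centralizer_singleton_iff, ← hφ' f, ← map_mul, ← map_mul, mem_centralizer_singleton_iff.1 hw.2]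
  have hmem : ∀ w ∈ c.S, w * f = f * w → φ w ∈ P := fun w hw e =>
    ⟨w, ⟨hw, mem_centralizer_singleton_iff.2 e⟩, rfl⟩
  have hpz : φ p = c.z := by rw [hφ', ← hg]; group
  have h1 := isolated hfu hfU (fun e => hf1 (by rw [show f = g * (g⁻¹ * f * g) * g⁻¹ by group, e]; group))
    (fun e => hfp (by rw [← hg, ← e]; group)) ((c.S_isPGroup.to_le inf_le_left).map φ) hPC
    (hpz ▸ hmem p (c.T0_le (h.le h.four.mem)) (elemAb_comm h.four.elem h.four.mem hf))
    (hmem f' (c.T0_le (h'.le hf'')) (elemAb_comm h'.elem (mem_sup_right hf'') hf'))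
  rw [← hpz, ← map_mul, ← map_mul] at h1
  exact ((MulAut.conj g⁻¹).injective (show _ = _ from h1)).symm

/-- Two different ones meet in `U`. -/
theorem inter (h : c.Pair p F) (hA : c.CaseA) {p' : G} {F' : Subgroup G} (h' : c.Pair p' F') {d : G}
    (hd : d ∈ h.W) (hd' : d ∈ h'.W) : d ∈ c.U ∨ h'.W = h.W := by
  obtain ⟨a, ha, f, hf, rfl⟩ := h.mem_W hd
  by_cases hf1 : f = 1
  · left; rw [hf1, mul_one]; exact ha
  · right
    refine h.meet_eq hA h' hf hf1 ?_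
    have := h'.W.mul_mem (h'.W.inv_mem (mem_sup_left ha)) hd'
    rwa [inv_mul_cancel_left] at this

/-- An element moving `W` only by `U` and centralising some element outside `U` centralises `W`. -/
theorem moves (h : c.Pair p F) (hA : c.CaseA) {e : G} (he : e ∈ c.T0)
    (hU : ∀ f ∈ F, e * f * e⁻¹ * f⁻¹ ∈ c.U) {f : G} (hf : f ∈ F) (hf1 : f ≠ 1) (hef : e * f = f * e)
    {f' : G} (hf' : f' ∈ F) : e * f' = f' * e := by
  haveI : Fact (Nat.Prime 2) := ⟨Nat.prime_two⟩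
  have h0 : ∀ {q : G}, c.IsFour q F → e * q = q * e → e * f' = f' * e := by
    intro q hq heq
    obtain ⟨g, hg⟩ : ∃ g, g * c.z * g⁻¹ = q := ⟨hq.choose, hq.choose_spec.1⟩
    have hP : c.S ⊓ centralizer ({q} : Set G) ≤ centralizer ({q} : Set G) := inf_le_right
    have h1 := hq.norm hA (c.S_isPGroup.to_le (inf_le_left : c.S ⊓ centralizer ({q} : Set G) ≤ c.S)) hP
      (fun a ha => ⟨c.T0_le (h.le ha), hq.le_cent ha⟩)
      (⟨c.T0_le he, mem_centralizer_singleton_iff.2 heq⟩ : e ∈ c.S ⊓ centralizer ({q} : Set G)) hf'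
    have h2 : e * f' * e⁻¹ * f'⁻¹ ∈ c.U ⊓ F := ⟨hU f' hf', F.mul_mem h1 (F.inv_mem hf')⟩
    rw [h.disj, mem_bot] at h2
    exact mul_inv_eq_iff_eq_mul.1 (mul_inv_eq_one.1 h2)
  by_cases hfu : c.Fused
  · exact h0 (h.four.all hfu hf hf1) hef
  by_cases hfp : f = p
  · exact h0 h.four (hfp ▸ hef)
  refine h0 h.four ?_
  obtain ⟨g, hg, hgF⟩ := h.four
  have hfU : g⁻¹ * f * g ∈ c.U := mem_map_conj.1 (hgF ▸ hf)
  set φ : G →* G := (MulAut.conj g⁻¹).toMonoidHom with hφ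
  have hφ' : ∀ w, φ w = g⁻¹ * w * g := fun w => by simp [hφ]
  let P : Subgroup G := (c.S ⊓ centralizer ({f} : Set G)).map φ
  have hPC : P ≤ centralizer ({g⁻¹ * f * g} : Set G) := by
    rintro _ ⟨w, hw, rfl⟩
    rw [mem_centralizer_singleton_iff, ← hφ' f, ← map_mul, ← map_mul, mem_centralizer_singleton_iff.1 hw.2]
  have hmem : ∀ w ∈ c.S, w * f = f * w → φ w ∈ P := fun w hw e =>
    ⟨w, ⟨hw, mem_centralizer_singleton_iff.2 e⟩, rfl⟩
  have hpz : φ p = c.z := by rw [hφ', ← hg]; group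
  have h1 := isolated hfu hfU (fun e => hf1 (by rw [show f = g * (g⁻¹ * f * g) * g⁻¹ by group, e]; group))
    (fun e => hfp (by rw [← hg, ← e]; group)) ((c.S_isPGroup.to_le inf_le_left).map φ) hPC
    (hpz ▸ hmem p (c.T0_le (h.le h.four.mem)) (elemAb_comm h.four.elem h.four.mem hf))
    (hmem e (c.T0_le he) hef)
  rw [← hpz, ← map_mul, ← map_mul] at h1
  exact (MulAut.conj g⁻¹).injective (show _ = _ from h1)

/-- A conjugate of a pair. -/
theorem conj_T (h : c.Pair p F) {y : G} (hy : y ∈ c.S) :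
    c.Pair (y * p * y⁻¹) (F.map (MulAut.conj y).toMonoidHom) where
  four := h.four.conj y
  le := by
    rintro _ ⟨f, hf, rfl⟩
    exact c.T0_normal hy (h.le hf)
  disj := (eq_bot_iff_forall _).2 fun v hv => by
    obtain ⟨hvU, hv'⟩ := hv
    have h1 := mem_map_conj.1 hv'
    have h2 := c.Unormal (inv_mem hy) hvU
    rw [inv_inv] at h2
    have h3 : y⁻¹ * v * y ∈ c.U ⊓ F := ⟨h2, h1⟩
    rw [h.disj, mem_bot] at h3
    rw [show v = y * (y⁻¹ * v * y) * y⁻¹ by group, h3]; group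

theorem conj_W (h : c.Pair p F) {y : G} (hy : y ∈ c.S) :
    (h.conj_T hy).W = h.W.map (MulAut.conj y).toMonoidHom := by
  refine eq_of_le_of_card_ge (sup_le (fun a ha => ?_) (map_mono le_sup_right)) ?_
  · rw [mem_map_conj]
    refine mem_sup_left ?_
    have := c.Unormal (inv_mem hy) ha
    rwa [inv_inv] at this
  · rw [card_map_of_injective (MulAut.conj y).injective, (h.conj_T hy).card_W, h.card_W]

/-- A second pair, the two normalising each other. -/
theorem exists_partner (h : c.Pair p F) : ∃ p' : G, ∃ F' : Subgroup G, ∃ h' : c.Pair p' F', h'.W ≠ h.W ∧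
    (∀ e ∈ h.W, ∀ w ∈ h'.W, e * w * e⁻¹ ∈ h'.W) ∧ ∀ e ∈ h'.W, ∀ w ∈ h.W, e * w * e⁻¹ ∈ h.W := by
  haveI : Fact (Nat.Prime 2) := ⟨Nat.prime_two⟩
  have hWS : h.W ≤ c.S := h.W_le.trans c.T0_le
  let T1 : Subgroup c.S := normalizer ((h.W.subgroupOf c.S : Subgroup c.S) : Set c.S)
  have hne : T1 ≠ ⊤ := fun e => by
    have hn : ∀ x ∈ c.S, ∀ w ∈ h.W, x * w * x⁻¹ ∈ h.W := fun x hx w hw =>
      (mem_normalizer_iff.1 (show (⟨x, hx⟩ : c.S) ∈ T1 from e ▸ mem_top _) ⟨w, hWS hw⟩).1 hw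
    have := c.eight_normal hWS h.elem hn
    rw [h.card_W] at this
    omega
  haveI : Group.IsNilpotent c.S := c.S_isPGroup.isNilpotent
  obtain ⟨y, hy, hy'⟩ := SetLike.exists_of_lt (normalizerCondition_of_isNilpotent T1 (lt_top_iff_ne_top.2 hne))
  have hW1 : ∀ w (hw : w ∈ h.W), (⟨w, hWS hw⟩ : c.S) ∈ T1 := fun w hw =>
    le_normalizer (show (⟨w, hWS hw⟩ : c.S) ∈ h.W.subgroupOf c.S from hw)
  have hnorm : ∀ e : c.S, e ∈ T1 → ∀ w ∈ h.W, (e : G) * w * (e : G)⁻¹ ∈ h.W := fun e he w hw =>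
    (mem_normalizer_iff.1 he ⟨w, hWS hw⟩).1 hw
  refine ⟨_, _, h.conj_T y.2, fun e => hy' ?_, ?_, ?_⟩
  · rw [h.conj_W y.2] at e
    refine mem_normalizer_iff.2 fun w => ⟨fun hw => ?_, fun hw => ?_⟩
    · show (y : G) * w * (y : G)⁻¹ ∈ h.W
      rw [← e]; exact conj_mem_map hw
    · have hw' : (y : G) * w * (y : G)⁻¹ ∈ h.W := hw
      rw [← e, mem_map_conj] at hw'
      show (w : G) ∈ h.W
      simpa [mul_assoc] using hw'
  · intro e he w hw
    rw [h.conj_W y.2, mem_map_conj] at hw ⊢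
    have h1 := hnorm _ ((mem_normalizer_iff.1 (inv_mem hy) _).1 (hW1 e he)) _ hw
    have e1 : ((y⁻¹ * ⟨e, hWS he⟩ * y⁻¹⁻¹ : c.S) : G) = (y : G)⁻¹ * e * y := by simp
    rw [e1] at h1
    rwa [show (y : G)⁻¹ * e * y * ((y : G)⁻¹ * w * y) * ((y : G)⁻¹ * e * y)⁻¹
      = (y : G)⁻¹ * (e * w * e⁻¹) * y by group] at h1
  · intro e he w hw
    rw [h.conj_W y.2] at he
    obtain ⟨e₀, he₀, rfl⟩ := he
    exact hnorm _ ((mem_normalizer_iff.1 hy _).1 (hW1 e₀ he₀)) w hw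

/-- The coset `p U` consists of conjugates of `z`. -/
theorem conj_coset (h : c.Pair p F) (hA : c.CaseA) {a : G} (ha : a ∈ c.U) :
    ∃ g : G, g * c.z * g⁻¹ = a * p := by
  obtain ⟨p', F', h', hne, hWW', hW'W⟩ := h.exists_partner
  have hcom : ∀ e ∈ h'.W, ∀ w ∈ h.W, e * w * e⁻¹ * w⁻¹ ∈ c.U := fun e he w hw => by
    refine (h.inter hA h' (h.W.mul_mem (hW'W e he w hw) (h.W.inv_mem hw)) ?_).resolve_right hne
    rw [show e * w * e⁻¹ * w⁻¹ = e * (w * e⁻¹ * w⁻¹) by group]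
    exact h'.W.mul_mem he (hWW' w hw _ (h'.W.inv_mem he))
  have hpW : p ∈ h.W := mem_sup_right h.four.mem
  let δ : F' → c.U := fun e => ⟨e * p * (e : G)⁻¹ * p⁻¹, hcom e (mem_sup_right e.2) p hpW⟩
  have hinj : Function.Injective δ := by
    intro e e' heq
    have heq' : (e : G) * p * (e : G)⁻¹ * p⁻¹ = (e' : G) * p * (e' : G)⁻¹ * p⁻¹ := congrArg Subtype.val heq
    have hf : (e' : G)⁻¹ * e ∈ F' := mul_mem (inv_mem e'.2) e.2
    by_contra hne'
    have hf1 : (e' : G)⁻¹ * e ≠ 1 := fun q => hne' (Subtype.ext (inv_mul_eq_one.1 q).symm)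
    have hpe : p * ((e' : G)⁻¹ * e) = (e' : G)⁻¹ * e * p := by
      have h1 := mul_right_cancel heq'
      calc p * ((e' : G)⁻¹ * e) = (e' : G)⁻¹ * ((e' : G) * p * (e' : G)⁻¹) * e := by group
        _ = (e' : G)⁻¹ * e * p := by rw [← h1]; group
    have hcU : ∀ f ∈ F', p * f * p⁻¹ * f⁻¹ ∈ c.U := fun f hf => by
      have := inv_mem (hcom f (mem_sup_right hf) p hpW)
      rwa [show (f * p * f⁻¹ * p⁻¹)⁻¹ = p * f * p⁻¹ * f⁻¹ by group] at this
    have hpW' : p ∈ h'.W := h'.mem_W_of_comm (h.le h.four.mem) (elemAb_sq h.four.elem h.four.mem)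
      fun f hf'' => h'.moves hA (h.le h.four.mem) hcU hf hf1 hpe hf''
    rcases h.inter hA h' hpW hpW' with q | q
    · exact h.four.ne_one (mem_bot.1 (h.disj ▸ (⟨q, h.four.mem⟩ : p ∈ c.U ⊓ F)))
    · exact hne q
  haveI : Fintype F' := Fintype.ofFinite _
  haveI : Fintype c.U := Fintype.ofFinite _
  obtain ⟨e, he⟩ := ((Fintype.bijective_iff_injective_and_card δ).2 ⟨hinj, by
    rw [← Nat.card_eq_fintype_card, ← Nat.card_eq_fintype_card, h'.four.card, c.card_U]⟩).2 ⟨a, ha⟩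
  have he' : (e : G) * p * (e : G)⁻¹ * p⁻¹ = a := congrArg Subtype.val he
  obtain ⟨g, hg, -⟩ := h.four
  refine ⟨(e : G) * g, ?_⟩
  rw [← he', ← hg]; group

end Pair

/-- A commuting disjoint pair of four-groups: the coset of the second `z`-element consists of conjugates of `z`. -/
theorem CaseA.coset (hA : c.CaseA) {p₀ p : G} {F₀ F : Subgroup G} (h₀ : c.IsFour p₀ F₀) (h : c.IsFour p F)
    (hc : ∀ a ∈ F₀, ∀ f ∈ F, a * f = f * a) (hd : F₀ ⊓ F = ⊥) {a : G} (ha : a ∈ F₀) :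
    ∃ g : G, g * c.z * g⁻¹ = a * p := by
  haveI : Fact (Nat.Prime 2) := ⟨Nat.prime_two⟩
  obtain ⟨g, rfl, rfl⟩ := h₀
  set φ : G →* G := (MulAut.conj g⁻¹).toMonoidHom with hφ
  have hφ' : ∀ w, φ w = g⁻¹ * w * g := fun w => by simp [hφ]
  have hcU : ∀ b ∈ c.U, ∀ f ∈ F.map φ, b * f = f * b := by
    rintro b hb _ ⟨f, hf, rfl⟩
    have e : φ (g * b * g⁻¹) * φ f = φ f * φ (g * b * g⁻¹) := by
      rw [← map_mul φ, ← map_mul φ, hc _ (conj_mem_map (g := g) hb) f hf]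
    rw [show φ (g * b * g⁻¹) = b by rw [hφ']; group] at e
    exact e
  have hE := closure_two_comm c.four.elem (CoreConsumers.elemAb_map φ h.elem) hcU
  obtain ⟨k, hk, hkS⟩ := c.into_S (Grp.elemAb_isPGroup hE)
    (sup_le c.UleC fun f hf => mem_centralizer_singleton_iff.2 (hcU _ c.zU f hf).symm)
  have hmap := hA.map_U hk fun b hb => hkS b (mem_sup_left hb)
  have hp : c.Pair (k * (g⁻¹ * p * g) * k⁻¹) ((F.map φ).map (MulAut.conj k).toMonoidHom) := by
    refine ⟨?_, ?_, (eq_bot_iff_forall _).2 fun v hv => ?_⟩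
    · have h1 := (h.conj g⁻¹).conj k
      rwa [inv_inv] at h1
    · rintro _ ⟨f, hf, rfl⟩
      refine c.mem_T0.2 ⟨hkS f (mem_sup_right hf), ?_⟩
      obtain ⟨b, hb, hbu⟩ := hmap.ge c.uU
      rw [← hbu]
      exact (conj_comm (hcU b hb f hf)).symm
    · obtain ⟨hvU, hv⟩ := hv
      replace hv := mem_map_conj.1 hv
      have hvU' : k⁻¹ * v * k ∈ c.U := by rw [← mem_map_conj, hmap]; exact hvU
      obtain ⟨f, hf, hfv⟩ := hv
      have h1 : f ∈ c.U.map (MulAut.conj g).toMonoidHom ⊓ F := ⟨by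
        refine mem_map_conj.2 ?_
        rw [← hφ', hfv]; exact hvU', hf⟩
      rw [hd, mem_bot] at h1
      rw [h1, map_one] at hfv
      rw [show v = k * (k⁻¹ * v * k) * k⁻¹ by group, ← hfv]; group
  have haU : g⁻¹ * a * g ∈ c.U := mem_map_conj.1 ha
  obtain ⟨m, hm⟩ := hp.conj_coset hA (hmap ▸ conj_mem_map (g := k) haU)
  refine ⟨g * k⁻¹ * m, ?_⟩
  rw [show g * k⁻¹ * m * c.z * (g * k⁻¹ * m)⁻¹ = g * k⁻¹ * (m * c.z * m⁻¹) * (g * k⁻¹)⁻¹ by group, hm]
  group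

/-- A conjugate of `z` in `T₀ ∖ U` gives a pair. -/
theorem CaseA.exists_pair (hA : c.CaseA) (hno : ¬ c.NoPair) : ∃ p F, c.Pair p F := by
  haveI : Fact (Nat.Prime 2) := ⟨Nat.prime_two⟩
  simp only [NoPair, not_forall] at hno
  obtain ⟨p, hp, ⟨g, hg⟩, hpU⟩ := hno
  obtain ⟨F, hF, Q, hQ, hQC, hPQ, hFQ⟩ :=
    c.exists_four ⟨g, hg⟩ (P := c.S ⊓ centralizer ({p} : Set G)) (c.S_isPGroup.to_le inf_le_left) inf_le_right
  have hUQ : c.U ≤ Q := fun a ha =>
    hPQ ⟨c.UleS ha, mem_centralizer_singleton_iff.2 (c.T0_comm hp ha).symm⟩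
  obtain ⟨hcU, hd⟩ := hA.claim (mem_centralizer_iff.2 fun a ha => (c.T0_comm hp ha).symm) hpU hF hQ hQC hUQ hFQ
  obtain ⟨k, hk, hkS⟩ := c.into_S (Grp.elemAb_isPGroup (closure_two_comm c.four.elem hF.elem hcU))
    (sup_le c.UleC fun f hf => mem_centralizer_singleton_iff.2 (hcU _ c.zU f hf).symm)
  have hmap := hA.map_U hk fun b hb => hkS b (mem_sup_left hb)
  refine ⟨_, _, hF.conj k, ?_, (eq_bot_iff_forall _).2 fun v hv => ?_⟩
  · rintro _ ⟨f, hf, rfl⟩
    refine c.mem_T0.2 ⟨hkS f (mem_sup_right hf), ?_⟩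
    obtain ⟨b, hb, hbu⟩ := hmap.ge c.uU
    rw [← hbu]
    exact (conj_comm (hcU b hb f hf)).symm
  · obtain ⟨hvU, hv⟩ := hv
    replace hv := mem_map_conj.1 hv
    have hvU' : k⁻¹ * v * k ∈ c.U := by rw [← mem_map_conj, hmap]; exact hvU
    have h1 : k⁻¹ * v * k ∈ c.U ⊓ F := ⟨hvU', hv⟩
    rw [hd, mem_bot] at h1
    rw [show v = k * (k⁻¹ * v * k) * k⁻¹ by group, h1]; group

/-- A conjugate of `z` in `T₀ ∖ U` forces fusion in `U`. -/
theorem Pair.fused (hA : c.CaseA) {p : G} {F : Subgroup G} (h : c.Pair p F) : c.Fused := by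
  haveI : Fact (Nat.Prime 2) := ⟨Nat.prime_two⟩
  by_contra hfu
  obtain ⟨f, hf, hf1, hfp⟩ : ∃ f ∈ F, f ≠ 1 ∧ f ≠ p := by
    obtain ⟨g, hg, hgF⟩ := h.four
    refine ⟨g * c.u * g⁻¹, hgF ▸ conj_mem_map c.uU, fun e => c.u1 (conj_eq_one_iff.1 e), fun e => c.uz ?_⟩
    exact conj_inj (e.trans hg.symm)
  have hzf : c.z * f ∈ c.T0 ∧ c.z * f ∉ c.U := by
    refine ⟨mul_mem (c.UleT0 c.zU) (h.le hf), fun e => hf1 ?_⟩
    have h1 : f ∈ c.U ⊓ F := ⟨by
      have := c.U.mul_mem c.zU e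
      rwa [← mul_assoc, c.z2, one_mul] at this, hf⟩
    rwa [h.disj, mem_bot] at h1
  obtain ⟨g, hg⟩ := hA.coset h.four c.isFour_self (fun a ha b hb => (h.comm b hb a ha).symm)
    (by rw [inf_comm]; exact h.disj) hf
  rw [← h.comm _ c.zU f hf] at hg
  obtain ⟨F₂, hF₂, Q, hQ, hQC, hPQ, hFQ⟩ := c.exists_four ⟨g, hg⟩
    (P := c.S ⊓ centralizer ({c.z * f} : Set G)) (c.S_isPGroup.to_le inf_le_left) inf_le_right
  obtain ⟨hcU, hd⟩ := hA.claim (mem_centralizer_iff.2 fun a ha => (c.T0_comm hzf.1 ha).symm) hzf.2 hF₂ hQ hQC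
    (fun a ha => hPQ ⟨c.UleS ha, mem_centralizer_singleton_iff.2 (c.T0_comm hzf.1 ha).symm⟩) hFQ
  obtain ⟨m, hm⟩ := hA.coset c.isFour_self hF₂ hcU hd c.zU
  rw [← mul_assoc, c.z2, one_mul] at hm
  obtain ⟨g₀, hg₀, hg₀F⟩ := h.four
  refine hfu (c.fused_of (g := g₀⁻¹ * m) (mem_map_conj.1 (hg₀F ▸ hf)) ?_ fun e => hfp ?_)
  · rw [← hm]; group
  · rw [← hg₀, ← e]; group

end Hyp

end Cfsg.Agent.Transfer.NoEight
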