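import Cfsg.Agent.Lib.Transfer.NoEight.DuoRad

/-!
# Case A is impossible

With `W, W'` in `O_{2',2}(C(z))` every element of `C(z)` fixes or exchanges them modulo the core, while transfer
moves an element exchanging them to one fixing one of them inside `C(z)`.
-/

set_option autoImplicit false
set_option linter.unusedSectionVars false
set_option linter.style.haveILetI false

namespace Cfsg.Agent.Transfer.NoEight

open Subgroup CoreConsumers.Disc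

universe u

variable {G : Type u} [Group G] [Finite G]

namespace Hyp

variable {c : Hyp G}

/-- A conjugate of a pair by an element normalising `U` and carrying its four-group into `T₀`. -/
theorem Pair.of_conj {p : G} {F : Subgroup G} (h : c.Pair p F) {k : G} (hkU : k ∈ normalizer (c.U : Set G))
    (hle : ∀ f ∈ F, k * f * k⁻¹ ∈ c.T0) :
    c.Pair (k * p * k⁻¹) (F.map (MulAut.conj k).toMonoidHom) where
  four := h.four.conj k
  le := by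
    rintro _ ⟨f, hf, rfl⟩
    exact hle f hf
  disj := (eq_bot_iff_forall _).2 fun v hv => by
    obtain ⟨hvU, hv'⟩ := hv
    have h1 := mem_map_conj.1 hv'
    have h2 : k⁻¹ * v * k ∈ c.U := by
      have := (mem_normalizer_iff.1 (inv_mem hkU) v).1 hvU
      rwa [inv_inv] at this
    have h3 : k⁻¹ * v * k ∈ c.U ⊓ F := ⟨h2, h1⟩
    rw [h.disj, mem_bot] at h3
    rw [show v = k * (k⁻¹ * v * k) * k⁻¹ by group, h3]; group

theorem Pair.of_conj_W {p : G} {F : Subgroup G} (h : c.Pair p F) {k : G} (hkU : k ∈ normalizer (c.U : Set G))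
    (hle : ∀ f ∈ F, k * f * k⁻¹ ∈ c.T0) : (h.of_conj hkU hle).W = h.W.map (MulAut.conj k).toMonoidHom := by
  refine eq_of_le_of_card_ge (sup_le (fun a ha => ?_) (map_mono le_sup_right)) ?_
  · rw [mem_map_conj]
    refine mem_sup_left ?_
    have := (mem_normalizer_iff.1 (inv_mem hkU) a).1 ha
    rwa [inv_inv] at this
  · rw [card_map_of_injective (MulAut.conj k).injective, (h.of_conj hkU hle).card_W, h.card_W]

namespace Duo

variable (d : Duo c)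

/-- An element of `N_{C(z)}(R)` fixes or exchanges `W` and `W'`. -/
theorem perm_R {n : G} (hn : n ∈ centralizer ({c.z} : Set G)) (hnR : n ∈ normalizer (c.R : Set G)) :
    (d.W.map (MulAut.conj n).toMonoidHom = d.W ∧ d.W'.map (MulAut.conj n).toMonoidHom = d.W') ∨
    (d.W.map (MulAut.conj n).toMonoidHom = d.W' ∧ d.W'.map (MulAut.conj n).toMonoidHom = d.W) := by
  have hU := d.caseA n hn hnR
  have l1 : ∀ f ∈ d.F, n * f * n⁻¹ ∈ c.T0 := fun f hf =>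
    (d.caseA.R0_conj hn hnR (d.le_R (Or.inl (mem_sup_right hf))) (d.h.le hf)).2
  have l2 : ∀ f ∈ d.F', n * f * n⁻¹ ∈ c.T0 := fun f hf =>
    (d.caseA.R0_conj hn hnR (d.le_R (Or.inr (mem_sup_right hf))) (d.h'.le hf)).2
  have h1 := d.pair_all (d.h.of_conj hU l1)
  have h2 := d.pair_all (d.h'.of_conj hU l2)
  rw [d.h.of_conj_W hU l1] at h1
  rw [d.h'.of_conj_W hU l2] at h2
  have hne : d.W'.map (MulAut.conj n).toMonoidHom ≠ d.W.map (MulAut.conj n).toMonoidHom :=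
    fun e => d.ne (map_injective (MulAut.conj n).injective e)
  rcases h1 with e1 | e1 <;> rcases h2 with e2 | e2
  · exact absurd (e2.trans e1.symm) hne
  · exact Or.inl ⟨e1, e2⟩
  · exact Or.inr ⟨e1, e2⟩
  · exact absurd (e2.trans e1.symm) hne

/-- The conjugates of `z` in `T` lie in `W` or `W'`. -/
theorem zconj (d : Duo c) {q : G} (hq : q ∈ c.S) (hz : ∃ g : G, g * c.z * g⁻¹ = q) : q ∈ d.W ∨ q ∈ d.W' := by
  haveI : Fact (Nat.Prime 2) := ⟨Nat.prime_two⟩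
  have hqT := d.no_out hq hz
  by_cases hqU : q ∈ c.U
  · exact Or.inl (d.U_W hqU)
  obtain ⟨g, hg⟩ := hz
  obtain ⟨F, hF, Q, hQ, hQC, hPQ, hFQ⟩ :=
    c.exists_four ⟨g, hg⟩ (P := c.S ⊓ centralizer ({q} : Set G)) (c.S_isPGroup.to_le inf_le_left) inf_le_right
  have hUQ : c.U ≤ Q := fun a ha =>
    hPQ ⟨c.UleS ha, mem_centralizer_singleton_iff.2 (c.T0_comm hqT ha).symm⟩
  obtain ⟨hcU, hd⟩ :=
    d.caseA.claim (mem_centralizer_iff.2 fun a ha => (c.T0_comm hqT ha).symm) hqU hF hQ hQC hUQ hFQ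
  obtain ⟨k, hk, hkS⟩ := c.into_S (Grp.elemAb_isPGroup (closure_two_comm c.four.elem hF.elem hcU))
    (sup_le c.UleC fun f hf => mem_centralizer_singleton_iff.2 (hcU _ c.zU f hf).symm)
  have hmap := d.caseA.map_U hk fun b hb => hkS b (mem_sup_left hb)
  have hp : c.Pair (k * q * k⁻¹) (F.map (MulAut.conj k).toMonoidHom) := by
    refine ⟨hF.conj k, ?_, (eq_bot_iff_forall _).2 fun v hv => ?_⟩
    · rintro _ ⟨f, hf, rfl⟩
      refine c.mem_T0.2 ⟨hkS f (mem_sup_right hf), ?_⟩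
      obtain ⟨b, hb, hbu⟩ := hmap.ge c.uU
      rw [← hbu]
      exact (conj_comm (hcU b hb f hf)).symm
    · obtain ⟨hvU, hv⟩ := hv
      replace hv := mem_map_conj.1 hv
      have hvU' : k⁻¹ * v * k ∈ c.U := by rw [← mem_map_conj, hmap]; exact hvU
      have h1 : k⁻¹ * v * k ∈ c.U ⊓ F := ⟨hvU', hv⟩
      rw [hd, mem_bot] at h1
      rw [show v = k * (k⁻¹ * v * k) * k⁻¹ by group, h1]; group
  obtain ⟨w, hwe⟩ : ∃ w, w = k * q * k⁻¹ := ⟨_, rfl⟩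
  have hw : w ∈ d.W ∨ w ∈ d.W' := by
    have hm : w ∈ hp.W := by rw [hwe]; exact mem_sup_right hp.four.mem
    rcases d.pair_all hp with e | e <;> rw [e] at hm
    exacts [Or.inl hm, Or.inr hm]
  obtain ⟨o, ho, n, hn, hnR, hkn⟩ := c.frameZ.frattini hk
  have hni : n⁻¹ ∈ centralizer ({c.z} : Set G) := inv_mem hn
  have hw' : n⁻¹ * w * n⁻¹⁻¹ ∈ d.W ∨ n⁻¹ * w * n⁻¹⁻¹ ∈ d.W' := by
    rcases d.perm_R hni (inv_mem hnR) with ⟨e1, e2⟩ | ⟨e1, e2⟩ <;> rcases hw with h | h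
    · exact Or.inl (e1.le (conj_mem_map h))
    · exact Or.inr (e2.le (conj_mem_map h))
    · exact Or.inr (e1.le (conj_mem_map h))
    · exact Or.inl (e2.le (conj_mem_map h))
  have hwS : w ∈ c.S := c.T0_le (hw.elim d.W_T0 d.W'_T0)
  have hw'S : n⁻¹ * w * n⁻¹⁻¹ ∈ c.S := c.T0_le (hw'.elim d.W_T0 d.W'_T0)
  have e : q = n⁻¹ * w * n⁻¹⁻¹ := by
    refine eq_of_div_oc (t := c.z) c.S_isPGroup hq hw'S ?_
    rw [show q * (n⁻¹ * w * n⁻¹⁻¹)⁻¹ = n⁻¹ * (o⁻¹ * (w * o⁻¹⁻¹ * w⁻¹)) * n⁻¹⁻¹ by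
      rw [hwe, hkn]; group]
    exact oc_conj hni (mul_mem (inv_mem ho) (oc_conj (c.frameZ.le hwS) (inv_mem (inv_mem ho))))
  rw [e]; exact hw'

theorem fix_map {k : G} (h : d.Fix k) : d.W.map (MulAut.conj k).toMonoidHom = d.W := by
  refine eq_of_le_of_card_ge ?_ (by rw [card_map_of_injective (MulAut.conj k).injective])
  rintro _ ⟨w, hw, rfl⟩
  exact h w hw

/-- A conjugate of `z` in `W` is carried to `z` by an element fixing `W`. -/
theorem exists_fix (d : Duo c) {q : G} (hq : q ∈ d.W) (hz : ∃ g : G, g * c.z * g⁻¹ = q) :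
    ∃ k : G, k * q * k⁻¹ = c.z ∧ d.Fix k := by
  haveI : Fact (Nat.Prime 2) := ⟨Nat.prime_two⟩
  obtain ⟨x, hx, hxs⟩ := d.exists_swap
  have hxz : x * c.z * x⁻¹ = c.z := by rw [c.zc hx, mul_inv_cancel_right]
  have hcomp : ∀ {k : G}, (∀ w ∈ d.W, k * w * k⁻¹ ∈ d.W') → k * q * k⁻¹ = c.z →
      ∃ k : G, k * q * k⁻¹ = c.z ∧ d.Fix k := fun {k} hk hkq =>
    ⟨x * k, by rw [show x * k * q * (x * k)⁻¹ = x * (k * q * k⁻¹) * x⁻¹ by group, hkq, hxz], fun w hw => by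
      rw [show x * k * w * (x * k)⁻¹ = x * (k * w * k⁻¹) * x⁻¹ by group]; exact hxs.2 _ (hk w hw)⟩
  by_cases hqU : q ∈ c.U
  · have hq1 : q ≠ 1 := by
      obtain ⟨g, rfl⟩ := hz
      exact fun e => c.z1 (conj_eq_one_iff.1 e)
    obtain ⟨h, hh, hhU, hhz⟩ := d.fused.transitive hqU hq1
    have he : h⁻¹ * q * h⁻¹⁻¹ = c.z := by rw [← hhz]; group
    rcases d.perm_norm (inv_mem hh) (inv_mem hhU) with hf | hs
    · exact ⟨h⁻¹, he, hf.1⟩
    · exact hcomp hs.1 he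
  obtain ⟨a, ha, f, hf, rfl⟩ := d.h.mem_W hq
  have hf1 : f ≠ 1 := fun e => hqU (by rw [e, mul_one]; exact ha)
  obtain ⟨e, he, hef⟩ := d.fill hf hf1 ha
  have heW : e ∈ d.W' := mem_sup_right he
  have hpf : c.Pair f d.F := ⟨d.h.four.all d.fused hf hf1, d.h.le, d.h.disj⟩
  have h2 : c.Pair (a * f) (d.F.map (MulAut.conj e).toMonoidHom) := hef ▸ hpf.conj_T (c.T0_le (d.W'_T0 heW))
  have hW2 : h2.W = d.W := by
    refine eq_of_le_of_card_ge (sup_le le_sup_left ?_) (by rw [d.h.card_W, h2.card_W])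
    rintro _ ⟨y, hy, rfl⟩
    exact d.norm' e heW y (mem_sup_right hy)
  obtain ⟨g, hg, hgF⟩ := h2.four
  set φ : G →* G := (MulAut.conj g⁻¹).toMonoidHom with hφ
  have hφ' : ∀ y, φ y = g⁻¹ * y * g := fun y => by simp [hφ]
  have hP : d.W.map φ ≤ centralizer ({c.z} : Set G) := by
    rintro _ ⟨w, hw, rfl⟩
    rw [mem_centralizer_singleton_iff, show c.z = φ (a * f) by rw [hφ', ← hg]; group, ← map_mul, ← map_mul,
      d.wcomm hw hq]
  obtain ⟨k, hk, hkS⟩ := c.into_S ((c.S_isPGroup.to_le (d.h.W_le.trans c.T0_le)).map φ) hP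
  have hUm : ∀ b ∈ c.U, b ∈ d.W.map φ := fun b hb => ⟨g * b * g⁻¹, by
    show g * b * g⁻¹ ∈ d.W
    rw [← hW2]
    exact mem_sup_right (hgF.symm ▸ conj_mem_map hb), by rw [hφ']; group⟩
  have hmap := d.caseA.map_U hk fun b hb => hkS b (hUm b hb)
  have hkc : ∀ w ∈ d.W, k * g⁻¹ * w * (k * g⁻¹)⁻¹ ∈ c.S := fun w hw => by
    have := hkS _ (mem_map_of_mem φ hw)
    rwa [hφ', show k * (g⁻¹ * w * g) * k⁻¹ = k * g⁻¹ * w * (k * g⁻¹)⁻¹ by group] at this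
  have hF2 : ∀ y ∈ d.F.map (MulAut.conj e).toMonoidHom, k * g⁻¹ * y * (k * g⁻¹)⁻¹ ∈ c.U := fun y hy => by
    have h1 := mem_map_conj.1 (hgF ▸ hy)
    have h2 := hmap.le (conj_mem_map (g := k) h1)
    rwa [show k * (g⁻¹ * y * g) * k⁻¹ = k * g⁻¹ * y * (k * g⁻¹)⁻¹ by group] at h2
  obtain ⟨m, hm⟩ : ∃ m, m = k * g⁻¹ := ⟨_, rfl⟩
  rw [← hm] at hkc hF2
  have hp : c.Pair (m * c.z * m⁻¹) (c.U.map (MulAut.conj m).toMonoidHom) := by
    refine ⟨c.isFour_self.conj m, ?_, (eq_bot_iff_forall _).2 fun v hv => ?_⟩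
    · rintro _ ⟨b, hb, rfl⟩
      refine c.mem_T0.2 ⟨hkc b (d.U_W hb), ?_⟩
      obtain ⟨b', hb', hbu⟩ := hmap.ge c.uU
      have hbW : g * b' * g⁻¹ ∈ d.W := by
        rw [← hW2]; exact mem_sup_right (hgF.symm ▸ conj_mem_map hb')
      have e1 : m * (g * b' * g⁻¹) * m⁻¹ = c.u := by
        rw [hm, ← hbu]; simp [mul_assoc]
      rw [← e1]
      exact conj_comm (d.wcomm (d.U_W hb) hbW)
    · obtain ⟨hvU, hv⟩ := hv
      replace hv := mem_map_conj.1 hv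
      obtain ⟨b', hb', hbv⟩ := hmap.ge hvU
      have h1 : m⁻¹ * v * m ∈ c.U ⊓ (d.F.map (MulAut.conj e).toMonoidHom) := by
        refine ⟨hv, ?_⟩
        rw [hgF]
        refine mem_map_conj.2 ?_
        rw [show g⁻¹ * (m⁻¹ * v * m) * g = b' by rw [hm, ← hbv]; simp [mul_assoc]]
        exact hb'
      rw [h2.disj, mem_bot] at h1
      rw [show v = m * (m⁻¹ * v * m) * m⁻¹ by group, h1]; group
  have hmW : ∀ w ∈ d.W, m * w * m⁻¹ ∈ hp.W := fun w hw => by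
    rw [← hW2] at hw
    obtain ⟨b, hb, y, hy, rfl⟩ := h2.mem_W hw
    rw [← conj_mul]
    exact mul_mem (mem_sup_right (conj_mem_map hb)) (mem_sup_left (hF2 y hy))
  have hmq : m * (a * f) * m⁻¹ = c.z := by
    rw [hm, show k * g⁻¹ * (a * f) * (k * g⁻¹)⁻¹ = k * (g⁻¹ * (a * f) * g) * k⁻¹ by group, ← hg,
      show g⁻¹ * (g * c.z * g⁻¹) * g = c.z by group, mem_centralizer_singleton_iff.1 hk, mul_inv_cancel_right]
  rcases d.pair_all hp with r | r <;> rw [r] at hmW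
  · exact ⟨m, hmq, hmW⟩
  · exact hcomp hmW hmq

theorem absurd_duo (d : Duo c) : False := by
  classical
  haveI : Fact (Nat.Prime 2) := ⟨Nat.prime_two⟩
  obtain ⟨x, hx, hxs⟩ := d.exists_swap
  have hinv : ∀ {s}, s ∈ c.S → d.Fix s → d.Fix s⁻¹ := fun {s} hs hf => by
    rcases d.perm (inv_mem hs) with h | h
    · exact h.1
    · have := d.swap_inv (inv_mem hs) h
      rw [inv_inv] at this
      exact absurd hf (d.swap_not_fix hs this)
  let M : Subgroup G :=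
    { carrier := {s | s ∈ c.S ∧ d.Fix s}
      one_mem' := ⟨one_mem _, fun w hw => by simpa using hw⟩
      mul_mem' := fun ha hb => ⟨c.S.mul_mem ha.1 hb.1, d.fix_mul ha.2 hb.2⟩
      inv_mem' := fun ha => ⟨c.S.inv_mem ha.1, hinv ha.1 ha.2⟩ }
  have hM : ∀ s, s ∈ M ↔ s ∈ c.S ∧ d.Fix s := fun s => Iff.rfl
  have hidx : M.relIndex c.S = 2 := by
    refine index_eq_two_iff.2 ⟨⟨x, hx⟩, fun b => ?_⟩
    simp only [mem_subgroupOf, coe_mul]
    rcases d.perm b.2 with h | h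
    · refine Or.inr ⟨(hM _).2 ⟨b.2, h.1⟩, fun e => d.swap_not_fix hx hxs ?_⟩
      have := d.fix_mul (hinv b.2 h.1) ((hM _).1 e).2
      rwa [inv_mul_cancel_left] at this
    · exact Or.inl ⟨(hM _).2 ⟨c.S.mul_mem b.2 hx, d.swap_mul h hxs⟩,
        fun e => d.swap_not_fix b.2 h ((hM _).1 e).2⟩
  haveI : Nonempty {s : G // s ∈ c.S ∧ s ∉ M} := ⟨⟨x, hx, fun h => d.swap_not_fix hx hxs ((hM _).1 h).2⟩⟩
  obtain ⟨⟨y, hy, hyM⟩, hmin⟩ := Finite.exists_min fun s : {s : G // s ∈ c.S ∧ s ∉ M} => orderOf (s : G)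
  have hpow : ∀ (g : G) (j : ℕ), g * y ^ (2 ^ (j + 1)) * g⁻¹ ∈ c.S → g * y ^ (2 ^ (j + 1)) * g⁻¹ ∈ M := by
    intro g j hj
    by_contra hn
    have h1 : orderOf y ≤ orderOf (g * y ^ (2 ^ (j + 1)) * g⁻¹) := hmin ⟨_, hj, hn⟩
    obtain ⟨k, hk⟩ := (IsPGroup.iff_orderOf.1 c.S_isPGroup) ⟨y, hy⟩
    rw [← Subgroup.orderOf_coe] at hk
    change orderOf y = 2 ^ k at hk
    have h2 : (g * y ^ (2 ^ (j + 1)) * g⁻¹) ^ 2 ^ (k - 1) = 1 := by
      rw [conj_pow, ← pow_mul, ← pow_add,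
        orderOf_dvd_iff_pow_eq_one.1 (hk ▸ pow_dvd_pow 2 (by omega : k ≤ j + 1 + (k - 1))), mul_one, mul_inv_cancel]
    rcases k with _ | k
    · rw [pow_zero, orderOf_eq_one_iff] at hk
      exact hyM (hk ▸ one_mem _)
    · have h3 := Nat.le_of_dvd (pow_pos two_pos _) (orderOf_dvd_of_pow_eq_one h2)
      rw [Nat.add_sub_cancel] at h3
      rw [hk, pow_succ] at h1
      have := Nat.two_pow_pos k
      omega
  obtain ⟨g₀, hg₀M, hg₀S⟩ := c.extremal (M := M) (fun s hs => hs.1) hidx hy hpow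
  have hzS₀ : g₀ * c.z * g₀⁻¹ ∈ c.S := hg₀S c.z c.zS (c.zc hy).symm
  -- arrange the image of `z` in `W`
  obtain ⟨g, hgM, hgW⟩ : ∃ g : G, g * y * g⁻¹ ∈ M ∧ g * c.z * g⁻¹ ∈ d.W := by
    rcases d.zconj hzS₀ ⟨g₀, rfl⟩ with h | h
    · exact ⟨g₀, hg₀M, h⟩
    · refine ⟨x * g₀, (hM _).2 ⟨?_, ?_⟩, ?_⟩
      · rw [show x * g₀ * y * (x * g₀)⁻¹ = x * (g₀ * y * g₀⁻¹) * x⁻¹ by group]
        exact c.S.mul_mem (c.S.mul_mem hx ((hM _).1 hg₀M).1) (c.S.inv_mem hx)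
      · intro w hw
        have hf' : d.symm.Fix (g₀ * y * g₀⁻¹) := by
          rcases d.perm ((hM _).1 hg₀M).1 with hh | hh
          · exact hh.2
          · exact absurd ((hM _).1 hg₀M).2 (d.swap_not_fix ((hM _).1 hg₀M).1 hh)
        rw [show x * g₀ * y * (x * g₀)⁻¹ * w * (x * g₀ * y * (x * g₀)⁻¹)⁻¹
          = x * ((g₀ * y * g₀⁻¹) * (x⁻¹ * w * x⁻¹⁻¹) * (g₀ * y * g₀⁻¹)⁻¹) * x⁻¹ by group]
        exact hxs.2 _ (hf' _ ((d.swap_inv hx hxs).1 w hw))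
      · rw [show x * g₀ * c.z * (x * g₀)⁻¹ = x * (g₀ * c.z * g₀⁻¹) * x⁻¹ by group]
        exact hxs.2 _ h
  obtain ⟨k, hkz, hkF⟩ := d.exists_fix hgW ⟨g, rfl⟩
  obtain ⟨o, ho, n, hn, hnR, hkg⟩ := c.frameZ.frattini (g := k * g) (by
    rw [mem_centralizer_singleton_iff]
    refine mul_inv_eq_iff_eq_mul.1 ?_
    rw [show k * g * c.z * (k * g)⁻¹ = k * (g * c.z * g⁻¹) * k⁻¹ by group, hkz])
  obtain ⟨s, hs⟩ : ∃ s, s = n * y * n⁻¹ := ⟨_, rfl⟩
  have hsC : s ∈ centralizer ({c.z} : Set G) := hs ▸ mul_mem (mul_mem hn (c.frameZ.le hy)) (inv_mem hn)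
  have hnU := d.caseA n hn hnR
  have hsU : s ∈ normalizer (c.U : Set G) := hs ▸ mul_mem (mul_mem hnU (c.S_norm hy).2) (inv_mem hnU)
  have hys := (d.perm hy).resolve_left fun h => hyM ((hM _).2 ⟨hy, h.1⟩)
  have hp : d.p ∈ d.W := d.p_W
  have hw1 : s * d.p * s⁻¹ ∈ d.W' := by
    rw [hs, show n * y * n⁻¹ * d.p * (n * y * n⁻¹)⁻¹ = n * (y * (n⁻¹ * d.p * n) * y⁻¹) * n⁻¹ by group]
    rcases d.perm_R hn hnR with ⟨e1, e2⟩ | ⟨e1, e2⟩
    · exact e2.le (conj_mem_map (hys.1 _ (mem_map_conj.1 (e1.ge hp))))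
    · exact e1.le (conj_mem_map (hys.2 _ (mem_map_conj.1 (e2.ge hp))))
  -- the same element fixes `W`
  obtain ⟨w₂, hw₂, hw₂e⟩ : ∃ w₂, w₂ ∈ d.W ∧ w₂ = o * s * o⁻¹ * d.p * (o * s * o⁻¹)⁻¹ := by
    refine ⟨_, ?_, rfl⟩
    have e : o * s * o⁻¹ = k * (g * y * g⁻¹) * k⁻¹ := by
      rw [hs, show o * (n * y * n⁻¹) * o⁻¹ = (o * n) * y * (o * n)⁻¹ by group, ← hkg]; group
    rw [e, show k * (g * y * g⁻¹) * k⁻¹ * d.p * (k * (g * y * g⁻¹) * k⁻¹)⁻¹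
      = k * ((g * y * g⁻¹) * (k⁻¹ * d.p * k) * (g * y * g⁻¹)⁻¹) * k⁻¹ by group]
    exact hkF _ (((hM _).1 hgM).2 _ (mem_map_conj.1 ((d.fix_map hkF).ge hp)))
  have heq : w₂ = s * d.p * s⁻¹ := by
    refine eq_of_div_oc (t := c.z) c.S_isPGroup (c.T0_le (d.W_T0 hw₂)) (c.T0_le (d.W'_T0 hw1)) ?_
    have hpC := c.frameZ.le (c.T0_le (d.W_T0 hp))
    rw [hw₂e, show o * s * o⁻¹ * d.p * (o * s * o⁻¹)⁻¹ * (s * d.p * s⁻¹)⁻¹
      = o * (s * (o⁻¹ * (d.p * o * d.p⁻¹)) * s⁻¹) * ((s * d.p * s⁻¹) * o⁻¹ * (s * d.p * s⁻¹)⁻¹) by group]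
    exact mul_mem (mul_mem ho (oc_conj hsC (mul_mem (inv_mem ho) (oc_conj hpC ho))))
      (oc_conj (mul_mem (mul_mem hsC hpC) (inv_mem hsC)) (inv_mem ho))
  exact d.p_notU ((mem_normalizer_iff.1 hsU _).2 (d.inter (heq ▸ hw₂) hw1))

end Duo

/-- Case A is impossible. -/
theorem CaseA.absurd_caseA (hA : c.CaseA) : False := by
  by_cases hno : c.NoPair
  · exact hno.false hA
  obtain ⟨p, F, h⟩ := hA.exists_pair hno
  obtain ⟨d⟩ := hA.exists_duo h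
  exact d.absurd_duo

end Hyp

end Cfsg.Agent.Transfer.NoEight
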