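import Cfsg.Prelude
import Cfsg.Agent.Lib.Local.CoreConsumers.FourSetting
import Cfsg.Agent.Lib.Fus.FourConnected

/-!
# An elementary subgroup of order at least eight in a given Sylow 2-subgroup
-/

set_option autoImplicit false
set_option linter.style.haveILetI false

namespace Cfsg.Agent.Transfer.NoEight

open Subgroup

universe u

theorem exists_eight {G : Type u} [Group G] [Finite G] (h : ¬ Cfsg.PRankLE 2 2 G) (T : Sylow 2 G) :
    ∃ F : Subgroup G, F ≤ (T : Subgroup G) ∧ Cfsg.IsElementaryAbelian 2 F ∧ 8 ≤ Nat.card F := by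
  haveI : Fact (Nat.Prime 2) := ⟨Nat.prime_two⟩
  simp only [Cfsg.PRankLE, not_forall, not_le] at h
  obtain ⟨F, hFc, hF2, hF⟩ := h
  have hFe : Cfsg.IsElementaryAbelian 2 F := ⟨hFc, hF2⟩
  have h8 : 8 ≤ Nat.card F := by
    obtain ⟨k, hk⟩ := (Grp.elemAb_isPGroup (p := 2) hFe).exists_card_eq
    rw [hk] at hF ⊢
    rcases Nat.lt_or_ge k 3 with h | h
    · exact absurd (Nat.pow_le_pow_right two_pos (show k ≤ 2 by omega)) (by omega)
    · exact le_trans (by norm_num) (Nat.pow_le_pow_right two_pos h)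
  obtain ⟨S, hS⟩ := (Grp.elemAb_isPGroup (p := 2) hFe).exists_le_sylow
  obtain ⟨g, hg⟩ := MulAction.exists_smul_eq G S T
  refine ⟨F.map (MulAut.conj g).toMonoidHom, ?_, CoreConsumers.elemAb_map _ hFe, ?_⟩
  · rw [← hg, Fus.FourGraph.sylow_smul]
    exact map_mono hS
  · rwa [Subgroup.card_map_of_injective (MulAut.conj g).injective]

end Cfsg.Agent.Transfer.NoEight
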