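import Cfsg.Agent.Lib.Transfer.NoEight.Basic
import Cfsg.Agent.Lib.Invol.OneInvol

/-!
# The normal four-group is unique

A second one gives `T = D * C` with `D` dihedral of order eight and `C` without noncentral normal involutions;
then the only involution which is a square in `T` is `z`, and `z` is isolated.
-/

set_option autoImplicit false
set_option linter.unusedSectionVars false
set_option linter.style.haveILetI false

namespace Cfsg.Agent.Transfer.NoEight

open Subgroup CoreConsumers.Disc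

universe u

/-- In a cyclic 2-group acting on itself by odd powers, the square of an odd number is one more than a multiple
of four. -/
theorem two_odd_dvd {n : ℕ} {i r : ℤ} (hr : ¬ (2 : ℤ) ∣ r) (h : (2 : ℤ) ^ (n + 1) ∣ i * (1 + r * r)) :
    (2 : ℤ) ^ n ∣ i := by
  obtain ⟨k, rfl⟩ : ∃ k, r = 2 * k + 1 := ⟨r / 2, by omega⟩
  have e : i * (1 + (2 * k + 1) * (2 * k + 1)) = 2 * (i * (2 * k * k + 2 * k + 1)) := by ring
  rw [e, pow_succ', mul_dvd_mul_iff_left two_ne_zero] at h
  refine IsCoprime.dvd_of_dvd_mul_right ?_ h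
  refine IsCoprime.pow_left ?_
  exact ⟨-(k * k + k), 1, by ring⟩

namespace Hyp

variable {G : Type u} [Group G] [Finite G] (c : Hyp G)

/-- A second normal four-group gives an involution `v` of `T` with conjugates `v`, `z v`, not centralising `u`. -/
structure Second (v : G) : Prop where
  vS : v ∈ c.S
  v2 : v * v = 1
  conj : ∀ g ∈ c.S, g * v * g⁻¹ = v ∨ g * v * g⁻¹ = c.z * v
  vu : v * c.u * v⁻¹ = c.z * c.u

variable {c}

theorem Second.uv {v : G} (h : c.Second v) : c.u * v * c.u⁻¹ = c.z * v := by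
  refine (h.conj _ c.uS).resolve_left fun e => c.zu_ne_u ?_
  rw [← h.vu]
  rw [mul_inv_eq_iff_eq_mul] at e
  rw [← e, mul_inv_cancel_right]

theorem Second.false {v : G} (h : c.Second v) : False := by
  classical
  haveI : Fact (Nat.Prime 2) := ⟨Nat.prime_two⟩
  have hvi : v⁻¹ = v := inv_eq_of_mul_eq_one_right h.v2
  have huv := h.uv
  have hv0 : v ∉ c.T0 := fun e => c.zu_ne_u (by rw [← h.vu, (c.mem_T0.1 e).2, mul_inv_cancel_right])
  have hnc : ¬ c.S ≤ c.T0 := fun e => hv0 (e h.vS)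
  set C := c.T0 ⊓ centralizer ({v} : Set G) with hC
  have hCS : C ≤ c.S := inf_le_left.trans c.T0_le
  have hCu : ∀ x ∈ C, x * c.u = c.u * x := fun x hx => (c.mem_T0.1 hx.1).2
  have hCv : ∀ x ∈ C, x * v = v * x := fun x hx => mem_centralizer_singleton_iff.1 hx.2
  have hzC : c.z ∈ C := ⟨c.UleT0 c.zU, mem_centralizer_singleton_iff.2 (c.zc h.vS).symm⟩
  -- the decomposition
  have hdec : ∀ g ∈ c.S, ∃ d ∈ ({1, c.u, v, c.u * v} : Set G), d⁻¹ * g ∈ C := by
    intro g hg
    have hT0v : ∀ t ∈ c.T0, ∃ d ∈ ({1, c.u} : Set G), d⁻¹ * t ∈ C := by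
      intro t ht
      rcases h.conj t (c.T0_le ht) with e | e
      · exact ⟨1, Or.inl rfl, by rw [inv_one, one_mul]; exact ⟨ht, mem_centralizer_singleton_iff.2 (mul_inv_eq_iff_eq_mul.1 e)⟩⟩
      · refine ⟨c.u, Or.inr rfl, c.T0.mul_mem (c.T0.inv_mem (c.UleT0 c.uU)) ht, mem_centralizer_singleton_iff.2 ?_⟩
        refine mul_inv_eq_iff_eq_mul.1 ?_
        rw [show c.u⁻¹ * t * v * (c.u⁻¹ * t)⁻¹ = c.u⁻¹ * (t * v * t⁻¹) * c.u by group, e, c.ui]
        rw [c.ui] at huv
        rw [← mul_assoc, ← c.zu, mul_assoc c.z, mul_assoc c.z, huv, ← mul_assoc, c.z2, one_mul]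
    by_cases hgT : g ∈ c.T0
    · obtain ⟨d, hd, hdC⟩ := hT0v g hgT
      refine ⟨d, ?_, hdC⟩
      rcases hd with rfl | rfl <;> simp
    · obtain ⟨d, hd, hdC⟩ := hT0v (v * g) (c.out_mul h.vS hg hv0 hgT)
      rcases hd with rfl | rfl
      · exact ⟨v, by simp, by simpa [hvi] using hdC⟩
      · refine ⟨c.u * v, by simp, ?_⟩
        have e : (c.u * v)⁻¹ * g = v * c.u * v⁻¹ * c.u * (c.u⁻¹ * (v * g)) := by
          rw [show (c.u * v)⁻¹ = v * c.u by rw [mul_inv_rev, hvi, c.ui]]
          group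
        rw [e, h.vu, mul_assoc c.z c.u c.u, c.u2, mul_one]
        exact mul_mem hzC hdC
  have hCD : ∀ d ∈ ({1, c.u, v, c.u * v} : Set G), ∀ x ∈ C, d * x = x * d := by
    intro d hd x hx
    rcases hd with rfl | rfl | rfl | rfl
    · simp
    · exact (hCu x hx).symm
    · exact (hCv x hx).symm
    · exact (Commute.mul_left (hCu x hx).symm (hCv x hx).symm : Commute (c.u * v) x).eq
  have hg_eq : ∀ g ∈ c.S, ∃ d ∈ ({1, c.u, v, c.u * v} : Set G), ∃ x ∈ C, g = d * x := fun g hg =>
    let ⟨d, hd, hx⟩ := hdec g hg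
    ⟨d, hd, _, hx, (mul_inv_cancel_left _ _).symm⟩
  have hdS : ∀ d ∈ ({1, c.u, v, c.u * v} : Set G), d ∈ c.S := by
    rintro d (rfl | rfl | rfl | rfl)
    exacts [one_mem _, c.uS, h.vS, mul_mem c.uS h.vS]
  -- normal elementary subgroups of `C` lie in `⟨z⟩`
  have hsmall : ∀ s : Set G, s ⊆ (C : Set G) → (∀ a ∈ s, ∀ b ∈ s, a * b = b * a) → (∀ a ∈ s, a * a = 1) →
      (∀ x ∈ C, ∀ a ∈ s, x * a * x⁻¹ ∈ closure (s ∪ (c.U : Set G))) → ∀ a ∈ s, a = 1 ∨ a = c.z := by
    intro s hs hcm h2 hn a ha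
    have hE := elemAb_closure (s ∪ (c.U : Set G))
      (fun x hx y hy => by
        rcases hx with hx | hx <;> rcases hy with hy | hy
        · exact hcm x hx y hy
        · exact c.T0_comm (hs hx).1 hy
        · exact (c.T0_comm (hs hy).1 hx).symm
        · exact elemAb_comm c.four.elem hx hy)
      (fun x hx => hx.elim (h2 x) fun hx => c.four.mul_self hx)
    have he := c.le_U ((closure_le _).2 (Set.union_subset (fun x hx => hCS (hs hx)) c.UleS)) hE
      (fun g hg e he => by
        induction he using closure_induction with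
        | mem y hy =>
          rcases hy with hy | hy
          · obtain ⟨d, hd, x, hx, rfl⟩ := hg_eq g hg
            have h1 := hn x hx y hy
            rw [show d * x * y * (d * x)⁻¹ = d * (x * y * x⁻¹) * d⁻¹ by group,
              hCD d hd _ (mul_mem (mul_mem hx (hs hy)) (inv_mem hx)), mul_inv_cancel_right]
            exact h1
          · exact subset_closure (Or.inr (c.Unormal hg hy))
        | one => simp
        | mul x y _ _ ihx ihy => rw [← conj_mul]; exact mul_mem ihx ihy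
        | inv x _ ih => rw [← conj_inv]; exact inv_mem ih)
      fun x hx => subset_closure (Or.inr hx)
    have haU : a ∈ c.U := by rw [← he]; exact subset_closure (Or.inl ha)
    have hav := hCv a (hs ha)
    rcases c.Ucases haU with r | r | r | r
    · exact Or.inl r
    · exact Or.inr r
    · exact absurd (c.mem_T0.2 ⟨h.vS, by rw [← r]; exact hav.symm⟩) hv0
    · refine absurd (c.mem_T0.2 ⟨h.vS, ?_⟩) hv0
      rw [r, ← mul_assoc v, c.zc h.vS, mul_assoc c.z v, mul_assoc c.z c.u] at hav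
      exact (mul_left_cancel hav).symm
  -- a self-centralising normal abelian subgroup of `C`
  have hCp : IsPGroup 2 C := c.S_isPGroup.to_le hCS
  haveI : Group.IsNilpotent C := hCp.isNilpotent
  obtain ⟨A, hAn, hAab, hAc⟩ := OneInvol.exists_selfCentralizing_abelian (R := C)
  have hinvA : ∀ b ∈ A, b * b = 1 → (b : G) = 1 ∨ (b : G) = c.z := fun b hb hb2 => by
    refine hsmall {y | ∃ b ∈ A, b * b = 1 ∧ (b : G) = y} ?_ ?_ ?_ ?_ _ ⟨b, hb, hb2, rfl⟩
    · rintro _ ⟨b, -, -, rfl⟩; exact b.2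
    · rintro _ ⟨b, hb, -, rfl⟩ _ ⟨b', hb', -, rfl⟩
      exact congrArg Subtype.val (hAab b hb b' hb').eq
    · rintro _ ⟨b, -, hb2, rfl⟩
      exact congrArg Subtype.val hb2
    · rintro x hx _ ⟨b, hb, hb2, rfl⟩
      exact subset_closure (Or.inl ⟨⟨x, hx⟩ * b * (⟨x, hx⟩ : C)⁻¹, hAn.conj_mem b hb _, by
        rw [conj_mul, hb2, mul_one, mul_inv_cancel], rfl⟩)
  obtain ⟨a, -, hAa⟩ := OneInvol.exists_zpowers_eq (R := A) (hCp.to_subgroup A) (A := ⊤)
    (fun x _ y _ => Subtype.ext (hAab x x.2 y y.2).eq) fun x y hx hy => by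
      have key : ∀ t : A, orderOf t = 2 → ((t : C) : G) = c.z := fun t ht => by
        refine (hinvA t t.2 ?_).resolve_left fun e => ?_
        · rw [← Subgroup.coe_mul, ← pow_two, ← ht, pow_orderOf_eq_one, OneMemClass.coe_one]
        · rw [show t = 1 from Subtype.ext (Subtype.ext e), orderOf_one] at ht
          omega
      exact Subtype.ext (Subtype.ext ((key x hx).trans (key y hy).symm))
  set b : G := ((a : C) : G) with hb
  have hbA : ∀ t : C, t ∈ A ↔ ∃ i : ℤ, b ^ i = (t : G) := fun t => by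
    constructor
    · intro ht
      obtain ⟨i, hi⟩ := mem_zpowers_iff.1 (hAa ▸ mem_top (⟨t, ht⟩ : A))
      exact ⟨i, by simpa [hb] using congrArg (fun s : A => ((s : C) : G)) hi⟩
    · rintro ⟨i, hi⟩
      rw [show t = (a : C) ^ i from Subtype.ext (by simpa [hb] using hi.symm)]
      exact zpow_mem a.2 i
  have hbC : b ∈ C := (a : C).2
  obtain ⟨n, hn⟩ := (IsPGroup.iff_orderOf.1 hCp) (a : C)
  rw [← Subgroup.orderOf_coe] at hn
  change orderOf b = 2 ^ n at hn
  have hbi : ∀ i : ℤ, (b ^ i = 1 ↔ (2 : ℤ) ^ n ∣ i) := fun i => by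
    rw [← orderOf_dvd_iff_zpow_eq_one, hn]
    norm_num
  have hbz : ∀ i : ℤ, b ^ i * b ^ i = 1 → b ^ i = 1 ∨ b ^ i = c.z := fun i hi =>
    hinvA ⟨b ^ i, zpow_mem hbC i⟩ ((hbA _).2 ⟨i, rfl⟩) (Subtype.ext hi)
  have hcent : ∀ x ∈ C, x * b = b * x → ∃ i : ℤ, b ^ i = x := fun x hx e =>
    (hbA ⟨x, hx⟩).1 (hAc ⟨x, hx⟩ fun t ht => by
      obtain ⟨i, hi⟩ := (hbA t).1 ht
      refine Subtype.ext ?_
      show (t : G) * x = x * t
      rw [← hi]
      exact ((Commute.zpow_right (show Commute x b from e) i).symm).eq)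
  -- the order of `b` is at least four
  have hn2 : 2 ≤ n := by
    by_contra hlt
    have hb1 : b = 1 ∨ b = c.z := by
      have h2 : b ^ (1 : ℤ) * b ^ (1 : ℤ) = 1 := by
        rw [← zpow_add, hbi]
        exact pow_dvd_pow 2 (show n ≤ 1 by omega)
      simpa using hbz 1 h2
    have hC2 : ∀ x ∈ C, x = 1 ∨ x = c.z := fun x hx => by
      obtain ⟨i, rfl⟩ := hcent x hx (by
        rcases hb1 with e | e <;> rw [e]
        · simp
        · exact c.zc (hCS hx))
      rcases Int.even_or_odd i with ⟨k, rfl⟩ | ⟨k, rfl⟩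
      · left
        rcases hb1 with e | e <;> rw [e]
        · simp
        · rw [zpow_add, ← (Commute.refl c.z).mul_zpow, c.z2, one_zpow]
      · rcases hb1 with e | e <;> rw [e]
        · simp
        · right
          rw [zpow_add, zpow_one, zpow_mul, zpow_two, c.z2, one_zpow, one_mul]
    obtain ⟨F, hFS, hF, h8⟩ := c.rank3
    have hFU : ∀ x ∈ F, x * c.u = c.u * x → x ∈ c.U := fun x hx hxu => by
      obtain ⟨d, hd, y, hy, rfl⟩ := hg_eq x (hFS hx)
      have hyU : y ∈ c.U := by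
        rcases hC2 y hy with r | r <;> rw [r]
        exacts [one_mem _, c.zU]
      have hdu : d * c.u = c.u * d := by
        rw [mul_assoc, hCu y hy, ← mul_assoc, ← mul_assoc c.u d] at hxu
        exact mul_right_cancel hxu
      refine mul_mem ?_ hyU
      rcases hd with rfl | rfl | rfl | rfl
      · exact one_mem _
      · exact c.uU
      · exact absurd (c.mem_T0.2 ⟨h.vS, hdu⟩) hv0
      · refine absurd (c.mem_T0.2 ⟨h.vS, ?_⟩) hv0
        rw [mul_assoc] at hdu
        exact mul_left_cancel hdu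
    have h1 := c.four.card_le_two_mul c.uU c.u1 c.uz hFS
    have h2 : Nat.card ↥(F ⊓ centralizer ({c.u} : Set G)) ≤ 4 := by
      rw [← c.card_U]
      exact card_le_of_le fun x hx => hFU x hx.1 (mem_centralizer_singleton_iff.1 hx.2)
    have he : F ⊓ centralizer ({c.u} : Set G) = c.U := eq_of_le_of_card_ge
      (fun x hx => hFU x hx.1 (mem_centralizer_singleton_iff.1 hx.2)) (by rw [c.card_U]; omega)
    have h4 : Nat.card F ≤ 4 := by
      rw [← c.card_U]
      refine card_le_of_le fun x hx => hFU x hx ?_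
      have huF : c.u ∈ F := (he.ge c.uU).1
      exact elemAb_comm hF hx huF
    omega
  set w := b ^ ((2 : ℤ) ^ (n - 2)) with hw
  have hww : w * w = c.z := by
    rw [hw, ← zpow_add]
    refine (hbz _ ?_).resolve_left fun e => ?_
    · rw [← zpow_add, hbi]
      exact ⟨1, by rw [mul_one, ← two_mul, ← two_mul, ← pow_succ', ← pow_succ']; congr 1; omega⟩
    · rw [hbi, ← two_mul, ← pow_succ'] at e
      have := (pow_dvd_pow_iff (by norm_num : (2 : ℤ) ≠ 0) (by rw [Int.isUnit_iff]; omega)).1 e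
      omega
  have hwC : w ∈ C := zpow_mem hbC _
  have hpow : ∀ x ∈ C, ∃ r : ℤ, x * b * x⁻¹ = b ^ r ∧ ¬ (2 : ℤ) ∣ r := fun x hx => by
    obtain ⟨r, hr⟩ := (hbA _).1 (hAn.conj_mem (a : C) a.2 ⟨x, hx⟩)
    refine ⟨r, hr.symm, fun ⟨k, hk⟩ => ?_⟩
    have h1 : (x * b * x⁻¹) ^ ((2 : ℤ) ^ (n - 1)) = 1 := by
      rw [show x * b * x⁻¹ = b ^ r from hr.symm, ← zpow_mul, hbi, hk, mul_assoc, mul_comm k, ← mul_assoc,
        ← pow_succ', show n - 1 + 1 = n by omega]
      exact dvd_mul_right _ _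
    rw [conj_zpow, conj_eq_one_iff, hbi] at h1
    have := (pow_dvd_pow_iff (by norm_num : (2 : ℤ) ≠ 0) (by rw [Int.isUnit_iff]; omega)).1 h1
    omega
  -- the squares
  have hsquare : ∀ x ∈ C, x * x * (x * x) = 1 → x * x = 1 ∨ x * x = c.z := by
    intro x hx hs
    set s := x * x with hs'
    have hsC : s ∈ C := mul_mem hx hx
    have hsi : s⁻¹ = s := inv_eq_of_mul_eq_one_right hs
    obtain ⟨r, hr, hr2⟩ := hpow x hx
    have hsb : ∀ i : ℤ, s * b ^ i * s⁻¹ = b ^ (r * r * i) := fun i => by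
      rw [hs', show x * x * b ^ i * (x * x)⁻¹ = x * (x * b ^ i * x⁻¹) * x⁻¹ by group, ← conj_zpow, hr,
        ← zpow_mul, ← conj_zpow, hr, ← zpow_mul, mul_assoc]
    have hW : ∀ d ∈ C, d * s * d⁻¹ = s ∨ d * s * d⁻¹ = c.z * s := fun d hd => by
      obtain ⟨rd, hrd, -⟩ := hpow d hd
      have h1 : d * s * d⁻¹ * s⁻¹ * b = b * (d * s * d⁻¹ * s⁻¹) := by
        have hd' : ∀ i : ℤ, d * b ^ i * d⁻¹ = b ^ (rd * i) := fun i => by rw [← conj_zpow, hrd, ← zpow_mul]
        have hs1 := hsb 1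
        rw [zpow_one, mul_one] at hs1
        refine mul_inv_eq_iff_eq_mul.1 ?_
        have h2 : d * s * b * (d * s)⁻¹ = s * d * b * (s * d)⁻¹ := by
          rw [show d * s * b * (d * s)⁻¹ = d * (s * b * s⁻¹) * d⁻¹ by group,
            show s * d * b * (s * d)⁻¹ = s * (d * b * d⁻¹) * s⁻¹ by group, hs1, hd', hrd, hsb, mul_comm]
        calc d * s * d⁻¹ * s⁻¹ * b * (d * s * d⁻¹ * s⁻¹)⁻¹
            = (d * s) * ((s * d)⁻¹ * b * (s * d)) * (d * s)⁻¹ := by group
          _ = b := by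
            set e := (s * d)⁻¹ * b * (s * d) with he
            have h3 : b = s * d * e * (s * d)⁻¹ := by rw [he]; group
            obtain ⟨i, hi⟩ : ∃ i : ℤ, b ^ i = e := (hbA ⟨e, mul_mem (mul_mem (inv_mem (mul_mem hsC hd)) hbC)
              (mul_mem hsC hd)⟩).1 (by
              have := hAn.conj_mem (a : C) a.2 (⟨s * d, mul_mem hsC hd⟩ : C)⁻¹
              rw [inv_inv] at this
              exact this)
            rw [← hi, ← conj_zpow, h2, conj_zpow, hi, ← h3]
      obtain ⟨i, hi⟩ := hcent _ (mul_mem (mul_mem (mul_mem hd hsC) (inv_mem hd)) (inv_mem hsC)) h1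
      have e : d * s * d⁻¹ = b ^ i * s := by rw [hi, inv_mul_cancel_right]
      have h2 : b ^ i * s * (b ^ i * s) = 1 := by
        rw [← e, conj_mul, hs, mul_one, mul_inv_cancel]
      rw [show b ^ i * s * (b ^ i * s) = b ^ i * (s * b ^ i * s⁻¹) * (s * s) by group, hs, mul_one, hsb,
        ← zpow_add, hbi] at h2
      have h3 : (2 : ℤ) ^ (n - 1) ∣ i := two_odd_dvd (n := n - 1) hr2 (by
        rw [show n - 1 + 1 = n by omega]
        rw [show i + r * r * i = i * (1 + r * r) by ring] at h2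
        exact h2)
      rcases hbz i (by
        rw [← zpow_add, hbi, ← two_mul]
        calc (2 : ℤ) ^ n = 2 * 2 ^ (n - 1) := by rw [← pow_succ', show n - 1 + 1 = n by omega]
          _ ∣ 2 * i := mul_dvd_mul_left 2 h3) with e' | e'
      · left; rw [e, e', one_mul]
      · right; rw [e, e']
    refine hsmall {s} (Set.singleton_subset_iff.2 hsC) (by simp) (by simpa using hs) (fun d hd y hy => ?_) s rfl
    rw [Set.mem_singleton_iff.1 hy]
    rcases hW d hd with e | e <;> rw [e]
    · exact subset_closure (Or.inl rfl)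
    · exact mul_mem (subset_closure (Or.inr c.zU)) (subset_closure (Or.inl rfl))
  have hTsq : ∀ g ∈ c.S, g * g * (g * g) = 1 → g * g ≠ 1 → g * g = c.z := by
    intro g hg h4 h1
    obtain ⟨d, hd, x, hx, rfl⟩ := hg_eq g hg
    have hd2 : d * d = 1 ∨ d * d = c.z := by
      rcases hd with rfl | rfl | rfl | rfl
      · left; simp
      · exact Or.inl c.u2
      · exact Or.inl h.v2
      · right
        rw [show c.u * v * (c.u * v) = c.u * (v * c.u * v⁻¹) * (v * v) by group, h.v2, mul_one, h.vu,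
          ← mul_assoc, ← c.zu, mul_assoc, c.u2, mul_one]
    have e : d * x * (d * x) = d * d * (x * x) :=
      (show Commute d x from hCD d hd x hx).symm.mul_mul_mul_comm d x
    rw [e] at h4 h1 ⊢
    rcases hd2 with r | r <;> rw [r] at h4 h1 ⊢
    · rw [one_mul] at h4 h1 ⊢
      exact (hsquare x hx h4).resolve_left h1
    · have hs4 : x * x * (x * x) = 1 := by
        rw [show c.z * (x * x) * (c.z * (x * x)) = c.z * ((x * x) * c.z) * (x * x) by group,
          c.zc (mul_mem (hCS hx) (hCS hx)), ← mul_assoc c.z, c.z2, one_mul] at h4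
        exact h4
      rcases hsquare x hx hs4 with r' | r'
      · rw [r', mul_one]
      · rw [r', c.z2] at h1; exact absurd rfl h1
  -- every involution centralises a square root of `z`
  have hroot : ∀ p ∈ c.S, p * p = 1 → ∃ y ∈ c.S, y * p = p * y ∧ y * y = c.z := by
    intro p hp _
    obtain ⟨d, hd, x, hx, rfl⟩ := hg_eq p hp
    have hwd := hCD d hd w hwC
    by_cases hxw : x * w = w * x
    · exact ⟨w, hCS hwC, by rw [← mul_assoc, ← hwd, mul_assoc, ← hxw, mul_assoc], hww⟩
    obtain ⟨r, hr, -⟩ := hpow x hx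
    have hxw' : x * w * x⁻¹ = c.z * w := by
      have hi : x * w * x⁻¹ = b ^ (r * (2 : ℤ) ^ (n - 2)) := by rw [hw, ← conj_zpow, hr, ← zpow_mul]
      have h2 : (x * w * x⁻¹ * w⁻¹) * (x * w * x⁻¹ * w⁻¹) = 1 := by
        rw [hi, hw, ← zpow_neg, ← zpow_add, ← zpow_add, hbi,
          show r * (2 : ℤ) ^ (n - 2) + -2 ^ (n - 2) + (r * 2 ^ (n - 2) + -2 ^ (n - 2))
            = (r - 1) * (2 * 2 ^ (n - 2)) by ring, ← pow_succ', show n - 2 + 1 = n - 1 by omega]
        obtain ⟨k, hk⟩ : (2 : ℤ) ∣ r - 1 := by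
          obtain ⟨r', hr', hr2⟩ := hpow x hx
          rw [hr] at hr'
          have h5 : (2 : ℤ) ^ n ∣ r - r' := by rw [← hbi, zpow_sub, hr', mul_inv_cancel]
          have h6 := (dvd_pow_self (2 : ℤ) (show n ≠ 0 by omega)).trans h5
          omega
        rw [hk, mul_comm 2 k, mul_assoc, ← pow_succ', show n - 1 + 1 = n by omega]
        exact dvd_mul_left _ _
      have hmem : x * w * x⁻¹ * w⁻¹ = b ^ (r * (2 : ℤ) ^ (n - 2) + -2 ^ (n - 2)) := by
        rw [hi, hw, ← zpow_neg, ← zpow_add]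
      rcases hbz _ (hmem ▸ h2) with e | e <;> rw [← hmem] at e
      · exact absurd (mul_inv_eq_iff_eq_mul.1 (mul_inv_eq_one.1 e)) hxw
      · exact mul_inv_eq_iff_eq_mul.1 e
    have hxw'' : x * w = c.z * (w * x) := by
      rw [← mul_assoc]; exact mul_inv_eq_iff_eq_mul.1 hxw'
    -- an element of `{u, v}` not commuting with `d`, or `u v`
    have key : ∀ e ∈ ({1, c.u, v, c.u * v} : Set G), e * e = 1 → d * e = c.z * (e * d) →
        ∃ y ∈ c.S, y * (d * x) = d * x * y ∧ y * y = c.z := by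
      intro e he he2 hde
      have hew := hCD e he w hwC
      refine ⟨e * w, mul_mem (hdS e he) (hCS hwC), ?_, ?_⟩
      · symm
        calc d * x * (e * w) = d * (x * e) * w := by group
          _ = d * (e * x) * w := by rw [hCD e he x hx]
          _ = (d * e) * (x * w) := by group
          _ = c.z * (e * d) * (c.z * (w * x)) := by rw [hde, hxw'']
          _ = c.z * ((e * d) * c.z) * (w * x) := by group
          _ = (c.z * c.z) * (e * (d * w) * x) := by rw [c.zc (mul_mem (hdS e he) (hdS d hd))]; group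
          _ = e * w * (d * x) := by rw [c.z2, one_mul, hwd]; group
      · rw [(show Commute e w from hew).symm.mul_mul_mul_comm e w, he2, one_mul, hww]
    have hvu : v * c.u = c.z * (c.u * v) := by rw [← mul_assoc]; exact mul_inv_eq_iff_eq_mul.1 h.vu
    have huv' : c.u * v = c.z * (v * c.u) := by rw [← mul_assoc]; exact mul_inv_eq_iff_eq_mul.1 huv
    rcases hd with rfl | rfl | rfl | rfl
    · refine ⟨c.u * v, mul_mem c.uS h.vS, ?_, ?_⟩
      · rw [one_mul]; exact hCD _ (by simp) x hx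
      · rw [show c.u * v * (c.u * v) = c.u * (v * c.u * v⁻¹) * (v * v) by group, h.v2, mul_one, h.vu,
          ← mul_assoc, ← c.zu, mul_assoc, c.u2, mul_one]
    · exact key v (by simp) h.v2 huv'
    · exact key c.u (by simp) c.u2 hvu
    · refine key c.u (by simp) c.u2 ?_
      rw [mul_assoc c.u v c.u, hvu, ← mul_assoc c.u c.z, c.zc c.uS, mul_assoc]
  obtain ⟨g, hgS, hgne⟩ := c.exists_conj_ne c.zS c.z2 c.z1
  set p := g * c.z * g⁻¹ with hp
  have hp2 : p * p = 1 := by rw [hp, conj_mul, c.z2, mul_one, mul_inv_cancel]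
  obtain ⟨y, hyS, hyp, hy2⟩ := hroot p hgS hp2
  obtain ⟨k, hk, hkS⟩ := c.to_z hgS ⟨g, rfl⟩
  set y' := k * y * k⁻¹ with hy'
  have hy'S : y' ∈ c.S := hkS y hyS hyp
  have e : y' * y' = k * c.z * k⁻¹ := by rw [hy', conj_mul, hy2]
  have h5 : k * c.z * k⁻¹ = c.z := by
    refine e ▸ hTsq y' hy'S (by rw [e, conj_mul, c.z2, mul_one, mul_inv_cancel]) ?_
    rw [e]
    exact fun h => c.z1 (conj_eq_one_iff.1 h)
  exact hgne ((mul_left_cancel (mul_right_cancel (hk.trans h5.symm))))

/-- `U` is the only normal four-group. -/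
theorem four_unique (c : Hyp G) {V : Subgroup G} (hVS : V ≤ c.S) (hV : Cfsg.IsElementaryAbelian 2 V)
    (hV4 : Nat.card V = 4) (hn : ∀ x ∈ c.S, ∀ v ∈ V, x * v * x⁻¹ ∈ V) : V = c.U := by
  classical
  by_cases hcomm : ∀ a ∈ V, a * c.u = c.u * a
  · have hE := elemAb_closure ((V : Set G) ∪ (c.U : Set G))
      (fun x hx y hy => by
        rcases hx with hx | hx <;> rcases hy with hy | hy
        · exact elemAb_comm hV hx hy
        · exact (c.four.commute_all c.uU c.u1 c.uz (hVS hx) (hcomm x hx) hy).eq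
        · exact (c.four.commute_all c.uU c.u1 c.uz (hVS hy) (hcomm y hy) hx).symm.eq
        · exact elemAb_comm c.four.elem hx hy)
      (fun x hx => hx.elim (fun h => elemAb_sq hV h) fun hx => c.four.mul_self hx)
    have he := c.le_U ((closure_le _).2 (Set.union_subset hVS c.UleS)) hE
      (fun g hg e he => by
        induction he using closure_induction with
        | mem y hy =>
          rcases hy with hy | hy
          · exact subset_closure (Or.inl (hn g hg y hy))
          · exact subset_closure (Or.inr (c.Unormal hg hy))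
        | one => simp
        | mul x y _ _ ihx ihy => rw [← conj_mul]; exact mul_mem ihx ihy
        | inv x _ ih => rw [← conj_inv]; exact inv_mem ih)
      fun x hx => subset_closure (Or.inr hx)
    exact eq_of_le_of_card_ge (fun x hx => he ▸ subset_closure (Or.inl hx)) (by rw [c.card_U, hV4])
  push Not at hcomm
  obtain ⟨v, hvV, hvu⟩ := hcomm
  exfalso
  have hvS := hVS hvV
  have hvo := c.out hvS fun e => hvu (c.mem_T0.1 e).2
  have hzV : c.z ∈ V := by
    have h1 : c.u * v * c.u⁻¹ * v⁻¹ ∈ V := mul_mem (hn _ c.uS v hvV) (inv_mem hvV)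
    rw [show c.u * v * c.u⁻¹ * v⁻¹ = c.u * (v * c.u * v⁻¹)⁻¹ by group, hvo, mul_inv_rev, c.zi, c.ui,
      ← mul_assoc, c.u2, one_mul] at h1
    exact h1
  have hfour : FourIn c.T V c.z := ⟨hVS, hV, hV4, hzV, c.four.ord, c.four.central, hn⟩
  refine Second.false (c := c) (v := v) ⟨hvS, elemAb_sq hV hvV, fun g hg => hfour.conj_cases hvV ?_ ?_ hg, hvo⟩
  · rintro rfl; simp at hvu
  · rintro rfl; exact hvu c.zu

end Hyp

end Cfsg.Agent.Transfer.NoEight
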